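import Cfsg.Agent.Lib.CharExtra.FongReynolds
import Cfsg.Agent.Lib.Techniques.SylowIn
import Cfsg.Prelude.Def_BrauerPairs

/-!
# Stable blocks of a normal subgroup of `p`-power index
-/

set_option autoImplicit false
set_option linter.unusedSectionVars false
set_option linter.unusedSimpArgs false
set_option linter.unusedVariables false

open scoped ComplexConjugate
open Cfsg MonoidAlgebra
open Cfsg.Agent.Lib.Block Cfsg.Agent.Lib.Char

namespace Cfsg.Agent.Lib.CharExtra

section Sum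

variable {G : Type*} [Group G] [Fintype G] (N : Subgroup G) [hN : N.Normal] [Fintype N]

theorem card_sup_centralizer {g : G} (hg : g ∈ N) :
    Nat.card (N ⊔ Subgroup.centralizer ({g} : Set G) : Subgroup G) =
      (Subgroup.centralizer ({(⟨g, hg⟩ : N)} : Set N)).index *
        Nat.card (Subgroup.centralizer ({g} : Set G)) := by
  set C := Subgroup.centralizer ({g} : Set G) with hC
  set A := Subgroup.centralizer ({(⟨g, hg⟩ : N)} : Set N) with hA
  have h1 : Nat.card (N.subgroupOf (N ⊔ C)) * N.relIndex (N ⊔ C) = Nat.card (N ⊔ C : Subgroup G) :=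
    Subgroup.card_mul_index _
  have h2 : Nat.card (N.subgroupOf C) * N.relIndex C = Nat.card C := Subgroup.card_mul_index _
  have h3 : N.relIndex (N ⊔ C) = N.relIndex C := Subgroup.relIndex_sup_left _ _
  have h4 : Nat.card (N.subgroupOf (N ⊔ C)) = Nat.card N :=
    Nat.card_congr (Subgroup.subgroupOfEquivOfLe le_sup_left).toEquiv
  have h5 : Nat.card (N.subgroupOf C) = Nat.card A := by
    apply Nat.card_congr
    refine ⟨fun x => ⟨⟨x.1.1, x.2⟩, ?_⟩, fun x => ⟨⟨x.1.1, ?_⟩, ?_⟩, ?_, ?_⟩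
    · have := Cfsg.Agent.Lib.Block.mem_centralizer_singleton.1 x.1.2
      exact Cfsg.Agent.Lib.Block.mem_centralizer_singleton.2 (Subtype.ext this)
    · have := Cfsg.Agent.Lib.Block.mem_centralizer_singleton.1 x.2
      exact Cfsg.Agent.Lib.Block.mem_centralizer_singleton.2 (congrArg Subtype.val this)
    · exact x.1.2
    · intro x
      rfl
    · intro x
      rfl
  have h6 : Nat.card A * A.index = Nat.card N := Subgroup.card_mul_index _
  have hpos : 0 < Nat.card A := Nat.card_pos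
  apply Nat.eq_of_mul_eq_mul_left hpos
  rw [← h1, h3, h4, ← h2, h5, ← h6]
  ring

/-- The central character of `χ` at `g ∈ N`, through a constituent `θ` and its conjugates. -/
theorem centralChar_eq_sum_conj (χ : IrrCharacter G) (θ : IrrCharacter N)
    (h : classInner (fun n : N => (χ : G → ℂ) n) (θ : N → ℂ) ≠ 0) {g : G} (hg : g ∈ N)
    (T : Subgroup G) (hT : T = N ⊔ Subgroup.centralizer ({g} : Set G)) [Fintype (G ⧸ T)] :
    centralChar (χ : G → ℂ) g = ∑ q : G ⧸ T,
      centralChar (conjIrr N q.out θ : N → ℂ) ⟨g, hg⟩ := by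
  classical
  set C := Subgroup.centralizer ({g} : Set G) with hC
  haveI : Fintype T := Fintype.ofFinite _
  have h1 := (constituent_iff_centralChar N χ θ).1 h ⟨g, hg⟩
  simp only at h1
  rw [h1, ← centralChar_ind θ g]
  set A := Subgroup.centralizer ({(⟨g, hg⟩ : N)} : Set N) with hA
  have hθ1 : (θ : N → ℂ) 1 ≠ 0 := isIrr_one_ne_zero θ.2
  -- conjugates
  set f : G → ℂ := fun x => ((conjIrr N x θ : IrrCharacter N) : N → ℂ) ⟨g, hg⟩ with hf
  have hfval : ∀ x : G, f x = (θ : N → ℂ) ⟨x * g * x⁻¹, hN.conj_mem g hg x⟩ := fun x => rfl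
  have hinv : ∀ x : G, ∀ t ∈ T, f (x * t) = f x := by
    intro x t ht
    have hcl := IsCharacter.isClassFunction (IsIrrCharacter.isCharacter θ.2)
    rw [hT, ← SetLike.mem_coe, Subgroup.normal_mul] at ht
    obtain ⟨n, hn, c, hc, rfl⟩ := Set.mem_mul.1 ht
    have hc' : c * g * c⁻¹ = g := by
      have hc2 : c ∈ C := hc
      rw [Cfsg.Agent.Lib.Block.mem_centralizer_singleton.1 hc2]
      group
    rw [hfval, hfval]
    have hm : x * n * x⁻¹ ∈ N := hN.conj_mem n hn x
    have e := hcl ⟨x * g * x⁻¹, hN.conj_mem g hg x⟩ ⟨x * n * x⁻¹, hm⟩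
    rw [← e]
    refine congrArg _ (Subtype.ext ?_)
    show x * (n * c) * g * (x * (n * c))⁻¹ = x * n * x⁻¹ * (x * g * x⁻¹) * (x * n * x⁻¹)⁻¹
    calc x * (n * c) * g * (x * (n * c))⁻¹ = x * n * (c * g * c⁻¹) * n⁻¹ * x⁻¹ := by group
      _ = _ := by rw [hc']; group
  have hsum := sum_eq_card_mul_sum_quotient (T := T) f hinv
  have hval : ∀ x : G, centralChar ((conjIrr N x θ : IrrCharacter N) : N → ℂ) ⟨g, hg⟩ =
      (A.index : ℂ) * f x / (θ : N → ℂ) 1 := by
    intro x
    unfold centralChar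
    rw [conjIrr_coe, conjFn_map_one]
    rfl
  simp only [hval]
  rw [← Finset.sum_div, ← Finset.mul_sum, ← hsum]
  unfold centralChar
  rw [indFun_one]
  have hind : indFun N (θ : N → ℂ) g = (Nat.card N : ℂ)⁻¹ * ∑ x : G, f x := by
    rw [indFun_apply]
    congr 1
    rw [← Equiv.sum_comp (Equiv.inv G)]
    refine Finset.sum_congr rfl fun x _ => ?_
    have hm : ((Equiv.inv G) x)⁻¹ * g * (Equiv.inv G) x ∈ N := by
      simpa using hN.conj_mem g hg x
    rw [extendByZero_of_mem N _ hm, hfval]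
    refine congrArg _ (Subtype.ext ?_)
    simp
  rw [hind]
  have hcard := card_sup_centralizer N hg
  rw [← hC, ← hA, ← hT] at hcard
  have e1 : (Nat.card T : ℂ) = (A.index : ℂ) * (Nat.card C : ℂ) := by exact_mod_cast hcard
  have e2 : (Nat.card G : ℂ) = (Nat.card C : ℂ) * (C.index : ℂ) := by
    exact_mod_cast (Subgroup.card_mul_index C).symm
  have e3 : (Nat.card G : ℂ) = (Nat.card N : ℂ) * (N.index : ℂ) := by
    exact_mod_cast (Subgroup.card_mul_index N).symm
  have hC0 : (Nat.card C : ℂ) ≠ 0 := card_subgroup_ne_zero C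
  have hCi : (C.index : ℂ) ≠ 0 := by exact_mod_cast Subgroup.index_ne_zero_of_finite
  have hN0 : (Nat.card N : ℂ) ≠ 0 := card_subgroup_ne_zero N
  have hNi : (N.index : ℂ) ≠ 0 := by exact_mod_cast Subgroup.index_ne_zero_of_finite
  have hT0 : (Nat.card T : ℂ) ≠ 0 := card_subgroup_ne_zero T
  have hAi : (A.index : ℂ) ≠ 0 := by exact_mod_cast Subgroup.index_ne_zero_of_finite
  have e4 : (C.index : ℂ) * (Nat.card C : ℂ) = (N.index : ℂ) * (Nat.card N : ℂ) := by
    rw [mul_comm (C.index : ℂ), ← e2, mul_comm (N.index : ℂ), ← e3]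
  field_simp
  rw [← hC, e1]
  linear_combination (∑ x : G, f x) * (A.index : ℂ) * e4

variable {M : Ideal AlgInt} [hMp : M.IsPrime] {p : ℕ} [hp : Fact p.Prime]

variable {M : Ideal AlgInt} [hMp : M.IsPrime] {p : ℕ} [hp : Fact p.Prime]

/-- Congruence for the central character of a character over a stable block. -/
theorem centralChar_sub_index_mem {c : Set (IrrCharacter N)} (hc : IsPBlock M c)
    (hst : ∀ (x : G) (θ : IrrCharacter N), θ ∈ c → conjIrr N x θ ∈ c) (χ : IrrCharacter G)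
    {θ : IrrCharacter N} (hθ : θ ∈ c)
    (h : classInner (fun n : N => (χ : G → ℂ) n) (θ : N → ℂ) ≠ 0) {g : G} (hg : g ∈ N)
    (T : Subgroup G) (hT : T = N ⊔ Subgroup.centralizer ({g} : Set G)) :
    MemLocalIdeal M (centralChar (χ : G → ℂ) g - (T.index : ℂ) * centralChar (θ : N → ℂ) ⟨g, hg⟩) := by
  classical
  haveI : Fintype (G ⧸ T) := Fintype.ofFinite _
  rw [centralChar_eq_sum_conj N χ θ h hg T hT]
  have hcard : (T.index : ℂ) = ∑ _q : G ⧸ T, (1 : ℂ) := by
    simp only [Finset.sum_const, Finset.card_univ, nsmul_eq_mul, mul_one]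
    rw [Subgroup.index, Nat.card_eq_fintype_card]
  rw [hcard, Finset.sum_mul, ← Finset.sum_sub_distrib]
  apply memLocalIdeal_sum
  intro q _
  rw [one_mul]
  exact sameBlock_of_mem hc (hst _ _ hθ) hθ _

/-- Defect classes of a stable block of a normal subgroup of `p`-power index. -/
theorem sup_centralizer_eq_top (hM : IsPModular p M) (hidx : ∃ k : ℕ, N.index = p ^ k)
    {c : Set (IrrCharacter N)} (hc : IsPBlock M c)
    (hst : ∀ (x : G) (θ : IrrCharacter N), θ ∈ c → conjIrr N x θ ∈ c) {χ : IrrCharacter G}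
    {θ : IrrCharacter N} (hθ : θ ∈ c)
    (h : classInner (fun n : N => (χ : G → ℂ) n) (θ : N → ℂ) ≠ 0) {g : G} (hg : g ∈ N)
    (hχg : ¬ MemLocalIdeal M (centralChar (χ : G → ℂ) g)) :
    N ⊔ Subgroup.centralizer ({g} : Set G) = ⊤ ∧ ¬ MemLocalIdeal M (centralChar (θ : N → ℂ) ⟨g, hg⟩) := by
  classical
  set T := N ⊔ Subgroup.centralizer ({g} : Set G) with hT
  have h1 := centralChar_sub_index_mem N hc hst χ hθ h hg T hT
  have hloc : MemLocalRing M (centralChar (θ : N → ℂ) ⟨g, hg⟩) := memLocalRing_centralChar θ.2 _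
  have hdvd : T.index ∣ p ^ hidx.choose := by
    rw [← hidx.choose_spec]
    exact Subgroup.index_dvd_of_le le_sup_left
  obtain ⟨j, -, hj⟩ := (Nat.dvd_prime_pow hp.out).1 hdvd
  have hone : T.index = 1 := by
    by_contra hne
    have hj0 : j ≠ 0 := by
      rintro rfl
      exact hne (by simpa using hj)
    apply hχg
    have hpd : p ∣ T.index := by
      rw [hj]
      exact dvd_pow_self p hj0
    have h2 : MemLocalIdeal M ((T.index : ℂ) * centralChar (θ : N → ℂ) ⟨g, hg⟩) :=
      memLocalIdeal_mul_right ((memLocalIdeal_natCast_iff hM _).2 hpd) hloc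
    have h3 := memLocalIdeal_add h1 h2
    simpa using h3
  refine ⟨Subgroup.index_eq_one.1 hone, fun hcon => hχg ?_⟩
  rw [hone] at h1
  have h3 := memLocalIdeal_add h1 hcon
  simpa using h3

/-- `c` is stable in the sense of `StabilizesBlock`. -/
theorem stable_of_stabilizes {c : Set (IrrCharacter N)} (hst : ∀ x : G, StabilizesBlock N c x) :
    ∀ (x : G) (θ : IrrCharacter N), θ ∈ c → conjIrr N x θ ∈ c := by
  intro x θ hθ
  obtain ⟨-, h⟩ := hst x⁻¹
  obtain ⟨χ', hχ', hc⟩ := h θ hθ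
  have : χ' = conjIrr N x θ := by
    apply Subtype.ext
    funext n
    have hm : x * (n : G) * x⁻¹ ∈ N := hN.conj_mem n n.2 x
    have := hc ⟨x * (n : G) * x⁻¹, hm⟩ n (by simp only [inv_inv]; group)
    exact this
  rwa [← this]

theorem stabilizes_of_stable {c : Set (IrrCharacter N)}
    (hst : ∀ (x : G) (θ : IrrCharacter N), θ ∈ c → conjIrr N x θ ∈ c) (x : G) :
    StabilizesBlock N c x := by
  refine ⟨Subgroup.mem_normalizer_iff.2 ?_, ?_⟩
  · intro n
    constructor
    · intro hn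
      exact hN.conj_mem _ hn x
    · intro hn
      have := hN.conj_mem _ hn x⁻¹
      simpa [mul_assoc] using this
  · intro θ hθ
    refine ⟨_, hst x⁻¹ θ hθ, ?_⟩
    intro k k' hk
    show (θ : N → ℂ) _ = _
    refine congrArg _ (Subtype.ext ?_)
    simp [hk, mul_assoc]

/-- The block of `G` above a stable block of a normal subgroup of `p`-power index. -/
theorem overSet_isPBlock (hM : IsPModular p M) (hidx : ∃ k : ℕ, N.index = p ^ k)
    {c : Set (IrrCharacter N)} (hc : IsPBlock M c)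
    (hst : ∀ (x : G) (θ : IrrCharacter N), θ ∈ c → conjIrr N x θ ∈ c) :
    IsPBlock M (overSet N c) := by
  classical
  obtain ⟨θ₀, hθ₀⟩ := IsPBlock_nonempty hc
  obtain ⟨χ₀, hχ₀⟩ := exists_irr_over N θ₀
  have hbu := isBlockUnion_over N hst (isBlockUnion_of_isPBlock hc)
  refine ⟨χ₀, ?_⟩
  ext χ
  constructor
  · rintro ⟨θ, hθ, hχ⟩
    exact sameBlock_of_sameBlock_constituent N hM hidx hχ₀ hχ (sameBlock_of_mem hc hθ₀ hθ)
  · intro h
    by_contra hcon
    exact hbu χ₀ ⟨θ₀, hθ₀, hχ₀⟩ χ hcon h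

theorem blockCoeff_overSet {c : Set (IrrCharacter N)}
    (hst : ∀ (x : G) (θ : IrrCharacter N), θ ∈ c → conjIrr N x θ ∈ c) (g : G) :
    blockCoeff (overSet N c) g = subgroupBlockCoeff N c g := by
  classical
  rw [← coeff_blockElt, ← incl_blockElt_eq_over N hst]
  unfold subgroupBlockCoeff
  by_cases hg : g ∈ N
  · have := coeff_incl_coe N (blockElt c) ⟨g, hg⟩
    simp only at this
    simp only [dif_pos hg]
    rw [this, coeff_blockElt]
  · simp only [dif_neg hg]
    rw [coeff_incl_of_notMem N _ hg]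

theorem eq_overSet_of_coeff {c : Set (IrrCharacter N)}
    (hst : ∀ (x : G) (θ : IrrCharacter N), θ ∈ c → conjIrr N x θ ∈ c)
    {B : Set (IrrCharacter G)} (h : ∀ g : G, blockCoeff B g = subgroupBlockCoeff N c g) :
    B = overSet N c := by
  classical
  have h1 : blockElt B = blockElt (overSet N c) := by
    apply ext_coeff
    intro g
    rw [coeff_blockElt, coeff_blockElt, h, blockCoeff_overSet N hst]
  ext χ
  have h2 := om_blockElt B χ
  rw [h1, om_blockElt] at h2
  constructor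
  · intro hχ
    rw [if_pos hχ] at h2
    by_contra hcon
    rw [if_neg hcon] at h2
    exact zero_ne_one h2
  · intro hχ
    rw [if_pos hχ] at h2
    by_contra hcon
    rw [if_neg hcon] at h2
    exact one_ne_zero h2

/-- **Main theorem.** -/
theorem defect_of_stable (hM : IsPModular p M) (hidx : ∃ k : ℕ, N.index = p ^ k)
    {c : Set (IrrCharacter N)} (hc : IsPBlock M c)
    (hst : ∀ (x : G) (θ : IrrCharacter N), θ ∈ c → conjIrr N x θ ∈ c)
    {B : Set (IrrCharacter G)} (hB : IsPBlock M B)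
    (hcoeff : ∀ g : G, blockCoeff B g = subgroupBlockCoeff N c g) {P : Subgroup G}
    (hP : IsDefectGroup p M B P) :
    N ⊔ P = ⊤ ∧ IsDefectGroup p M c ((P ⊓ N).subgroupOf N) := by
  classical
  obtain ⟨g, hg, S, hPe⟩ := hP
  have hBO := eq_overSet_of_coeff N hst hcoeff
  have hgN : g ∈ N := by
    by_contra hcon
    apply hg.2.1
    rw [hcoeff]
    unfold subgroupBlockCoeff
    simp only [dif_neg hcon]
    exact memLocalIdeal_zero
  obtain ⟨χ, hχ⟩ := IsPBlock_nonempty hB
  obtain ⟨θ, hθ, hcn⟩ : χ ∈ overSet N c := hBO ▸ hχ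
  obtain ⟨hsup, hw⟩ := sup_centralizer_eq_top N hM hidx hc hst hθ hcn hgN (hg.2.2 χ hχ)
  have hPC : P ≤ Subgroup.centralizer ({g} : Set G) := by
    rw [hPe]
    exact Subgroup.map_subtype_le _
  have hPp : IsPGroup p P := by
    rw [hPe]
    exact S.isPGroup'.map _
  refine ⟨?_, ?_⟩
  · -- the image of `S` in `G/N` is everything
    have hq : IsPGroup p (G ⧸ N) := by
      obtain ⟨k, hk⟩ := hidx
      exact IsPGroup.of_card (by rw [← Subgroup.index_eq_card, hk])
    set φ : Subgroup.centralizer ({g} : Set G) →* G ⧸ N :=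
      (QuotientGroup.mk' N).comp (Subgroup.centralizer ({g} : Set G)).subtype with hφ
    have hsurj : Function.Surjective φ := by
      intro y
      obtain ⟨x, rfl⟩ := QuotientGroup.mk'_surjective N y
      have hx : x ∈ N ⊔ Subgroup.centralizer ({g} : Set G) := by rw [hsup]; exact Subgroup.mem_top _
      rw [← SetLike.mem_coe, Subgroup.normal_mul] at hx
      obtain ⟨n, hn, c', hc', rfl⟩ := Set.mem_mul.1 hx
      refine ⟨⟨c', hc'⟩, ?_⟩
      show (QuotientGroup.mk' N) c' = (QuotientGroup.mk' N) (n * c')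
      have hn1 : QuotientGroup.mk' N n = 1 := (QuotientGroup.eq_one_iff n).2 hn
      rw [map_mul, hn1, one_mul]
    have h1 : (S : Subgroup (Subgroup.centralizer ({g} : Set G))).map φ = ⊤ :=
      ((S.mapSurjective hsurj).is_maximal' (hq.to_subgroup ⊤) le_top).symm
    rw [eq_top_iff]
    intro x _
    have h2 : (QuotientGroup.mk' N x) ∈ (S : Subgroup (Subgroup.centralizer ({g} : Set G))).map φ := by
      rw [h1]
      exact Subgroup.mem_top _
    obtain ⟨y, hy, hyx⟩ := h2
    have h3 : (y : G)⁻¹ * x ∈ N := by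
      rw [← QuotientGroup.eq]
      exact hyx
    have h4 : (y : G) ∈ P := by
      rw [hPe]
      exact ⟨y, hy, rfl⟩
    have : x = (y : G) * ((y : G)⁻¹ * x) := by group
    rw [this]
    exact Subgroup.mul_mem _ (Subgroup.mem_sup_right h4) (Subgroup.mem_sup_left h3)
  · -- the defect class
    have hcoef : blockCoeff c ⟨g, hgN⟩ = blockCoeff B g := by
      rw [hcoeff]
      unfold subgroupBlockCoeff
      simp only [dif_pos hgN]
    refine ⟨⟨g, hgN⟩, ⟨memLocalRing_blockCoeff (isBlockUnion_of_isPBlock hc) _, by rw [hcoef]; exact hg.2.1, ?_⟩, ?_⟩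
    · intro θ' hθ' hcon
      apply hw
      have h1 := sameBlock_of_mem hc hθ hθ' ⟨g, hgN⟩
      have h3 := memLocalIdeal_add h1 hcon
      simpa using h3
    · have hsy : Cfsg.Agent.Lib.Techniques.SylowIn p P (Subgroup.centralizer ({g} : Set G)) := by
        rw [hPe]
        exact Cfsg.Agent.Lib.Techniques.sylowIn_of_sylow S
      obtain ⟨C, hC⟩ : ∃ C, C = Subgroup.centralizer ({g} : Set G) := ⟨_, rfl⟩
      rw [← hC] at hsy hPC
      set A := Subgroup.centralizer ({(⟨g, hgN⟩ : N)} : Set N) with hA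
      set R := (P ⊓ N).subgroupOf N with hR
      have hRA : R ≤ A := by
        intro x hx
        have h1 : (x : G) ∈ P := (Subgroup.mem_subgroupOf.1 hx).1
        have h2 := Cfsg.Agent.Lib.Block.mem_centralizer_singleton.1 (hC ▸ hPC h1)
        exact Cfsg.Agent.Lib.Block.mem_centralizer_singleton.2 (Subtype.ext h2)
      have hAmap : A.map N.subtype = N ⊓ C := by
        ext x
        constructor
        · rintro ⟨y, hy, rfl⟩
          refine ⟨y.2, ?_⟩
          have := Cfsg.Agent.Lib.Block.mem_centralizer_singleton.1 hy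
          rw [hC]
          exact Cfsg.Agent.Lib.Block.mem_centralizer_singleton.2 (congrArg Subtype.val this)
        · rintro ⟨h1, h2⟩
          refine ⟨⟨x, h1⟩, ?_, rfl⟩
          rw [hC] at h2
          have := Cfsg.Agent.Lib.Block.mem_centralizer_singleton.1 h2
          exact Cfsg.Agent.Lib.Block.mem_centralizer_singleton.2 (Subtype.ext this)
      have hRmap : R.map N.subtype = P ⊓ N := by
        rw [hR, Subgroup.map_subgroupOf_eq_of_le inf_le_right]
      have hsy2 := hsy.inf_of_normal (N := N ⊓ C) inf_le_right (by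
        intro x hx
        rw [Subgroup.mem_normalizer_iff]
        intro y
        constructor
        · rintro ⟨h1, h2⟩
          exact ⟨hN.conj_mem y h1 x, C.mul_mem (C.mul_mem hx h2) (C.inv_mem hx)⟩
        · rintro ⟨h1, h2⟩
          have e : y = x⁻¹ * (x * y * x⁻¹) * x := by group
          refine ⟨?_, ?_⟩
          · rw [e]
            have := hN.conj_mem _ h1 x⁻¹
            simpa using this
          · rw [e]
            exact C.mul_mem (C.mul_mem (C.inv_mem hx) h2) hx)
      have hinf : P ⊓ (N ⊓ C) = P ⊓ N := by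
        apply le_antisymm
        · exact inf_le_inf_left _ inf_le_left
        · exact le_inf inf_le_left (le_inf inf_le_right (inf_le_left.trans hPC))
      rw [hinf] at hsy2
      have hRp : IsPGroup p (R.subgroupOf A) := by
        have h1 : IsPGroup p R := by
          apply IsPGroup.of_equiv (G := (P ⊓ N : Subgroup G)) (hPp.to_le inf_le_left)
          exact (Subgroup.subgroupOfEquivOfLe (inf_le_right : P ⊓ N ≤ N)).symm
        exact h1.of_equiv (Subgroup.subgroupOfEquivOfLe hRA).symm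
      have hRi : ¬ p ∣ (R.subgroupOf A).index := by
        have h1 : (R.subgroupOf A).index = R.relIndex A := rfl
        have h2 : (R.map N.subtype).relIndex (A.map N.subtype) = R.relIndex A :=
          Subgroup.relIndex_map_map_of_injective _ _ N.subtype_injective
        rw [h1, ← h2, hRmap, hAmap]
        exact hsy2.2.2
      refine ⟨hRp.toSylow hRi, ?_⟩
      show R = (R.subgroupOf A).map A.subtype
      rw [Subgroup.map_subgroupOf_eq_of_le hRA]

end Sum

section Core

variable {G : Type*} [Group G] [Fintype G] {M : Ideal AlgInt} [hMp : M.IsPrime] {p : ℕ}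
  [hp : Fact p.Prime] {N T : Subgroup G} [hN : N.Normal] [Fintype N] [Fintype T]

theorem isPBlock_image_transIrr (hNT : N ≤ T) {c : Set (IrrCharacter N)} (hc : IsPBlock M c) :
    IsPBlock M (transIrr N T hNT '' c) := by
  classical
  obtain ⟨θ₀, hθ₀⟩ := IsPBlock_nonempty hc
  refine ⟨transIrr N T hNT θ₀, ?_⟩
  have hU := isBlockUnion_image_transIrr (T := T) hNT (isBlockUnion_of_isPBlock hc)
  ext θ'
  constructor
  · rintro ⟨θ, hθ, rfl⟩
    exact sameBlock_comp_equiv (Subgroup.subgroupOfEquivOfLe hNT) (sameBlock_of_mem hc hθ₀ hθ)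
  · intro h
    by_contra hcon
    exact hU _ ⟨θ₀, hθ₀, rfl⟩ θ' hcon h

end Core

section Core2

variable {G : Type*} [Group G] [Fintype G] {M : Ideal AlgInt} [hMp : M.IsPrime] {p : ℕ}
  [hp : Fact p.Prime]

/-- Core of the statement on stabilizers: the stable case. -/
theorem le_of_cover_defect_le (hM : IsPModular p M) (N L : Subgroup G) [hN : N.Normal] [hL : L.Normal]
    [Fintype N] [Fintype L] (hNL : N ≤ L) (hidx : ∃ k : ℕ, (N.subgroupOf L).index = p ^ k)
    {c : Set (IrrCharacter N)} (hc : IsPBlock M c)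
    (hst : ∀ (x : G) (θ : IrrCharacter N), θ ∈ c → conjIrr N x θ ∈ c)
    {B : Set (IrrCharacter G)} (hB : IsPBlock M B)
    (hcov : ∃ χ ∈ B, ∃ θ ∈ c, classInner (fun n : N => (χ : G → ℂ) n) (θ : N → ℂ) ≠ 0)
    {D : Subgroup G} (hD : IsDefectGroup p M B D) (hDN : D ≤ N) : L ≤ N := by
  classical
  haveI : Fintype (N.subgroupOf L) := Fintype.ofFinite _
  have hc₁ := isPBlock_image_transIrr (T := L) hNL hc
  have hst₁ : ∀ (x : L) (θ : IrrCharacter (N.subgroupOf L)), θ ∈ transIrr N L hNL '' c →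
      conjIrr (N.subgroupOf L) x θ ∈ transIrr N L hNL '' c :=
    isStable_image_transIrr hNL (fun t _ θ hθ => hst t θ hθ)
  have hB₁ := overSet_isPBlock (N.subgroupOf L) hM hidx hc₁ hst₁
  obtain ⟨χ, hχ, θ, hθ, hcχ⟩ := hcov
  obtain ⟨ψ, hψ1, hψ2⟩ := exists_constituent_between hNL χ hcχ
  have hψB : ψ ∈ overSet (N.subgroupOf L) (transIrr N L hNL '' c) := by
    rw [overSet_image_transIrr]
    exact ⟨θ, hθ, hψ2⟩
  obtain ⟨P₁, hP₁⟩ := exists_isDefectGroup hM hB₁
  obtain ⟨x, hx⟩ := defect_le_conj_of_cover L hM hB hB₁ ⟨χ, hχ, ψ, hψB, hψ1⟩ hP₁ hD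
  have hP₁N : P₁.map L.subtype ≤ N := by
    refine hx.trans ?_
    rintro _ ⟨y, hy, rfl⟩
    exact hN.conj_mem y (hDN hy) x
  obtain ⟨h1, -⟩ := defect_of_stable (N.subgroupOf L) hM hidx hc₁ hst₁ hB₁
    (blockCoeff_overSet (N.subgroupOf L) hst₁) hP₁
  have h2 : P₁ ≤ N.subgroupOf L := by
    intro y hy
    exact hP₁N ⟨y, hy, rfl⟩
  rw [sup_eq_left.2 h2] at h1
  intro y hy
  have : (⟨y, hy⟩ : L) ∈ N.subgroupOf L := by rw [h1]; exact Subgroup.mem_top _
  exact this

theorem defect_le_conj (hM : IsPModular p M) {B : Set (IrrCharacter G)} (hB : IsPBlock M B)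
    {D D' : Subgroup G} (hD : IsDefectGroup p M B D) (hD' : IsDefectGroup p M B D') :
    ∃ x : G, D' ≤ D.map (MulAut.conj x).toMonoidHom := by
  obtain ⟨c, hc, S, rfl⟩ := hD
  obtain ⟨d, hd, S', rfl⟩ := hD'
  obtain ⟨χ, hχ⟩ := IsPBlock_nonempty hB
  exact minmax_le hM hB hχ (hc.2.2 χ hχ) hd.2.1 (S'.isPGroup'.map _) (Subgroup.map_subtype_le _) S

/-- The stabilizer of a block, in the two forms. -/
theorem stab_iff_of_stabilizes {N T : Subgroup G} [hN : N.Normal] [Fintype N] {c : Set (IrrCharacter N)}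
    (hc : IsPBlock M c) (hT : ∀ x : G, x ∈ T ↔ StabilizesBlock N c x) :
    ∀ x : G, x ∈ T ↔ ∀ θ ∈ c, conjIrr N x θ ∈ c := by
  classical
  intro x
  constructor
  · intro hx θ hθ
    obtain ⟨-, h⟩ := (hT x⁻¹).1 (T.inv_mem hx)
    obtain ⟨χ', hχ', hc'⟩ := h θ hθ
    have : χ' = conjIrr N x θ := by
      apply Subtype.ext
      funext n
      have hm : x * (n : G) * x⁻¹ ∈ N := hN.conj_mem n n.2 x
      have := hc' ⟨x * (n : G) * x⁻¹, hm⟩ n (by simp only [inv_inv]; group)
      exact this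
    rwa [← this]
  · intro h
    rw [hT]
    refine ⟨Subgroup.mem_normalizer_iff.2 ?_, ?_⟩
    · intro n
      constructor
      · intro hn
        exact hN.conj_mem _ hn x
      · intro hn
        have := hN.conj_mem _ hn x⁻¹
        simpa [mul_assoc] using this
    · intro θ hθ
      have hU : IsBlockUnion M c := isBlockUnion_of_isPBlock hc
      have hmem : conjIrr N x⁻¹ θ ∈ c := by
        by_contra hcon
        have h1 := h θ hθ
        have h2 := sameBlock_conjIrr N x⁻¹ (sameBlock_of_mem hc hθ h1)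
        rw [conjIrr_inv_conjIrr] at h2
        exact hU _ hθ _ hcon (sameBlock_symm h2)
      refine ⟨_, hmem, ?_⟩
      intro k k' hk
      show (θ : N → ℂ) _ = _
      refine congrArg _ (Subtype.ext ?_)
      simp [hk, mul_assoc]

theorem normal_le_stab {N T : Subgroup G} [hN : N.Normal] [Fintype N] {c : Set (IrrCharacter N)}
    (hT : ∀ x : G, x ∈ T ↔ ∀ θ ∈ c, conjIrr N x θ ∈ c) : N ≤ T := by
  intro n hn
  rw [hT]
  intro θ hθ
  have : conjIrr N n θ = θ := by
    apply Subtype.ext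
    funext m
    have := IsCharacter.isClassFunction (IsIrrCharacter.isCharacter θ.2) m ⟨n, hn⟩
    exact this
  rwa [this]

/-- Fong-Reynolds in packaged form. -/
theorem exists_block_stab (hM : IsPModular p M) {N T : Subgroup G} [hN : N.Normal] [Fintype N] [Fintype T]
    (hNT : N ≤ T) {c : Set (IrrCharacter N)} (hc : IsPBlock M c)
    (hT : ∀ x : G, x ∈ T ↔ ∀ θ ∈ c, conjIrr N x θ ∈ c)
    {B : Set (IrrCharacter G)} (hB : IsPBlock M B)
    (hcov : ∃ χ ∈ B, ∃ θ ∈ c, classInner (fun n : N => (χ : G → ℂ) n) (θ : N → ℂ) ≠ 0) :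
    ∃ B' : Set (IrrCharacter T), IsPBlock M B' ∧ B' ⊆ OverIn hNT c ∧ IsInducedBlock M T B' B ∧
      B = indSetOf B' := by
  classical
  have hst : ∀ t ∈ T, ∀ θ ∈ c, conjIrr N t θ ∈ c := fun t ht => (hT t).1 ht
  have hdisj := hdisj_overIn hNT hc hT
  have hOU : IsBlockUnion M (OverIn hNT c : Set (IrrCharacter T)) :=
    isBlockUnion_overIn hNT hst (isBlockUnion_of_isPBlock hc)
  obtain ⟨χ, hχ, θ, hθ, hcχ⟩ := hcov
  obtain ⟨ψ, h1, h2⟩ := exists_constituent_between hNT χ hcχ
  have hψO : ψ ∈ OverIn hNT c := ⟨θ, hθ, h2⟩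
  have hχψ := eq_ind_of_constituent hdisj hψO h1
  have hB' : IsPBlock M (blockOf M (ψ : T → ℂ)) := isPBlock_blockOf ψ
  have hm : ψ ∈ blockOf M (ψ : T → ℂ) := mem_blockOf_self ψ
  have hsub := block_subset_of_mem hOU hB' hm hψO
  obtain ⟨h3, -, h4⟩ := fr_induced hdisj hB' hsub hm
  have hBe : B = blockOf M (indFun T (ψ : T → ℂ)) := by
    rw [blockOf_eq_of_mem hB hχ, hχψ]
  refine ⟨_, hB', hsub, by rw [hBe]; exact h3, ?_⟩
  rw [hBe]
  ext χ'
  exact h4 χ'

/-- **Stabilizer and defect groups.** -/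
theorem stab_inf_eq (hM : IsPModular p M) (N L : Subgroup G) [hN : N.Normal] [hL : L.Normal] [Fintype N]
    (hNL : N ≤ L) (hidx : ∃ k : ℕ, (N.subgroupOf L).index = p ^ k) {B : Set (IrrCharacter G)}
    (hB : IsPBlock M B) {c : Set (IrrCharacter N)} (hc : IsPBlock M c)
    (hcov : ∃ χ ∈ B, ∃ θ ∈ c, classInner (fun n : N => (χ : G → ℂ) n) (θ : N → ℂ) ≠ 0)
    {D : Subgroup G} (hD : IsDefectGroup p M B D) (hDN : D ≤ N) {T : Subgroup G}
    (hT : ∀ x : G, x ∈ T ↔ ∀ θ ∈ c, conjIrr N x θ ∈ c) : T ⊓ L = N := by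
  classical
  haveI : Fintype T := Fintype.ofFinite _
  haveI : Fintype (N.subgroupOf T) := Fintype.ofFinite _
  haveI : Fintype (L.subgroupOf T) := Fintype.ofFinite _
  have hNT : N ≤ T := normal_le_stab hT
  have hst : ∀ t ∈ T, ∀ θ ∈ c, conjIrr N t θ ∈ c := fun t ht => (hT t).1 ht
  have hdisj := hdisj_overIn hNT hc hT
  obtain ⟨B', hB', hsub, hind, hA⟩ := exists_block_stab hM hNT hc hT hB hcov
  obtain ⟨D', hD'⟩ := exists_isDefectGroup hM hB'
  have hD'' := defect_ind hM hdisj hB' hsub hind hA hD'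
  obtain ⟨x, hx⟩ := defect_le_conj hM hB hD hD''
  have hD'N : D' ≤ N.subgroupOf T := by
    intro y hy
    have h1 : (y : G) ∈ D.map (MulAut.conj x).toMonoidHom := hx ⟨y, hy, rfl⟩
    obtain ⟨z, hz, hzy⟩ := h1
    have h2 : (y : G) = x * z * x⁻¹ := hzy.symm
    rw [Subgroup.mem_subgroupOf, h2]
    exact hN.conj_mem z (hDN hz) x
  have hc₂ := isPBlock_image_transIrr (T := T) hNT hc
  have hst₂ : ∀ (x : T) (θ : IrrCharacter (N.subgroupOf T)), θ ∈ transIrr N T hNT '' c →
      conjIrr (N.subgroupOf T) x θ ∈ transIrr N T hNT '' c :=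
    isStable_image_transIrr hNT hst
  have hle₂ : N.subgroupOf T ≤ L.subgroupOf T := fun y hy => hNL hy
  have hidx₂ : ∃ k : ℕ, ((N.subgroupOf T).subgroupOf (L.subgroupOf T)).index = p ^ k := by
    obtain ⟨k, hk⟩ := hidx
    have h1 : ((N.subgroupOf T).subgroupOf (L.subgroupOf T)).index = N.relIndex (L ⊓ T) := by
      have h2 : L.subgroupOf T = (L ⊓ T).subgroupOf T := (Subgroup.inf_subgroupOf_right L T).symm
      show (N.subgroupOf T).relIndex (L.subgroupOf T) = _
      rw [h2, Subgroup.relIndex_subgroupOf inf_le_right]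
    have h3 := Subgroup.relIndex_mul_relIndex N (L ⊓ T) L (le_inf hNL hNT) inf_le_left
    have h4 : N.relIndex L = p ^ k := hk
    have hdvd : N.relIndex (L ⊓ T) ∣ p ^ k := by
      rw [← h4, ← h3]
      exact Dvd.intro _ rfl
    obtain ⟨j, -, hj⟩ := (Nat.dvd_prime_pow hp.out).1 hdvd
    exact ⟨j, by rw [h1, hj]⟩
  obtain ⟨ψ, hψ⟩ := IsPBlock_nonempty hB'
  obtain ⟨θ, hθ, hcθ⟩ := hsub hψ
  have hcov₂ : ∃ χ ∈ B', ∃ θ ∈ transIrr N T hNT '' c,
      classInner (fun n : N.subgroupOf T => (χ : T → ℂ) n) (θ : N.subgroupOf T → ℂ) ≠ 0 :=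
    ⟨ψ, hψ, _, ⟨θ, hθ, rfl⟩, by rwa [classInner_transIrr]⟩
  have key := le_of_cover_defect_le hM (N.subgroupOf T) (L.subgroupOf T) hle₂ hidx₂ hc₂ hst₂ hB' hcov₂ hD' hD'N
  apply le_antisymm
  · rintro y ⟨hy1, hy2⟩
    have := key (show (⟨y, hy1⟩ : T) ∈ L.subgroupOf T from hy2)
    exact this
  · exact le_inf hNT hNL

end Core2

end Cfsg.Agent.Lib.CharExtra
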