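import Cfsg.Agent.Lib.Char.Clifford2
import Cfsg.Agent.Lib.Char.Complete
import Cfsg.Agent.Lib.Char.Ops
import Cfsg.Agent.Lib.Char.Constituent
import Cfsg.Agent.Lib.Degree.ItoSplit
import Cfsg.Agent.Lib.PSolv.Basic
import Cfsg.Agent.Lib.ClassSizes.Basic
import Cfsg.Agent.Lib.Core.Solvable
import Mathlib

set_option autoImplicit false

/-!
# Ito's theorem for `p`-solvable groups and basic lemmas on lying over
-/

open scoped ComplexConjugate

namespace Cfsg.Agent.Lib.CharExtra

open Cfsg (classInner IsCharacter IsIrrCharacter IrrCharacter IsClassFunction charDegree indFun)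
open Cfsg.Agent.Lib.Char Cfsg.Agent.Lib.Degree Cfsg.Agent.Lib.PSolv
open Subgroup

universe u

section Over

variable {G : Type*} [Group G] [Fintype G]

/-- Every irreducible character of a subgroup lies under an irreducible character. -/
theorem exists_irr_over (N : Subgroup G) [Fintype N] {θ : N → ℂ} (hθ : IsIrrCharacter N θ) :
    ∃ χ : G → ℂ, IsIrrCharacter G χ ∧ classInner (fun n : N => χ n) θ ≠ 0 := by
  have hind := indFun_isCharacter N (IsIrrCharacter.isCharacter hθ)
  have hne : indFun N θ ≠ 0 := by
    intro h0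
    have h1 := congrFun h0 1
    rw [indFun_one, Pi.zero_apply] at h1
    have h2 := map_one_ne_zero_of_irr hθ
    have h3 : (N.index : ℂ) ≠ 0 := by exact_mod_cast (Subgroup.index_ne_zero_of_finite (H := N))
    exact (mul_ne_zero h3 h2) h1
  obtain ⟨χ, hχ, hne2⟩ := exists_constituent hind hne
  refine ⟨χ, hχ, ?_⟩
  rw [← frobenius_reciprocity' N θ χ (IsCharacter.isClassFunction (IsIrrCharacter.isCharacter hχ)),
    ← conj_classInner]
  simpa using hne2

/-- The Clifford degree formula as a divisibility. -/
theorem inertia_index_mul_degree_dvd (N : Subgroup G) [Fintype N] (hN : N.Normal) {χ : G → ℂ}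
    {θ : N → ℂ} (hχ : IsIrrCharacter G χ) (hθ : IsIrrCharacter N θ)
    (h : classInner (fun n : N => χ n) θ ≠ 0) :
    (inertia hN θ).index * charDegree θ ∣ charDegree χ := by
  obtain ⟨e, he⟩ := classInner_isCharacter_nat
    (IsCharacter.restrict N (IsIrrCharacter.isCharacter hχ)) (IsIrrCharacter.isCharacter hθ)
  have he0 : e ≠ 0 := by
    rintro rfl
    exact h (by simpa using he)
  rw [clifford_degree hN hχ hθ he he0, mul_assoc]
  exact Dvd.intro_left _ rfl

end Over

/-- A subgroup meeting every conjugacy class is the whole group. -/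
theorem eq_top_of_forall_conj_mem {G : Type*} [Group G] [Finite G] (H : Subgroup G)
    (h : ∀ x : G, ∃ g : G, g * x * g⁻¹ ∈ H) : H = ⊤ := by
  classical
  by_contra hne
  have : Fintype G := Fintype.ofFinite G
  have : Fintype (G ⧸ H) := Fintype.ofFinite _
  have hburn := MulAction.sum_card_fixedBy_eq_card_orbits_mul_card_group G (G ⧸ H)
  have hpre : MulAction.IsPretransitive G (G ⧸ H) := inferInstance
  have horb : Fintype.card (MulAction.orbitRel.Quotient G (G ⧸ H)) = 1 := by
    rw [Fintype.card_eq_one_iff]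
    refine ⟨Quotient.mk'' ((1 : G) : G ⧸ H), fun q => ?_⟩
    induction q using Quotient.inductionOn' with
    | h a =>
      apply Quotient.sound'
      exact MulAction.exists_smul_eq G _ _
  rw [horb, one_mul] at hburn
  have hge : ∀ g : G, 1 ≤ Fintype.card (MulAction.fixedBy (G ⧸ H) g) := by
    intro g
    obtain ⟨y, hy⟩ := h g
    have : ((y⁻¹ : G) : G ⧸ H) ∈ MulAction.fixedBy (G ⧸ H) g := by
      rw [MulAction.mem_fixedBy, MulAction.Quotient.smul_coe, QuotientGroup.eq]
      simpa [mul_assoc] using H.inv_mem hy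
    exact Fintype.card_pos_iff.2 ⟨⟨_, this⟩⟩
  have hone : 2 ≤ Fintype.card (MulAction.fixedBy (G ⧸ H) (1 : G)) := by
    have h1 : Fintype.card (MulAction.fixedBy (G ⧸ H) (1 : G)) = Fintype.card (G ⧸ H) := by
      rw [Fintype.card_subtype]
      simp
    rw [h1, ← Nat.card_eq_fintype_card]
    have h2 : H.index ≠ 1 := fun h3 => hne (Subgroup.index_eq_one.1 h3)
    have h3 : H.index ≠ 0 := Subgroup.index_ne_zero_of_finite
    change 2 ≤ H.index
    omega
  have hsum : Fintype.card G + 1 ≤ ∑ g : G, Fintype.card (MulAction.fixedBy (G ⧸ H) g) := by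
    rw [← Finset.add_sum_erase _ _ (Finset.mem_univ (1 : G))]
    have h1 : Fintype.card G - 1 ≤ ∑ g ∈ Finset.univ.erase (1 : G), Fintype.card (MulAction.fixedBy (G ⧸ H) g) := by
      have := Finset.card_nsmul_le_sum (Finset.univ.erase (1 : G))
        (fun g => Fintype.card (MulAction.fixedBy (G ⧸ H) g)) 1 (fun g _ => hge g)
      simpa [Finset.card_erase_of_mem] using this
    have h2 := Fintype.card_pos (α := G)
    omega
  omega

/-- A `p`-subgroup acting on a normal `p'`-subgroup and fixing its conjugacy classes centralizes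
it. -/
theorem centralizes_of_fix_classes {G : Type*} [Group G] [Finite G] {p : ℕ} [Fact p.Prime]
    (P D : Subgroup G) [hD : D.Normal] (hP : IsPGroup p P) (hDp : ¬ p ∣ Nat.card D)
    (hfix : ∀ x ∈ P, ∀ m : D, IsConj (⟨x * m * x⁻¹, hD.conj_mem m m.2 x⟩ : D) m) :
    ∀ x ∈ P, ∀ m ∈ D, x * m * x⁻¹ = m := by
  classical
  -- elements of `D` are conjugate to fixed points
  have key : ∀ m : D, ∃ m' : D, IsConj m' m ∧ ∀ x ∈ P, x * (m' : G) * x⁻¹ = m' := by
    intro m
    let X := {y : D // IsConj y m}
    letI act : MulAction P X :=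
      { smul := fun x y => ⟨⟨(x : G) * (y.1 : G) * (x : G)⁻¹, hD.conj_mem _ y.1.2 _⟩,
          (hfix x x.2 y.1).trans y.2⟩
        one_smul := by
          intro y
          apply Subtype.ext
          apply Subtype.ext
          change (1 : G) * (y.1 : G) * (1 : G)⁻¹ = y.1
          group
        mul_smul := by
          intro a b y
          apply Subtype.ext
          apply Subtype.ext
          change ((a : G) * (b : G)) * (y.1 : G) * ((a : G) * (b : G))⁻¹ =
            (a : G) * ((b : G) * (y.1 : G) * (b : G)⁻¹) * (a : G)⁻¹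
          group }
    have hcard : ¬ p ∣ Nat.card X := by
      intro hd
      apply hDp
      have h1 : Nat.card X = (centralizer ({m} : Set D)).index := by
        rw [← Cfsg.Agent.Lib.ClassSizes.card_isConj_eq_index m]
        exact Nat.card_congr (Equiv.subtypeEquivRight fun y => ⟨fun h => h.symm, fun h => h.symm⟩)
      rw [h1] at hd
      exact hd.trans (Subgroup.index_dvd_card _)
    have : Finite X := inferInstance
    obtain ⟨y, hy⟩ := hP.nonempty_fixed_point_of_prime_not_dvd_card X hcard
    refine ⟨y.1, y.2, fun x hx => ?_⟩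
    have h1 := hy ⟨x, hx⟩
    exact congrArg (fun z : X => ((z.1 : D) : G)) h1
  intro x hx m hm
  -- the centralizer of `P` in `D` is everything
  let C : Subgroup D :=
    { carrier := {c | ∀ x ∈ P, x * (c : G) * x⁻¹ = c}
      mul_mem' := by
        intro a b ha hb x hx
        have h1 := ha x hx
        have h2 := hb x hx
        calc x * ((a * b : D) : G) * x⁻¹ = (x * (a : G) * x⁻¹) * (x * (b : G) * x⁻¹) := by
              simp only [Subgroup.coe_mul]; group
          _ = _ := by rw [h1, h2]; rfl
      one_mem' := by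
        intro x _
        simp
      inv_mem' := by
        intro a ha x hx
        have h1 := ha x hx
        calc x * ((a⁻¹ : D) : G) * x⁻¹ = (x * (a : G) * x⁻¹)⁻¹ := by
              simp only [Subgroup.coe_inv]; group
          _ = _ := by rw [h1]; rfl }
  have hC : C = ⊤ := by
    apply eq_top_of_forall_conj_mem
    intro y
    obtain ⟨m', hm', hfixm⟩ := key y
    obtain ⟨c, hc⟩ := isConj_iff.1 hm'.symm
    exact ⟨c, by rw [hc]; exact hfixm⟩
  have : (⟨m, hm⟩ : D) ∈ C := by rw [hC]; trivial
  exact this x hx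

/-- A normal Sylow subgroup all of whose irreducible constituents have `p'`-degree is abelian. -/
theorem sylow_comm_of_degrees {G : Type*} [Group G] [Finite G] {p : ℕ} [Fact p.Prime]
    (P : Subgroup G) [hP : P.Normal] (hPp : IsPGroup p P)
    (hdeg : ∀ χ : IrrCharacter G, ¬ p ∣ charDegree (χ : G → ℂ)) :
    ∀ a b : P, a * b = b * a := by
  classical
  have : Fintype G := Fintype.ofFinite G
  have : Fintype P := Fintype.ofFinite P
  rw [comm_iff_forall_irr_degree_one]
  intro θ
  obtain ⟨χ, hχ, hne⟩ := exists_irr_over P θ.2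
  have h1 := inertia_index_mul_degree_dvd P hP hχ θ.2 hne
  have h2 : charDegree (θ : P → ℂ) ∣ charDegree χ := (Dvd.intro_left _ rfl).trans h1
  have h3 : charDegree (θ : P → ℂ) ∣ Nat.card P := charDegree_dvd_card θ.2
  obtain ⟨k, hk⟩ := IsPGroup.iff_card.1 hPp
  rw [hk] at h3
  obtain ⟨j, -, hj⟩ := (Nat.dvd_prime_pow Fact.out).1 h3
  have h4 : j = 0 := by
    by_contra hj0
    apply hdeg ⟨χ, hχ⟩
    refine Dvd.dvd.trans ?_ h2
    rw [hj]
    exact dvd_pow_self p hj0
  rw [map_one_eq_charDegree (IsIrrCharacter.isCharacter θ.2), hj, h4]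
  simp

/-- Ito's theorem, the converse direction for `p`-solvable groups: all Sylow subgroups are normal. -/
theorem sylow_normal_of_degrees {p : ℕ} [Fact p.Prime] :
    ∀ (n : ℕ) (G : Type u) [Group G] [Finite G], Nat.card G = n → PStep p G →
      (∀ χ : IrrCharacter G, ¬ p ∣ charDegree (χ : G → ℂ)) →
      ∀ P : Sylow p G, (P : Subgroup G).Normal := by
  intro n
  induction n using Nat.strong_induction_on with
  | _ n ih =>
    intro G _ _ hn hstep hdeg P
    classical
    have hp : p.Prime := Fact.out
    by_cases hbot : (⊥ : Subgroup G) = ⊤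
    · have h1 : (P : Subgroup G) = ⊤ := by
        rw [eq_top_iff, ← hbot]
        exact bot_le
      rw [h1]
      infer_instance
    obtain ⟨D, hDn, hD1, -, hD⟩ := hstep ⊥ ⊤ (normal_bot) (normal_top)
      (lt_of_le_of_ne bot_le hbot)
    rw [Subgroup.relIndex_bot_left] at hD
    have hDne : D ≠ ⊥ := hD1.ne'
    let π : G →* G ⧸ D := QuotientGroup.mk' D
    have hπ : Function.Surjective π := QuotientGroup.mk'_surjective D
    have hker : π.ker = D := QuotientGroup.ker_mk' D
    have hcardlt : Nat.card (G ⧸ D) < n := by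
      have h1 := Subgroup.card_mul_index D
      rw [Subgroup.index_eq_card] at h1
      have h2 : 1 < Nat.card D := by
        have := Subgroup.one_lt_card_iff_ne_bot D
        exact this.2 hDne
      have h3 : 0 < Nat.card (G ⧸ D) := Nat.card_pos
      rw [← hn, ← h1]
      nlinarith
    have hdegq : ∀ χ : IrrCharacter (G ⧸ D), ¬ p ∣ charDegree (χ : G ⧸ D → ℂ) := by
      intro χ
      have h1 := hdeg ⟨(χ : G ⧸ D → ℂ) ∘ π, isIrr_comp_surjective π hπ χ.2⟩
      rwa [show charDegree ((χ : G ⧸ D → ℂ) ∘ π) = charDegree (χ : G ⧸ D → ℂ) from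
        charDegree_comp_monoidHom π _] at h1
    have hQ := ih _ hcardlt (G ⧸ D) rfl (PStep.quotient hstep D) hdegq
    let Pbar : Sylow p (G ⧸ D) := Sylow.mapSurjective hπ P
    have hPbar : (P : Subgroup G).map π = (Pbar : Subgroup (G ⧸ D)) := rfl
    have hQn : ((P : Subgroup G).map π).Normal := by
      rw [hPbar]; exact hQ Pbar
    have hL : ((P : Subgroup G) ⊔ D).Normal := by
      have h1 := hQn.comap π
      rwa [Subgroup.comap_map_eq, hker] at h1
    have hpsub : ∀ {x : G} {k : ℕ}, x ∈ D → x ^ (p ^ k) = 1 → ¬ p ∣ Nat.card D → x = 1 := by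
      intro x k hx hxk hcop
      have h1 : orderOf x ∣ p ^ k := orderOf_dvd_of_pow_eq_one hxk
      have h2 : orderOf x ∣ Nat.card D := by
        have := Subgroup.orderOf_dvd_natCard D hx
        exact this
      have h3 : Nat.Coprime (p ^ k) (Nat.card D) :=
        Nat.Coprime.pow_left _ ((Nat.Prime.coprime_iff_not_dvd hp).2 hcop)
      have h4 := Nat.dvd_gcd h1 h2
      rw [h3] at h4
      exact orderOf_eq_one_iff.1 (Nat.dvd_one.1 h4)
    rcases hD with ⟨m, hm⟩ | hcop
    · -- `D` is a `p`-group
      have hDp : IsPGroup p D := IsPGroup.of_card hm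
      have hLp : IsPGroup p ((P : Subgroup G) ⊔ D : Subgroup G) := by
        have h1 : IsPGroup p ((P : Subgroup G).map π) := P.2.map π
        have h2 : IsPGroup p π.ker := by rwa [hker]
        have h3 := IsPGroup.comap_of_ker_isPGroup h1 π h2
        rwa [Subgroup.comap_map_eq, hker] at h3
      have h1 := P.is_maximal' hLp le_sup_left
      rw [← h1]
      exact hL
    · -- `D` is a `p'`-group
      have hDp : ¬ p ∣ Nat.card D := by
        intro hd
        exact (Nat.Prime.coprime_iff_not_dvd hp).1 hcop.symm hd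
      have hinert : ∀ θ : IrrCharacter D, (P : Subgroup G) ≤ inertia hDn (θ : D → ℂ) := by
        intro θ
        have : Fintype G := Fintype.ofFinite G
        have : Fintype D := Fintype.ofFinite D
        obtain ⟨χ, hχ, hne⟩ := exists_irr_over D θ.2
        have h1 := inertia_index_mul_degree_dvd D hDn hχ θ.2 hne
        have h2 : ¬ p ∣ (inertia hDn (θ : D → ℂ)).index := by
          intro hd
          exact hdeg ⟨χ, hχ⟩ ((hd.trans (Dvd.intro _ rfl)).trans h1)
        obtain ⟨P₁, hP₁⟩ := exists_sylow_le_of_not_dvd_index h2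
        have hDT : D ≤ inertia hDn (θ : D → ℂ) :=
          le_inertia hDn (IsCharacter.isClassFunction (IsIrrCharacter.isCharacter θ.2))
        have heq : Sylow.mapSurjective hπ P₁ = Sylow.mapSurjective hπ P := by
          apply Sylow.ext
          haveI := hQ (Sylow.mapSurjective hπ P₁)
          haveI := hQ (Sylow.mapSurjective hπ P)
          exact le_antisymm
            (IsPGroup.le_sylow_of_normal (Sylow.isPGroup' (Sylow.mapSurjective hπ P₁)) _)
            (IsPGroup.le_sylow_of_normal (Sylow.isPGroup' (Sylow.mapSurjective hπ P)) _)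
        have h3 : (P : Subgroup G) ≤ ((P : Subgroup G).map π).comap π := Subgroup.le_comap_map _ _
        have h4 : (P : Subgroup G).map π = (P₁ : Subgroup G).map π := by
          have := congrArg (fun Q : Sylow p (G ⧸ D) => (Q : Subgroup (G ⧸ D))) heq
          exact this.symm
        rw [h4, Subgroup.comap_map_eq, hker] at h3
        exact h3.trans (sup_le hP₁ hDT)
      have hfix : ∀ x ∈ (P : Subgroup G), ∀ m : D,
          IsConj (⟨x * m * x⁻¹, hDn.conj_mem m m.2 x⟩ : D) m := by
        intro x hx m
        have : Fintype D := Fintype.ofFinite D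
        rw [isConj_iff_forall_irr]
        intro θ
        have h1 := (mem_inertia_iff hDn (θ : D → ℂ) x).1 (hinert θ hx) m
        exact h1
      have hcen := centralizes_of_fix_classes (P : Subgroup G) D P.2 hDp hfix
      constructor
      intro n hn g
      have hy : g * n * g⁻¹ ∈ (P : Subgroup G) ⊔ D := hL.conj_mem n (Subgroup.mem_sup_left hn) g
      obtain ⟨k, hk⟩ := P.2 ⟨n, hn⟩
      have hk' : n ^ (p ^ k) = 1 := by
        have := congrArg Subtype.val hk
        simpa using this
      have hyk : (g * n * g⁻¹) ^ (p ^ k) = 1 := by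
        rw [conj_pow, hk']
        group
      rw [← SetLike.mem_coe, Subgroup.mul_normal] at hy
      obtain ⟨u, hu, d, hd, huv⟩ := hy
      have hcomm : Commute u d := by
        have := hcen u hu d hd
        change u * d = d * u
        calc u * d = (u * d * u⁻¹) * u := by group
          _ = d * u := by rw [this]
      have h1 : u ^ (p ^ k) * d ^ (p ^ k) = 1 := by
        rw [← hcomm.mul_pow]
        simp only at huv
        rw [huv]
        exact hyk
      have h2 : d ^ (p ^ k) = (u ^ (p ^ k))⁻¹ := eq_inv_of_mul_eq_one_right h1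
      have hzP : d ^ (p ^ k) ∈ (P : Subgroup G) := by
        rw [h2]
        exact Subgroup.inv_mem _ (Subgroup.pow_mem _ hu _)
      have hzD : d ^ (p ^ k) ∈ D := Subgroup.pow_mem _ hd _
      obtain ⟨j, hj⟩ := P.2 ⟨_, hzP⟩
      have hj' : (d ^ (p ^ k)) ^ (p ^ j) = 1 := by
        have := congrArg Subtype.val hj
        simpa using this
      have hz1 := hpsub hzD hj' hDp
      have hd1 := hpsub hd hz1 hDp
      rw [← huv]
      simp only [hd1, mul_one]
      exact hu

/-- Ito's theorem, the forward direction. -/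
theorem degrees_of_normal_abelian_sylow {G : Type*} [Group G] [Finite G] {p : ℕ} [Fact p.Prime]
    (P : Subgroup G) [hP : P.Normal] (hPp : IsPGroup p P) (hidx : ¬ p ∣ P.index)
    (hab : ∀ a ∈ P, ∀ b ∈ P, a * b = b * a) (χ : IrrCharacter G) :
    ¬ p ∣ charDegree (χ : G → ℂ) := by
  have hp : p.Prime := Fact.out
  have hcop : Nat.Coprime (Nat.card P) P.index := by
    obtain ⟨k, hk⟩ := IsPGroup.iff_card.1 hPp
    rw [hk]
    exact Nat.Coprime.pow_left _ ((Nat.Prime.coprime_iff_not_dvd hp).2 hidx)
  obtain ⟨H, hH⟩ := Subgroup.exists_right_complement'_of_coprime hcop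
  obtain ⟨d, hd, hdvd⟩ := irr_degree_dvd_card_complement P H hab hH χ.2
  rw [charDegree_natCast hd]
  intro hpd
  have h1 : Nat.card H = P.index := (hH.symm.index_eq_card).symm
  rw [h1] at hdvd
  exact hidx (hpd.trans hdvd)

/-- Solvable groups satisfy the `p`-step property. -/
theorem pStep_of_isSolvable {G : Type*} [Group G] [Finite G] [Group.IsSolvable G] {p : ℕ}
    (hp : p.Prime) : PStep p G := by
  intro A B hA hB hAB
  haveI := hA
  let π : G →* G ⧸ A := QuotientGroup.mk' A
  have hπ : Function.Surjective π := QuotientGroup.mk'_surjective A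
  let Bb : Subgroup (G ⧸ A) := B.map π
  haveI hBb : Bb.Normal := hB.map π hπ
  have hBne : Bb ≠ ⊥ := by
    intro h0
    apply hAB.not_ge
    intro b hb
    have h1 : π b ∈ Bb := Subgroup.mem_map_of_mem π hb
    rw [h0, Subgroup.mem_bot] at h1
    exact (QuotientGroup.eq_one_iff b).1 h1
  haveI : Nontrivial Bb := (Subgroup.nontrivial_iff_ne_bot Bb).2 hBne
  haveI : Group.IsSolvable Bb := inferInstance
  obtain ⟨q, hq, hne⟩ := Cfsg.Agent.Lib.Core.exists_prime_pCore_ne_bot (G := Bb)
  haveI : Fact q.Prime := ⟨hq⟩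
  let C : Subgroup Bb := Cfsg.pCore q Bb
  haveI hCchar : C.Characteristic := Cfsg.Agent.Lib.Core.pCore_characteristic q Bb
  let E : Subgroup (G ⧸ A) := C.map Bb.subtype
  haveI hEn : E.Normal := ConjAct.normal_of_characteristic_of_normal
  have hEq : IsPGroup q E := (Cfsg.Agent.Lib.Core.pCore_isPGroup q Bb).map _
  have hEne : E ≠ ⊥ := by
    intro h0
    apply hne
    exact (Subgroup.map_eq_bot_iff_of_injective _ Bb.subtype_injective).1 h0
  have hEB : E ≤ Bb := Subgroup.map_subtype_le C
  refine ⟨E.comap π, hEn.comap π, ?_, ?_, ?_⟩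
  · refine lt_of_le_of_ne ?_ ?_
    · intro a ha
      rw [Subgroup.mem_comap]
      have : π a = 1 := (QuotientGroup.eq_one_iff a).2 ha
      rw [this]
      exact E.one_mem
    · intro heq
      apply hEne
      have h2 := congrArg (Subgroup.map π) heq
      rw [Subgroup.map_comap_eq_self_of_surjective hπ] at h2
      rw [← h2]
      rw [Subgroup.map_eq_bot_iff]
      intro a ha
      exact (QuotientGroup.ker_mk' A).symm ▸ ha
  · intro x hx
    rw [Subgroup.mem_comap] at hx
    have h2 := hEB hx
    obtain ⟨b, hb, hb2⟩ := Subgroup.mem_map.1 h2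
    have h3 : b⁻¹ * x ∈ A := by
      rw [← QuotientGroup.eq_one_iff]
      have : π (b⁻¹ * x) = 1 := by
        rw [map_mul, map_inv, hb2]
        simp
      exact this
    have h4 : x = b * (b⁻¹ * x) := by group
    rw [h4]
    exact B.mul_mem hb (hAB.le h3)
  · have h0 : (⊥ : Subgroup (G ⧸ A)).comap π = A := by
      rw [MonoidHom.comap_bot, QuotientGroup.ker_mk']
    have h5 : A.relIndex (E.comap π) = Nat.card E := by
      have h6 := Subgroup.relIndex_comap (⊥ : Subgroup (G ⧸ A)) π (E.comap π)
      rw [h0, Subgroup.map_comap_eq_self_of_surjective hπ, Subgroup.relIndex_bot_left] at h6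
      exact h6
    rw [h5]
    obtain ⟨k, hk⟩ := IsPGroup.iff_card.1 hEq
    rw [hk]
    by_cases hqp : q = p
    · subst hqp
      exact Or.inl ⟨k, rfl⟩
    · right
      exact Nat.Coprime.pow_left _ ((Nat.coprime_primes hq hp).2 hqp)

end Cfsg.Agent.Lib.CharExtra
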