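import Cfsg.Agent.Lib.Block.NilCentral
import Cfsg.Agent.Lib.Block.SubAlg
import Cfsg.Agent.Lib.Block.Ortho
import Cfsg.Agent.Lib.Block.Osima
import Cfsg.Agent.Lib.Char.Clifford
import Cfsg.Agent.Lib.CharExtra.Ito

/-!
# Block idempotents are supported on the centralizer of a normal `p`-subgroup
-/

set_option autoImplicit false
set_option linter.unusedSectionVars false
set_option linter.style.haveILetI false
set_option linter.unusedSimpArgs false
set_option linter.unnecessarySimpa false

open scoped ComplexConjugate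

namespace Cfsg.Agent.Lib.CharExtra

open Cfsg Cfsg.Agent.Lib.Char Cfsg.Agent.Lib.Block

section Res

variable {G : Type*} [Group G] [Fintype G] (N : Subgroup G) [Fintype N]

theorem incl_resAlg_of_support {z : MonoidAlgebra ℂ G} (hz : ∀ g, g ∉ N → z.coeff g = 0) :
    incl N (resAlg N z) = z := by
  apply ext_coeff
  intro g
  by_cases hg : g ∈ N
  · have := coeff_incl_coe N (resAlg N z) ⟨g, hg⟩
    rw [coeff_resAlg] at this
    exact this
  · rw [coeff_incl_of_notMem N _ hg, hz g hg]

/-- A central element supported on `N` acts on `χ` as on any constituent of `χ_N`. -/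
theorem om_eq_om_res {z : MonoidAlgebra ℂ G} (hz : IsCentralElt z) (hs : ∀ g, g ∉ N → z.coeff g = 0)
    (χ : IrrCharacter G) (θ : IrrCharacter N) (hne : classInner (fun n : N => (χ : G → ℂ) n) (θ : N → ℂ) ≠ 0) :
    om (χ : G → ℂ) z = om (θ : N → ℂ) (resAlg N z) := by
  classical
  have hcf : IsClassFunction N (fun n : N => (χ : G → ℂ) n) :=
    IsCharacter.isClassFunction (IsCharacter.restrict N (IsIrrCharacter.isCharacter χ.2))
  have h1 := tr_mul_central' χ.2 hz (incl N (blockElt ({θ} : Set (IrrCharacter N))))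
  have h2 : incl N (blockElt ({θ} : Set (IrrCharacter N))) * z =
      incl N (blockElt ({θ} : Set (IrrCharacter N)) * resAlg N z) := by
    rw [map_mul, incl_resAlg_of_support N hs]
  rw [h2, tr_incl, tr_incl, tr_blockElt_mul _ hcf] at h1
  have h3 := tr_blockElt_mul _ hcf ({θ} : Set (IrrCharacter N)) 1
  rw [mul_one] at h3
  rw [h3] at h1
  simp only [Set.mem_singleton_iff, Finset.sum_ite_eq', Finset.mem_univ, if_true, tr_one] at h1
  have hθ1 := map_one_ne_zero_of_irr θ.2
  unfold om at *
  apply mul_right_cancel₀ (mul_ne_zero hne hθ1)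
  rw [← h1]
  field_simp

end Res

section Block

variable {G : Type*} [Group G] [Fintype G] {p : ℕ} [hp : Fact p.Prime] {M : Ideal AlgInt}

theorem coeff_classSum_eq_zero_of_notMem (N : Subgroup G) [hN : N.Normal] {g u : G} (hg : g ∈ N) (hu : u ∉ N) :
    (classSum g).coeff u = 0 := by
  classical
  rw [coeff_classSum, if_neg]
  intro h
  obtain ⟨c, rfl⟩ := isConj_iff.mp h
  exact hu (hN.conj_mem g hg c)

theorem localCoeff_classSum [M.IsPrime] (g : G) : LocalCoeff M (classSum g) := by
  classical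
  intro u
  rw [coeff_classSum]
  split_ifs
  · exact memLocalRing_one
  · exact memLocalRing_zero

/-- Characters over block-equivalent characters of a normal subgroup agree mod `M` on the classes inside it. -/
theorem memLocalIdeal_centralChar_sub_of_under (hM : IsPModular p M) (N : Subgroup G) [hN : N.Normal] [Fintype N]
    {χ χ' : IrrCharacter G} {θ θ' : IrrCharacter N}
    (hχ : classInner (fun n : N => (χ : G → ℂ) n) (θ : N → ℂ) ≠ 0)
    (hχ' : classInner (fun n : N => (χ' : G → ℂ) n) (θ' : N → ℂ) ≠ 0)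
    (hs : SameBlock M (θ : N → ℂ) (θ' : N → ℂ)) {g : G} (hg : g ∈ N) :
    MemLocalIdeal M (centralChar (χ : G → ℂ) g - centralChar (χ' : G → ℂ) g) := by
  have := isPModular_isPrime hM
  have hsupp : ∀ u, u ∉ N → (classSum g).coeff u = 0 := fun u hu => coeff_classSum_eq_zero_of_notMem N hg hu
  have h1 := om_eq_om_res N (isCentralElt_classSum g) hsupp χ θ hχ
  have h2 := om_eq_om_res N (isCentralElt_classSum g) hsupp χ' θ' hχ'
  rw [om_classSum (IsCharacter.isClassFunction (IsIrrCharacter.isCharacter χ.2))] at h1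
  rw [om_classSum (IsCharacter.isClassFunction (IsIrrCharacter.isCharacter χ'.2))] at h2
  rw [h1, h2]
  exact memLocalIdeal_om_sub θ.2 θ'.2 hs (isCentralElt_resAlg N (isCentralElt_classSum g))
    (localCoeff_resAlg N (localCoeff_classSum g))

/-- Characters over block-equivalent characters of `C_G(P)` lie in the same block of `G`. -/
theorem sameBlock_of_under (hM : IsPModular p M) (P : Subgroup G) [hP : P.Normal] (hPp : IsPGroup p P)
    [Fintype (Subgroup.centralizer (P : Set G))]
    {χ χ' : IrrCharacter G} {θ θ' : IrrCharacter (Subgroup.centralizer (P : Set G))}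
    (hχ : classInner (fun n : Subgroup.centralizer (P : Set G) => (χ : G → ℂ) n) (θ : Subgroup.centralizer (P : Set G) → ℂ) ≠ 0)
    (hχ' : classInner (fun n : Subgroup.centralizer (P : Set G) => (χ' : G → ℂ) n) (θ' : Subgroup.centralizer (P : Set G) → ℂ) ≠ 0)
    (hs : SameBlock M (θ : Subgroup.centralizer (P : Set G) → ℂ) (θ' : Subgroup.centralizer (P : Set G) → ℂ)) :
    SameBlock M (χ : G → ℂ) (χ' : G → ℂ) := by
  have := isPModular_isPrime hM
  intro g
  by_cases hg : g ∈ Subgroup.centralizer (P : Set G)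
  · exact memLocalIdeal_centralChar_sub_of_under hM _ hχ hχ' hs hg
  · have hno : ∀ x : G, IsConj g x → x ∉ Subgroup.centralizer (P : Set G) := fun x hx hxC =>
      hg (mem_centralizer_of_isConj P hx hxC)
    exact memLocalIdeal_sub (memLocalIdeal_centralChar_of_no_centralize hM P hPp hno χ.2)
      (memLocalIdeal_centralChar_of_no_centralize hM P hPp hno χ'.2)

/-- The block coefficient of a conjugation-stable set of characters of a normal subgroup is
`G`-invariant. -/
theorem blockCoeff_conj_of_stable (N : Subgroup G) [hN : N.Normal] [Fintype N] {Θ : Set (IrrCharacter N)}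
    (hΘ : ∀ θ ∈ Θ, ∀ (x : G) (θ' : IrrCharacter N), (θ' : N → ℂ) = conjFn hN x (θ : N → ℂ) → θ' ∈ Θ) (x : G) (n : N) :
    blockCoeff Θ (⟨x * n * x⁻¹, hN.conj_mem n n.2 x⟩ : N) = blockCoeff Θ n := by
  classical
  rw [blockCoeff_eq_sum, blockCoeff_eq_sum]
  congr 1
  -- the permutation of irreducible characters
  let τ : IrrCharacter N ≃ IrrCharacter N :=
    { toFun := fun θ => ⟨conjFn hN x (θ : N → ℂ), conjFn_isIrr hN x θ.2⟩
      invFun := fun θ => ⟨conjFn hN x⁻¹ (θ : N → ℂ), conjFn_isIrr hN x⁻¹ θ.2⟩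
      left_inv := fun θ => Subtype.ext (conjFn_inv_conjFn hN x _)
      right_inv := fun θ => Subtype.ext (conjFn_conjFn_inv hN x _) }
  have hτ : ∀ θ, (θ ∈ Θ ↔ τ θ ∈ Θ) := by
    intro θ
    constructor
    · intro h
      exact hΘ θ h x (τ θ) rfl
    · intro h
      have := hΘ (τ θ) h x⁻¹ θ (conjFn_inv_conjFn hN x _).symm
      exact this
  refine Fintype.sum_equiv τ _ _ fun θ => ?_
  simp only [← hτ θ]
  split_ifs
  · have h1 : ((τ θ : IrrCharacter N) : N → ℂ) 1 = (θ : N → ℂ) 1 := conjFn_map_one hN x _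
    have h2 : ((τ θ : IrrCharacter N) : N → ℂ) n = (θ : N → ℂ) ⟨x * n * x⁻¹, hN.conj_mem n n.2 x⟩ := rfl
    rw [h1, h2]
  · rfl

/-- **The block idempotents are supported on `C_G(P)`**, `P` a normal `p`-subgroup. -/
theorem blockCoeff_eq_zero_of_notMem_centralizer (hM : IsPModular p M) (P : Subgroup G) [hP : P.Normal]
    (hPp : IsPGroup p P) {B : Set (IrrCharacter G)} (hB : IsPBlock M B) {g : G}
    (hg : g ∉ Subgroup.centralizer (P : Set G)) : blockCoeff B g = 0 := by
  classical
  have := isPModular_isPrime hM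
  obtain ⟨C, hC⟩ : ∃ C : Subgroup G, C = Subgroup.centralizer (P : Set G) := ⟨_, rfl⟩
  haveI : Fintype (Subgroup.centralizer (P : Set G)) := Fintype.ofFinite _
  haveI hCn : (Subgroup.centralizer (P : Set G)).Normal := Subgroup.normal_centralizer
  -- the set of constituents of members of `B`
  obtain ⟨Θ, hΘdef⟩ : ∃ Θ : Set (IrrCharacter (Subgroup.centralizer (P : Set G))), ∀ θ, θ ∈ Θ ↔ ∃ χ ∈ B,
    classInner (fun n : Subgroup.centralizer (P : Set G) => (χ : G → ℂ) n) (θ : Subgroup.centralizer (P : Set G) → ℂ) ≠ 0 :=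
    ⟨{θ | ∃ χ ∈ B, classInner (fun n : Subgroup.centralizer (P : Set G) => (χ : G → ℂ) n)
      (θ : Subgroup.centralizer (P : Set G) → ℂ) ≠ 0}, fun θ => Iff.rfl⟩
  have hχmem : ∀ {χ χ' : IrrCharacter G}, χ ∈ B → SameBlock M (χ : G → ℂ) (χ' : G → ℂ) → χ' ∈ B := by
    intro χ χ' hχ h
    rw [blockOf_eq_of_mem hB hχ]
    exact h
  have hΘu : IsBlockUnion M Θ := by
    intro θ hθ ψ hψ hs
    obtain ⟨χ, hχ, hne⟩ := (hΘdef θ).mp hθ
    apply hψ
    obtain ⟨χ', hχ', hne'⟩ := exists_irr_over _ ψ.2
    exact (hΘdef ψ).mpr ⟨⟨χ', hχ'⟩, hχmem hχ (sameBlock_of_under hM P hPp (χ' := ⟨χ', hχ'⟩) hne hne' hs), hne'⟩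
  have hΘs : ∀ θ ∈ Θ, ∀ (x : G) (θ' : IrrCharacter (Subgroup.centralizer (P : Set G))),
      (θ' : Subgroup.centralizer (P : Set G) → ℂ) = conjFn hCn x (θ : Subgroup.centralizer (P : Set G) → ℂ) → θ' ∈ Θ := by
    intro θ hθ x θ' h
    obtain ⟨χ, hχ, hne⟩ := (hΘdef θ).mp hθ
    refine (hΘdef θ').mpr ⟨χ, hχ, ?_⟩
    rw [h, classInner_restrict_conjFn hCn x (IsCharacter.isClassFunction (IsIrrCharacter.isCharacter χ.2))]
    exact hne
  -- the element
  have hcent : IsCentralElt (incl (Subgroup.centralizer (P : Set G)) (blockElt Θ)) := by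
    intro x u
    by_cases hu : u ∈ Subgroup.centralizer (P : Set G)
    · have h1 := coeff_incl_coe (Subgroup.centralizer (P : Set G)) (blockElt Θ) ⟨u, hu⟩
      have h2 := coeff_incl_coe (Subgroup.centralizer (P : Set G)) (blockElt Θ)
        ⟨x * u * x⁻¹, hCn.conj_mem u hu x⟩
      simp only at h1 h2
      rw [h1, h2, coeff_blockElt, coeff_blockElt]
      exact blockCoeff_conj_of_stable _ hΘs x ⟨u, hu⟩
    · have hu' : x * u * x⁻¹ ∉ Subgroup.centralizer (P : Set G) := by
        intro h
        apply hu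
        have := hCn.conj_mem _ h x⁻¹
        simpa [mul_assoc] using this
      rw [coeff_incl_of_notMem _ _ hu, coeff_incl_of_notMem _ _ hu']
  have hE : incl (Subgroup.centralizer (P : Set G)) (blockElt Θ) = blockElt B := by
    apply central_ext_om hcent (isCentralElt_blockElt B)
    intro χ
    have hcf : IsClassFunction (Subgroup.centralizer (P : Set G))
        (fun n : Subgroup.centralizer (P : Set G) => (χ : G → ℂ) n) :=
      IsCharacter.isClassFunction (IsCharacter.restrict _ (IsIrrCharacter.isCharacter χ.2))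
    have h1 : tr (χ : G → ℂ) (incl (Subgroup.centralizer (P : Set G)) (blockElt Θ)) = ∑ θ : IrrCharacter (Subgroup.centralizer (P : Set G)),
        if θ ∈ Θ then classInner (fun n : Subgroup.centralizer (P : Set G) => (χ : G → ℂ) n) (θ : Subgroup.centralizer (P : Set G) → ℂ) * (θ : Subgroup.centralizer (P : Set G) → ℂ) 1 else 0 := by
      rw [tr_incl]
      have h2 := tr_blockElt_mul _ hcf Θ 1
      rw [mul_one] at h2
      rw [h2]
      refine Finset.sum_congr rfl fun θ _ => ?_
      rw [tr_one]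
    by_cases hχ : χ ∈ B
    · rw [om_blockElt_of_mem hχ]
      unfold om
      rw [h1]
      have h2 := congrFun (classFunction_eq_sum _ hcf) 1
      have h2' : (χ : G → ℂ) 1 = ∑ θ : IrrCharacter (Subgroup.centralizer (P : Set G)),
          classInner (fun n : Subgroup.centralizer (P : Set G) => (χ : G → ℂ) n) (θ : Subgroup.centralizer (P : Set G) → ℂ) * (θ : Subgroup.centralizer (P : Set G) → ℂ) 1 := by
        simpa [Finset.sum_apply] using h2
      have h3 : ∑ θ : IrrCharacter (Subgroup.centralizer (P : Set G)),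
          (if θ ∈ Θ then classInner (fun n : Subgroup.centralizer (P : Set G) => (χ : G → ℂ) n) (θ : Subgroup.centralizer (P : Set G) → ℂ) * (θ : Subgroup.centralizer (P : Set G) → ℂ) 1 else 0) = (χ : G → ℂ) 1 := by
        rw [h2']
        refine Finset.sum_congr rfl fun θ _ => ?_
        by_cases hθ : θ ∈ Θ
        · rw [if_pos hθ]
        · rw [if_neg hθ]
          have h5 : classInner (fun n : Subgroup.centralizer (P : Set G) => (χ : G → ℂ) n) (θ : Subgroup.centralizer (P : Set G) → ℂ) = 0 := by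
            by_contra h6
            exact hθ ((hΘdef θ).mpr ⟨χ, hχ, h6⟩)
          rw [h5, zero_mul]
      rw [h3, div_self (map_one_ne_zero_of_irr χ.2)]
    · rw [om_blockElt_of_notMem hχ]
      unfold om
      rw [h1]
      have h3 : ∑ θ : IrrCharacter (Subgroup.centralizer (P : Set G)),
          (if θ ∈ Θ then classInner (fun n : Subgroup.centralizer (P : Set G) => (χ : G → ℂ) n) (θ : Subgroup.centralizer (P : Set G) → ℂ) * (θ : Subgroup.centralizer (P : Set G) → ℂ) 1 else 0) = 0 := by
        refine Finset.sum_eq_zero fun θ _ => ?_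
        split_ifs with hθ
        · obtain ⟨χ₀, hχ₀, hne⟩ := (hΘdef θ).mp hθ
          have h5 : classInner (fun n : Subgroup.centralizer (P : Set G) => (χ : G → ℂ) n) (θ : Subgroup.centralizer (P : Set G) → ℂ) = 0 := by
            by_contra h6
            exact hχ (hχmem hχ₀ (sameBlock_of_under hM P hPp hne h6 (sameBlock_refl _)))
          rw [h5, zero_mul]
        · rfl
      rw [h3, zero_div]
  rw [← coeff_blockElt, ← hE, coeff_incl_of_notMem _ _ hg]

end Block

end Cfsg.Agent.Lib.CharExtra
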