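import Cfsg.Agent.Lib.Block.Defect
import Cfsg.Agent.Lib.Block.MinMax
import Cfsg.Agent.Lib.Block.Group
import Cfsg.Agent.Lib.Block.SubAlg
import Cfsg.Agent.Lib.CharExtra.PReg

/-!
# Defect groups and defect classes
-/

set_option autoImplicit false
set_option linter.unusedSectionVars false
set_option linter.style.haveILetI false
set_option linter.unusedSimpArgs false
set_option linter.unnecessarySimpa false

open scoped ComplexConjugate

namespace Cfsg.Agent.Lib.CharExtra

open Cfsg Cfsg.Agent.Lib.Char Cfsg.Agent.Lib.Block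

section Conj

variable {G : Type*} [Group G] [Fintype G] {p : ℕ} [hp : Fact p.Prime] {M : Ideal AlgInt}

theorem blockCoeff_conj (B : Set (IrrCharacter G)) (x g : G) : blockCoeff B (x * g * x⁻¹) = blockCoeff B g := by
  have := isCentralElt_blockElt B x g
  rwa [coeff_blockElt, coeff_blockElt] at this

theorem centralChar_conj {χ : G → ℂ} (hχ : IsClassFunction G χ) (x g : G) :
    centralChar χ (x * g * x⁻¹) = centralChar χ g := by
  unfold centralChar
  rw [hχ g x, index_centralizer_of_isConj (isConj_iff.mpr ⟨x, rfl⟩).symm]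

theorem isDefectClass_conj {B : Set (IrrCharacter G)} {g : G} (h : IsDefectClass M B g) (x : G) :
    IsDefectClass M B (x * g * x⁻¹) := by
  obtain ⟨h1, h2, h3⟩ := h
  refine ⟨by rwa [blockCoeff_conj], by rwa [blockCoeff_conj], fun χ hχ => ?_⟩
  rw [centralChar_conj (IsCharacter.isClassFunction (IsIrrCharacter.isCharacter χ.2))]
  exact h3 χ hχ

/-- A conjugate of a defect group is a defect group. -/
theorem isDefectGroup_conj {B : Set (IrrCharacter G)} {D : Subgroup G} (h : IsDefectGroup p M B D) (x : G) :
    IsDefectGroup p M B (D.map (MulAut.conj x).toMonoidHom) := by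
  classical
  obtain ⟨g, hg, P, rfl⟩ := h
  refine ⟨x * g * x⁻¹, isDefectClass_conj hg x, ?_⟩
  obtain ⟨D', hD'⟩ : ∃ D' : Subgroup G, D' = ((P : Subgroup (Subgroup.centralizer ({g} : Set G))).map
      (Subgroup.centralizer ({g} : Set G)).subtype).map (MulAut.conj x).toMonoidHom := ⟨_, rfl⟩
  rw [← hD']
  have hle : D' ≤ Subgroup.centralizer ({x * g * x⁻¹} : Set G) := by
    rw [hD']
    rintro _ ⟨_, ⟨u, hu, rfl⟩, rfl⟩
    rw [Subgroup.mem_centralizer_singleton_iff]
    have h1 : (u : G) * g = g * u := by
      have := u.2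
      rw [Subgroup.mem_centralizer_singleton_iff] at this
      exact this
    simp only [Subgroup.subtype_apply, MulEquiv.coe_toMonoidHom, MulAut.conj_apply]
    calc x * (u : G) * x⁻¹ * (x * g * x⁻¹) = x * ((u : G) * g) * x⁻¹ := by group
      _ = x * (g * u) * x⁻¹ := by rw [h1]
      _ = _ := by group
  have hcardD' : Nat.card D' = Nat.card (P : Subgroup (Subgroup.centralizer ({g} : Set G))) := by
    rw [hD']
    have e1 := Nat.card_congr (Subgroup.equivMapOfInjective ((P : Subgroup (Subgroup.centralizer ({g} : Set G))).map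
      (Subgroup.centralizer ({g} : Set G)).subtype) (MulAut.conj x).toMonoidHom (MulAut.conj x).injective).toEquiv
    have e2 := Nat.card_congr (Subgroup.equivMapOfInjective (P : Subgroup (Subgroup.centralizer ({g} : Set G)))
      (Subgroup.centralizer ({g} : Set G)).subtype (Subgroup.subtype_injective _)).toEquiv
    rw [← e1, ← e2]
  have hcard : Nat.card (D'.subgroupOf (Subgroup.centralizer ({x * g * x⁻¹} : Set G))) =
      p ^ (Nat.card (Subgroup.centralizer ({x * g * x⁻¹} : Set G))).factorization p := by
    rw [Nat.card_congr (Subgroup.subgroupOfEquivOfLe hle).toEquiv, hcardD', P.card_eq_multiplicity,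
      Cfsg.Agent.Lib.Block.card_centralizer_of_isConj (isConj_iff.mpr ⟨x, rfl⟩)]
  refine ⟨Sylow.ofCard _ hcard, ?_⟩
  rw [Sylow.coe_ofCard, Subgroup.subgroupOf_map_subtype, inf_eq_left.mpr hle]

theorem exists_isDefectGroup (hM : IsPModular p M) {B : Set (IrrCharacter G)} (hB : IsPBlock M B) :
    ∃ D : Subgroup G, IsDefectGroup p M B D := by
  have := isPModular_isPrime hM
  obtain ⟨g, hg⟩ := exists_isDefectClass hB
  obtain ⟨P⟩ : Nonempty (Sylow p (Subgroup.centralizer ({g} : Set G))) := inferInstance
  exact ⟨_, g, hg, P, rfl⟩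

theorem oneIrr_mem_principalBlock [M.IsPrime] : oneIrr G ∈ principalBlock M G := by
  show SameBlock M _ _
  rw [oneIrr_coe]
  exact sameBlock_refl _

theorem isPBlock_principalBlock : IsPBlock M (principalBlock M G) :=
  ⟨oneIrr G, by rw [oneIrr_coe]; rfl⟩

theorem charDegree_oneIrr : charDegree ((oneIrr G : IrrCharacter G) : G → ℂ) = 1 := by
  rw [oneIrr_coe]
  exact charDegree_natCast (n := 1) (by simp)

/-- The principal block has full defect. -/
theorem blockDefect_principalBlock [M.IsPrime] :
    blockDefect p (principalBlock M G) = (Nat.card G).factorization p := by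
  unfold blockDefect
  have h : sInf ((fun χ : IrrCharacter G => (charDegree (χ : G → ℂ)).factorization p) '' principalBlock M G) = 0 := by
    apply Nat.le_zero.mp
    refine Nat.sInf_le ⟨oneIrr G, oneIrr_mem_principalBlock, ?_⟩
    simp [charDegree_oneIrr]
  rw [h, Nat.sub_zero]

/-- **The defect groups of the principal block are the Sylow subgroups.** -/
theorem isDefectGroup_principalBlock_iff (hM : IsPModular p M) (D : Subgroup G) :
    IsDefectGroup p M (principalBlock M G) D ↔ ∃ S : Sylow p G, (S : Subgroup G) = D := by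
  have := isPModular_isPrime hM
  have hcardS : ∀ {E : Subgroup G}, IsDefectGroup p M (principalBlock M G) E →
      Nat.card E = p ^ (Nat.card G).factorization p := fun hE => by
    rw [card_defect_group hM isPBlock_principalBlock hE, blockDefect_principalBlock]
  constructor
  · intro h
    exact ⟨Sylow.ofCard D (hcardS h), Sylow.coe_ofCard _ _⟩
  · rintro ⟨S, rfl⟩
    obtain ⟨D₀, hD₀⟩ := exists_isDefectGroup hM (isPBlock_principalBlock (M := M) (G := G))
    have hS₀ : ∃ S₀ : Sylow p G, (S₀ : Subgroup G) = D₀ :=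
      ⟨Sylow.ofCard D₀ (hcardS hD₀), Sylow.coe_ofCard _ _⟩
    obtain ⟨S₀, rfl⟩ := hS₀
    obtain ⟨x, hx⟩ := MulAction.exists_smul_eq G S₀ S
    have h1 := isDefectGroup_conj hD₀ x
    have h2 : (S₀ : Subgroup G).map (MulAut.conj x).toMonoidHom = (S : Subgroup G) := by
      rw [← hx]
      rfl
    rwa [h2] at h1

end Conj

end Cfsg.Agent.Lib.CharExtra
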