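import Cfsg.Agent.Lib.CharExtra.Covering
import Cfsg.Agent.Lib.CharExtra.DefectClass
import Cfsg.Agent.Lib.Block.FirstMain
import Cfsg.Prelude.Def_BlockLocal

/-!
# Knörr's theorem: defect groups of covered blocks

If the block `B` of `G` covers the block `b` of the normal subgroup `N`, every defect group of `b`
is contained in a conjugate of every defect group of `B`.
-/

set_option autoImplicit false
set_option linter.unusedSectionVars false
set_option linter.unusedSimpArgs false

open scoped ComplexConjugate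
open Cfsg MonoidAlgebra
open Cfsg.Agent.Lib.Block

namespace Cfsg.Agent.Lib.CharExtra

section Orbit

open MulAction

variable {M : Ideal AlgInt} [M.IsPrime]

/-- Weighted orbit sums. -/
theorem memLocalIdeal_sum_of_orbit {Γ X : Type*} [Group Γ] [MulAction Γ X] [Fintype X]
    (w : X → ℂ) (hinv : ∀ (γ : Γ) x, w (γ • x) = w x)
    (h : ∀ x : X, MemLocalIdeal M ((Nat.card (orbit Γ x) : ℂ) * w x)) :
    MemLocalIdeal M (∑ x, w x) := by
  classical
  let e := MulAction.selfEquivSigmaOrbits Γ X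
  let Ω := MulAction.orbitRel.Quotient Γ X
  have : Fintype Ω := Fintype.ofFinite _
  have : ∀ ω : Ω, Fintype (orbit Γ (Quotient.out ω)) := fun ω => Fintype.ofFinite _
  have h1 : ∑ x, w x = ∑ ω : Ω, ∑ y : orbit Γ (Quotient.out ω), w y.1 := by
    rw [← Fintype.sum_sigma', ← Equiv.sum_comp e.symm]
    refine Finset.sum_congr rfl fun y _ => ?_
    obtain ⟨ω, y⟩ := y
    rfl
  have h2 : ∀ ω : Ω, ∑ y : orbit Γ (Quotient.out ω), w y.1 =
      (Nat.card (orbit Γ (Quotient.out ω)) : ℂ) * w (Quotient.out ω) := by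
    intro ω
    rw [Finset.sum_congr rfl (g := fun _ => w (Quotient.out ω))]
    · rw [Finset.sum_const, nsmul_eq_mul, Finset.card_univ, Nat.card_eq_fintype_card]
    · rintro ⟨_, γ, rfl⟩ _
      exact hinv γ _
  rw [h1]
  refine memLocalIdeal_sum _ _ fun ω _ => ?_
  rw [h2]
  exact h _

/-- A `p`-group acting: the sum of an invariant local function is, modulo the local ideal, the sum over
the fixed points. -/
theorem memLocalIdeal_sum_of_fixed {p : ℕ} [hp : Fact p.Prime] (hM : IsPModular p M) {Γ X : Type*}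
    [Group Γ] [Finite Γ] (hΓ : IsPGroup p Γ) [MulAction Γ X] [Fintype X] (w : X → ℂ)
    (hinv : ∀ (γ : Γ) x, w (γ • x) = w x) (hl : ∀ x, MemLocalRing M (w x))
    (h : ∀ x, (∀ γ : Γ, γ • x = x) → MemLocalIdeal M (w x)) :
    MemLocalIdeal M (∑ x, w x) := by
  classical
  refine memLocalIdeal_sum_of_orbit (Γ := Γ) w hinv fun x => ?_
  obtain ⟨k, hk⟩ := hΓ.card_orbit x
  rw [hk]
  rcases k with _ | k
  · rw [pow_zero, Nat.cast_one, one_mul]
    apply h
    have h1 : x ∈ MulAction.fixedPoints Γ X := by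
      rw [MulAction.mem_fixedPoints_iff_card_orbit_eq_one]
      rw [← Nat.card_eq_fintype_card]
      simpa using hk
    exact h1
  · rw [pow_succ]
    push_cast
    rw [mul_comm ((p : ℂ) ^ k), mul_assoc]
    exact memLocalIdeal_mul_right (memLocalIdeal_p hM)
      (memLocalRing_mul (memLocalRing_pow (memLocalRing_natCast p) k) (hl x))

end Orbit

section Pair

variable {G : Type*} [Group G] [Fintype G] {M : Ideal AlgInt} [M.IsPrime] (N : Subgroup G)
  [hN : N.Normal] [Fintype N]

/-- The set of pairs. -/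
def PairT (N : Subgroup G) : Type _ := G × N

noncomputable instance : Fintype (PairT N) := by unfold PairT; infer_instance

/-- The simultaneous conjugation action of `N` on `G × N`. -/
instance pairAct : MulAction N (PairT N) where
  smul := fun n y => ((n : G) * y.1 * (n : G)⁻¹, n * y.2 * n⁻¹)
  one_smul := fun y => Prod.ext (by
      show ((1 : N) : G) * y.1 * ((1 : N) : G)⁻¹ = y.1
      simp) (by
      show (1 : N) * y.2 * (1 : N)⁻¹ = y.2
      simp)
  mul_smul := fun a b y => by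
    show (((a * b : N) : G) * y.1 * ((a * b : N) : G)⁻¹, (a * b) * y.2 * (a * b)⁻¹) =
      ((a : G) * ((b : G) * y.1 * (b : G)⁻¹) * (a : G)⁻¹, a * (b * y.2 * b⁻¹) * a⁻¹)
    refine Prod.ext ?_ ?_
    · simp only [Subgroup.coe_mul]; group
    · simp only [mul_inv_rev, mul_assoc]

/-- The stabilizer of a pair. -/
def pairStab (d : G) (u : N) : Subgroup N :=
  (Subgroup.centralizer ({d} : Set G)).subgroupOf N ⊓ Subgroup.centralizer ({u} : Set N)

theorem pairStab_le (d : G) (u : N) : pairStab N d u ≤ Subgroup.centralizer ({u} : Set N) := inf_le_right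

theorem card_orbit_pairAct (y : PairT N) :
    Nat.card (MulAction.orbit N y) =
      (pairStab N y.1 y.2).relIndex (Subgroup.centralizer ({y.2} : Set N)) *
        (Subgroup.centralizer ({y.2} : Set N)).index := by
  have h1 : MulAction.stabilizer N y = pairStab N y.1 y.2 := by
    ext n
    rw [MulAction.mem_stabilizer_iff]
    unfold pairStab
    rw [Subgroup.mem_inf, Subgroup.mem_subgroupOf, Subgroup.mem_centralizer_singleton_iff,
      Subgroup.mem_centralizer_singleton_iff]
    show (((n : G) * y.1 * (n : G)⁻¹, n * y.2 * n⁻¹) = y) ↔ _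
    constructor
    · intro h
      have h1 := congrArg Prod.fst h
      have h2 := congrArg Prod.snd h
      simp only at h1 h2
      exact ⟨mul_inv_eq_iff_eq_mul.1 h1, mul_inv_eq_iff_eq_mul.1 h2⟩
    · rintro ⟨h1, h2⟩
      exact Prod.ext (mul_inv_eq_iff_eq_mul.2 h1) (mul_inv_eq_iff_eq_mul.2 h2)
  have h2 : Nat.card (MulAction.orbit N y) = (pairStab N y.1 y.2).index := by
    rw [← h1, MulAction.index_stabilizer, Nat.card_coe_set_eq]
  rw [h2]
  exact (Subgroup.relIndex_mul_index (pairStab_le N y.1 y.2)).symm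

/-- From a unit value of the central character to a pair of elements. -/
theorem exists_pair_of_unit {p : ℕ} [hp : Fact p.Prime] (hM : IsPModular p M)
    {e x : MonoidAlgebra ℂ G} (hel : LocalCoeff M e)
    (hxl : LocalCoeff M x) (hei : IsInvBy N e) (hxi : IsInvBy N x) {ψ : IrrCharacter N}
    (h : ¬ MemLocalIdeal M (om (ψ : N → ℂ) (resAlg N (e * x)))) :
    ∃ (d : G) (u : N), ¬ MemLocalIdeal M (e.coeff d) ∧
      ¬ MemLocalIdeal M (centralChar (ψ : N → ℂ) u) ∧
      ¬ p ∣ (pairStab N d u).relIndex (Subgroup.centralizer ({u} : Set N)) := by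
  classical
  by_contra hcon
  push Not at hcon
  apply h
  have hψ1 : (ψ : N → ℂ) 1 ≠ 0 := isIrr_one_ne_zero ψ.2
  have hcl : IsClassFunction N (ψ : N → ℂ) :=
    Cfsg.Agent.Lib.Char.IsCharacter.isClassFunction (Cfsg.Agent.Lib.Char.IsIrrCharacter.isCharacter ψ.2)
  -- the sum over pairs
  let w : PairT N → ℂ := fun y => e.coeff y.1 * x.coeff (y.1⁻¹ * (y.2 : G)) * ((ψ : N → ℂ) y.2 / (ψ : N → ℂ) 1)
  have hsum : om (ψ : N → ℂ) (resAlg N (e * x)) = ∑ y : PairT N, w y := by
    unfold om tr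
    rw [Finset.sum_div]
    show _ = ∑ y : G × N, w y
    rw [Fintype.sum_prod_type_right]
    refine Finset.sum_congr rfl fun u _ => ?_
    rw [coeff_resAlg, coeff_mul_eq, Finset.sum_mul, Finset.sum_div]
    refine Finset.sum_congr rfl fun d _ => ?_
    simp only [w]
    ring
  rw [hsum]
  have hinv : ∀ (n : N) (y : PairT N), w (n • y) = w y := by
    intro n y
    obtain ⟨d, u⟩ := y
    show e.coeff ((n : G) * d * (n : G)⁻¹) *
        x.coeff (((n : G) * d * (n : G)⁻¹)⁻¹ * ((n * u * n⁻¹ : N) : G)) *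
        ((ψ : N → ℂ) (n * u * n⁻¹) / (ψ : N → ℂ) 1) =
      e.coeff d * x.coeff (d⁻¹ * (u : G)) * ((ψ : N → ℂ) u / (ψ : N → ℂ) 1)
    rw [hei n n.2 d]
    have h1 : ((n : G) * d * (n : G)⁻¹)⁻¹ * ((n * u * n⁻¹ : N) : G) = (n : G) * (d⁻¹ * (u : G)) * (n : G)⁻¹ := by
      simp only [Subgroup.coe_mul, Subgroup.coe_inv]
      group
    rw [h1, hxi n n.2]
    have h2 : (ψ : N → ℂ) (n * u * n⁻¹) = (ψ : N → ℂ) u := hcl _ _
    rw [h2]
  refine memLocalIdeal_sum_of_orbit (Γ := N) w hinv ?_
  intro y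
  rw [card_orbit_pairAct]
  obtain ⟨d, u⟩ := y
  show ((((pairStab N d u).relIndex (Subgroup.centralizer ({u} : Set N)) *
        (Subgroup.centralizer ({u} : Set N)).index : ℕ)) : ℂ) * w (d, u) ∈ {c | MemLocalIdeal M c}
  set m := (pairStab N d u).relIndex (Subgroup.centralizer ({u} : Set N)) with hm
  have hterm : ((m * (Subgroup.centralizer ({u} : Set N)).index : ℕ) : ℂ) * w (d, u) =
      e.coeff d * (x.coeff (d⁻¹ * (u : G)) * ((m : ℂ) * centralChar (ψ : N → ℂ) u)) := by
    simp only [w, centralChar]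
    push_cast
    ring
  rw [hterm]
  show MemLocalIdeal M _
  by_cases h1 : MemLocalIdeal M (e.coeff d)
  · exact memLocalIdeal_mul_right h1 (memLocalRing_mul (hxl _)
      (memLocalRing_mul (memLocalRing_natCast m) (memLocalRing_centralChar ψ.2 u)))
  · refine memLocalRing_mul_memLocalIdeal (hel d) (memLocalRing_mul_memLocalIdeal (hxl _) ?_)
    by_cases h2 : MemLocalIdeal M (centralChar (ψ : N → ℂ) u)
    · exact memLocalRing_mul_memLocalIdeal (memLocalRing_natCast m) h2
    · have h3 := hcon d u h1 h2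
      exact memLocalIdeal_mul_right ((memLocalIdeal_natCast_iff hM m).2 h3)
        (memLocalRing_centralChar ψ.2 u)

/-- Sylow subgroups of `K` inside a subgroup of index prime to `p`. -/
theorem exists_sylow_le_of_relIndex {p : ℕ} [hp : Fact p.Prime] {L : Type*} [Group L] [Finite L]
    (K H : Subgroup L) (hidx : ¬ p ∣ H.relIndex K) :
    ∃ Q : Sylow p K, ∀ y ∈ (Q : Subgroup K), (y : L) ∈ H := by
  classical
  obtain ⟨S⟩ : Nonempty (Sylow p (H.subgroupOf K)) := inferInstance
  have hidx' : ¬ p ∣ (H.subgroupOf K).index := hidx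
  have hcard : Nat.card ((S : Subgroup (H.subgroupOf K)).map (H.subgroupOf K).subtype) =
      p ^ (Nat.card K).factorization p := by
    have h1 : Nat.card ((S : Subgroup (H.subgroupOf K)).map (H.subgroupOf K).subtype) = Nat.card S :=
      Nat.card_congr (Subgroup.equivMapOfInjective _ _ (Subgroup.subtype_injective _)).symm.toEquiv
    rw [h1, S.card_eq_multiplicity]
    have h2 : Nat.card K = Nat.card (H.subgroupOf K) * (H.subgroupOf K).index :=
      (Subgroup.card_mul_index _).symm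
    have hne : (H.subgroupOf K).index ≠ 0 := Subgroup.index_ne_zero_of_finite
    have hne2 : Nat.card (H.subgroupOf K) ≠ 0 := Nat.card_pos.ne'
    rw [h2, Nat.factorization_mul hne2 hne, Finsupp.add_apply,
      Nat.factorization_eq_zero_of_not_dvd hidx', add_zero]
  refine ⟨Sylow.ofCard _ hcard, ?_⟩
  intro y hy
  obtain ⟨s, _, rfl⟩ := (show y ∈ (S : Subgroup (H.subgroupOf K)).map (H.subgroupOf K).subtype from hy)
  exact s.2

end Pair

section Conj

variable {G : Type*} [Group G] [Fintype G]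

/-- Conjugate of a group algebra element. -/
noncomputable def conjElt (g : G) (y : MonoidAlgebra ℂ G) : MonoidAlgebra ℂ G :=
  MonoidAlgebra.single g 1 * y * MonoidAlgebra.single g⁻¹ 1

theorem coeff_conjElt (g : G) (y : MonoidAlgebra ℂ G) (h : G) :
    (conjElt g y).coeff h = y.coeff (g⁻¹ * h * g) := by
  unfold conjElt
  rw [MonoidAlgebra.coeff_mul_single_apply, MonoidAlgebra.coeff_single_mul_apply]
  simp [mul_assoc]

theorem conjElt_central_mul {e : MonoidAlgebra ℂ G} (he : IsCentralElt e) (g : G)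
    (x : MonoidAlgebra ℂ G) : conjElt g (e * x) = e * conjElt g x := by
  unfold conjElt
  have h := isCentralElt_commute he (MonoidAlgebra.single g (1 : ℂ))
  rw [← mul_assoc, ← h]
  simp only [mul_assoc]

theorem localCoeff_conjElt {M : Ideal AlgInt} [M.IsPrime] (g : G) {x : MonoidAlgebra ℂ G}
    (hx : LocalCoeff M x) : LocalCoeff M (conjElt g x) := by
  intro h
  rw [coeff_conjElt]
  exact hx _

theorem isInvBy_conjElt (N : Subgroup G) [hN : N.Normal] (g : G) {x : MonoidAlgebra ℂ G}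
    (hx : IsInvBy N x) : IsInvBy N (conjElt g x) := by
  intro n hn h
  rw [coeff_conjElt, coeff_conjElt]
  have h1 : g⁻¹ * (n * h * n⁻¹) * g = (g⁻¹ * n * g) * (g⁻¹ * h * g) * (g⁻¹ * n * g)⁻¹ := by group
  rw [h1]
  refine hx _ ?_ _
  have := hN.conj_mem n hn g⁻¹
  simpa using this

variable (N : Subgroup G) [hN : N.Normal] [Fintype N]

theorem om_conjIrr_resAlg (g : G) (ψ : IrrCharacter N) (y : MonoidAlgebra ℂ G) :
    om (conjIrr N g ψ : N → ℂ) (resAlg N y) = om (ψ : N → ℂ) (resAlg N (conjElt g y)) := by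
  classical
  unfold om tr
  rw [conjIrr_coe, Cfsg.Agent.Lib.Char.conjFn_map_one]
  congr 1
  rw [← Equiv.sum_comp (Cfsg.Agent.Lib.Char.conjEquiv hN g).toEquiv (fun n : N => (resAlg N (conjElt g y)).coeff n * (ψ : N → ℂ) n)]
  refine Finset.sum_congr rfl fun n _ => ?_
  rw [coeff_resAlg, coeff_resAlg, coeff_conjElt]
  have h1 : g⁻¹ * (((Cfsg.Agent.Lib.Char.conjEquiv hN g).toEquiv n : N) : G) * g = (n : G) := by
    show g⁻¹ * (g * (n : G) * g⁻¹) * g = n
    group
  rw [h1]
  rfl

end Conj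

section Knorr

variable {G : Type*} [Group G] [Fintype G] {M : Ideal AlgInt} [hMp : M.IsPrime] (N : Subgroup G)
  [hN : N.Normal] [Fintype N] {p : ℕ} [hp : Fact p.Prime]

/-- If `B` covers `b` there is a unit among the central characters of `b`. -/
theorem exists_unit_of_cover {B : Set (IrrCharacter G)} (hB : IsPBlock M B)
    {b : Set (IrrCharacter N)} (hb : IsPBlock M b)
    (hcov : ∃ χ ∈ B, ∃ θ ∈ b, classInner (fun n : N => (χ : G → ℂ) n) (θ : N → ℂ) ≠ 0) :
    ∃ (x : MonoidAlgebra ℂ G) (ψ : IrrCharacter N), LocalCoeff M x ∧ IsInvBy N x ∧ ψ ∈ b ∧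
      ¬ MemLocalIdeal M (om (ψ : N → ℂ) (resAlg N (blockElt B * x))) := by
  classical
  by_contra hcon
  push Not at hcon
  obtain ⟨χ₀, hχ₀, θ₀, hθ₀, hc₀⟩ := hcov
  have hBU : IsBlockUnion M B := isBlockUnion_of_isPBlock hB
  have hbU : IsBlockUnion M b := isBlockUnion_of_isPBlock hb
  have hel : LocalCoeff M (blockElt B) := localCoeff_blockElt hBU
  have hec : IsCentralElt (blockElt B) := isCentralElt_blockElt B
  have hover : ∀ χ ∈ B, χ ∈ overSet N (sat N b) := by
    intro χ hχ
    have h1 : χ₀ ∈ overSet N (sat N b) := ⟨θ₀, subset_sat N _ hθ₀, hc₀⟩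
    by_contra h2
    exact isBlockUnion_over N (isStable_sat N b) (isBlockUnion_sat N hbU) χ₀ h1 χ h2
      (sameBlock_of_mem hB hχ₀ hχ)
  have hEe : incl N (blockElt (sat N b)) * blockElt B = blockElt B := by
    rw [incl_blockElt_eq_over N (isStable_sat N b)]
    apply central_ext_om (isCentralElt_mul (isCentralElt_blockElt _) hec) hec
    intro χ
    rw [om_mul χ.2 (isCentralElt_blockElt _)]
    by_cases hχ : χ ∈ B
    · rw [om_blockElt_of_mem (hover χ hχ), one_mul]
    · rw [om_blockElt_of_notMem hχ, mul_zero]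
  have key : LocalIdealCoeff M (blockElt B) := by
    refine localIdealCoeff_of_graded N hel (hec.isInvBy N) (blockElt_mul_self B) ?_
    intro x hxl hxi ψ
    by_cases hψ : ψ ∈ sat N b
    · obtain ⟨g, ψ', hψ', rfl⟩ := hψ
      rw [om_conjIrr_resAlg, conjElt_central_mul hec]
      exact hcon _ _ (localCoeff_conjElt g hxl) (isInvBy_conjElt N g hxi) hψ'
    · set w := resAlg N (blockElt B * x) with hw
      have hEw : blockElt (sat N b) * w = w := by
        rw [hw, ← resAlg_incl_mul, ← mul_assoc, hEe]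
      have hwc : IsCentralElt w := by
        intro c n
        rw [hw, coeff_resAlg, coeff_resAlg]
        exact ((hec.isInvBy N).mul hxi) c c.2 n
      have h4 : om (ψ : N → ℂ) w = 0 := by
        rw [← hEw, om_mul ψ.2 (isCentralElt_blockElt _), om_blockElt_of_notMem hψ, zero_mul]
      rw [h4]
      exact memLocalIdeal_zero
  have h1 := memLocalIdeal_om_of_localIdealCoeff χ₀.2 hec key
  rw [om_blockElt_of_mem hχ₀] at h1
  exact not_memLocalIdeal_one h1

/-- **Knörr, first half.** A defect group of a covered block lies in a conjugate of each defect group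
of the covering block. -/
theorem defect_le_conj_of_cover (hM : IsPModular p M) {B : Set (IrrCharacter G)} (hB : IsPBlock M B)
    {b : Set (IrrCharacter N)} (hb : IsPBlock M b)
    (hcov : ∃ χ ∈ B, ∃ θ ∈ b, classInner (fun n : N => (χ : G → ℂ) n) (θ : N → ℂ) ≠ 0)
    {D : Subgroup N} (hD : IsDefectGroup p M b D) {P : Subgroup G} (hP : IsDefectGroup p M B P) :
    ∃ x : G, D.map N.subtype ≤ P.map (MulAut.conj x).toMonoidHom := by
  classical
  obtain ⟨x, ψ, hxl, hxi, hψ, hunit⟩ := exists_unit_of_cover N hB hb hcov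
  obtain ⟨d, u, h1, h2, h3⟩ := exists_pair_of_unit N hM (localCoeff_blockElt (isBlockUnion_of_isPBlock hB))
    hxl ((isCentralElt_blockElt B).isInvBy N) hxi hunit
  obtain ⟨Q, hQ⟩ := exists_sylow_le_of_relIndex (p := p) (Subgroup.centralizer ({u} : Set N))
    (pairStab N d u) h3
  obtain ⟨g₁, hg₁, S₁, rfl⟩ := hD
  have hDp : IsPGroup p ((S₁ : Subgroup (Subgroup.centralizer ({g₁} : Set N))).map
      (Subgroup.centralizer ({g₁} : Set N)).subtype) := S₁.isPGroup'.map _
  have hDc : (S₁ : Subgroup (Subgroup.centralizer ({g₁} : Set N))).map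
      (Subgroup.centralizer ({g₁} : Set N)).subtype ≤ Subgroup.centralizer ({g₁} : Set N) := by
    rintro _ ⟨s, _, rfl⟩
    exact s.2
  obtain ⟨y, hy⟩ := minmax_le hM hb hψ h2 hg₁.2.1 hDp hDc Q
  set D := (S₁ : Subgroup (Subgroup.centralizer ({g₁} : Set N))).map
      (Subgroup.centralizer ({g₁} : Set N)).subtype with hD
  set E : Subgroup G := (D.map (MulAut.conj y⁻¹).toMonoidHom).map N.subtype with hE
  have hEp : IsPGroup p E := (hDp.map _).map _
  have hEd : E ≤ Subgroup.centralizer ({d} : Set G) := by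
    rintro _ ⟨_, ⟨t, ht, rfl⟩, rfl⟩
    obtain ⟨_, ⟨q, hq, rfl⟩, hqt⟩ := hy ht
    have h4 := hQ q hq
    have h5 : (MulAut.conj y⁻¹).toMonoidHom t = (q : N) := by
      rw [← hqt]
      simp [mul_assoc]
    rw [h5]
    have h6 : (q : N) ∈ (Subgroup.centralizer ({d} : Set G)).subgroupOf N := h4.1
    rw [Subgroup.mem_subgroupOf] at h6
    exact h6
  obtain ⟨g₂, hg₂, S₂, rfl⟩ := hP
  obtain ⟨χ, hχ⟩ := IsPBlock_nonempty hB
  have hd : ¬ MemLocalIdeal M (blockCoeff B d) := by
    rwa [← coeff_blockElt]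
  obtain ⟨x', hx'⟩ := minmax_le hM hB hχ (hg₂.2.2 χ hχ) hd hEp hEd S₂
  refine ⟨(y : G) * x', ?_⟩
  rintro _ ⟨t, ht, rfl⟩
  have h7 : ((y⁻¹ * t * y : N) : G) ∈ E := by
    refine ⟨y⁻¹ * t * y, ⟨t, ht, ?_⟩, rfl⟩
    simp
  obtain ⟨_, ⟨s, hs, rfl⟩, hs2⟩ := hx' h7
  refine ⟨(s : G), ⟨s, hs, rfl⟩, ?_⟩
  simp only [MulEquiv.coe_toMonoidHom, MulAut.conj_apply, Subgroup.coe_subtype] at hs2 ⊢
  simp only [Subgroup.coe_mul, Subgroup.coe_inv] at hs2
  calc (y : G) * x' * s * ((y : G) * x')⁻¹ = (y : G) * (x' * s * x'⁻¹) * (y : G)⁻¹ := by group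
    _ = (y : G) * ((y : G)⁻¹ * (t : G) * (y : G)) * (y : G)⁻¹ := by rw [hs2]
    _ = t := by group

/-- The conjugate of a set of characters under the left action. -/
def blockConj (x : G) (c : Set (IrrCharacter N)) : Set (IrrCharacter N) := conjIrr N x⁻¹ '' c

theorem mem_blockConj {x : G} {c : Set (IrrCharacter N)} {ψ : IrrCharacter N} :
    ψ ∈ blockConj N x c ↔ conjIrr N x ψ ∈ c := by
  constructor
  · rintro ⟨θ, hθ, rfl⟩
    have := conjIrr_conjIrr_inv N x θ
    rwa [this]
  · intro h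
    refine ⟨_, h, ?_⟩
    have := conjIrr_inv_conjIrr N x ψ
    exact this

theorem isPBlock_blockConj (x : G) {c : Set (IrrCharacter N)} (hc : IsPBlock M c) :
    IsPBlock M (blockConj N x c) := by
  obtain ⟨θ₀, rfl⟩ := hc
  refine ⟨conjIrr N x⁻¹ θ₀, ?_⟩
  ext ψ
  rw [mem_blockConj]
  constructor
  · intro h
    have := sameBlock_conjIrr N x⁻¹ h
    rw [conjIrr_inv_conjIrr] at this
    exact this
  · intro h
    have := sameBlock_conjIrr N x h
    rw [conjIrr_conjIrr_inv] at this
    exact this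

theorem blockCoeff_blockConj (x : G) (c : Set (IrrCharacter N)) (v : N) :
    blockCoeff (blockConj N x c) v =
      blockCoeff c ⟨x⁻¹ * (v : G) * x, by simpa using hN.conj_mem v v.2 x⁻¹⟩ := by
  classical
  rw [blockCoeff_eq_sum, blockCoeff_eq_sum]
  congr 1
  refine Finset.sum_bij' (fun θ _ => conjIrr N x θ) (fun θ _ => conjIrr N x⁻¹ θ) (by simp)
    (by simp) (fun θ _ => conjIrr_inv_conjIrr N x θ) (fun θ _ => conjIrr_conjIrr_inv N x θ) ?_
  intro θ _
  by_cases hθ : θ ∈ blockConj N x c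
  · have e : (⟨x * (x⁻¹ * (v : G) * x) * x⁻¹, hN.conj_mem _ (by simpa using hN.conj_mem v v.2 x⁻¹) x⟩ : N) = v :=
      Subtype.ext (by show x * (x⁻¹ * (v : G) * x) * x⁻¹ = v; group)
    have h2 : (conjIrr N x θ : N → ℂ) ⟨x⁻¹ * (v : G) * x, by simpa using hN.conj_mem v v.2 x⁻¹⟩ = (θ : N → ℂ) v := by
      rw [conjIrr_coe]
      exact congrArg (θ : N → ℂ) e
    rw [if_pos hθ, if_pos (mem_blockConj N |>.1 hθ), h2, conjIrr_coe, Cfsg.Agent.Lib.Char.conjFn_map_one]
  · rw [if_neg hθ, if_neg (fun h => hθ (mem_blockConj N |>.2 h))]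

/-- The finite set of blocks inside a stable union, on which `P` acts. -/
abbrev BlocksIn (U : Set (IrrCharacter N)) : Type _ :=
  {c : Set (IrrCharacter N) // IsPBlock M c ∧ c ⊆ U}

noncomputable instance blocksInFintype (U : Set (IrrCharacter N)) : Fintype (BlocksIn (M := M) N U) :=
  Fintype.ofFinite _

/-- The action of a subgroup of `G` on the blocks of `N` inside a stable set. -/
def blocksAct (P : Subgroup G) {U : Set (IrrCharacter N)} (hU : IsStable N U) :
    MulAction P (BlocksIn (M := M) N U) where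
  smul := fun x c => ⟨blockConj N (x : G) c.1, isPBlock_blockConj N _ c.2.1, by
    rintro _ ⟨θ, hθ, rfl⟩
    exact hU _ _ (c.2.2 hθ)⟩
  one_smul := fun c => by
    apply Subtype.ext
    show blockConj N ((1 : P) : G) c.1 = c.1
    ext ψ
    rw [mem_blockConj]
    have : conjIrr N (((1 : P) : G)) ψ = ψ := by
      apply Subtype.ext
      rw [conjIrr_coe]
      simp [Cfsg.Agent.Lib.Char.conjFn_one]
    rw [this]
  mul_smul := fun a b c => by
    apply Subtype.ext
    show blockConj N ((a * b : P) : G) c.1 = blockConj N (a : G) (blockConj N (b : G) c.1)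
    ext ψ
    rw [mem_blockConj, mem_blockConj, mem_blockConj, Subgroup.coe_mul, conjIrr_mul]

open Classical in
theorem sum_blockCoeff_blocksIn {U : Set (IrrCharacter N)} (hU : IsBlockUnion M U) (v : N) :
    ∑ c : BlocksIn (M := M) N U, blockCoeff c.1 v = blockCoeff U v := by
  classical
  simp only [blockCoeff_eq_sum]
  rw [← Finset.mul_sum, Finset.sum_comm]
  congr 1
  refine Finset.sum_congr rfl fun θ _ => ?_
  by_cases hθ : θ ∈ U
  · rw [if_pos hθ]
    have hsub : blockOf M (θ : N → ℂ) ⊆ U := by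
      intro ψ hψ
      by_contra hcon
      exact hU θ hθ ψ hcon hψ
    rw [Finset.sum_eq_single (⟨blockOf M (θ : N → ℂ), isPBlock_blockOf θ, hsub⟩ : BlocksIn (M := M) N U)]
    · rw [if_pos (mem_blockOf_self θ)]
    · intro c _ hc
      rw [if_neg]
      intro h
      apply hc
      apply Subtype.ext
      exact (blockOf_eq_of_mem c.2.1 h)
    · simp
  · rw [if_neg hθ]
    refine Finset.sum_eq_zero fun c _ => ?_
    rw [if_neg (fun h => hθ (c.2.2 h))]

/-- The stable block with a unit coefficient. -/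
theorem exists_stable_block_of_coeff (hM : IsPModular p M) {P : Subgroup G} (hP : IsPGroup p P)
    {U : Set (IrrCharacter N)} (hU : IsStable N U) (hU' : IsBlockUnion M U) {v : N}
    (hv : ∀ x ∈ P, ∀ y : G, y = v → x * y = y * x) (h : ¬ MemLocalIdeal M (blockCoeff U v)) :
    ∃ c : Set (IrrCharacter N), IsPBlock M c ∧ c ⊆ U ∧ (∀ x ∈ P, blockConj N x c = c) ∧
      ¬ MemLocalIdeal M (blockCoeff c v) := by
  classical
  by_contra hcon
  push Not at hcon
  apply h
  rw [← sum_blockCoeff_blocksIn N hU' v]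
  letI := blocksAct (M := M) N P hU
  refine memLocalIdeal_sum_of_fixed (Γ := P) hM hP (fun c : BlocksIn (M := M) N U => blockCoeff c.1 v) ?_
    (fun c => memLocalRing_blockCoeff (isBlockUnion_of_isPBlock c.2.1) v) ?_
  · intro γ c
    show blockCoeff (blockConj N (γ : G) c.1) v = blockCoeff c.1 v
    rw [blockCoeff_blockConj]
    congr 1
    apply Subtype.ext
    show (γ : G)⁻¹ * (v : G) * γ = v
    rw [mul_assoc, inv_mul_eq_iff_eq_mul]
    exact (hv γ γ.2 v rfl).symm
  · intro c hc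
    refine hcon c.1 c.2.1 c.2.2 ?_
    intro x hx
    exact congrArg Subtype.val (hc ⟨x, hx⟩)

theorem stabilizesBlock_of_blockConj {c : Set (IrrCharacter N)} {x : G} (h : blockConj N x c = c) :
    StabilizesBlock N c x := by
  refine ⟨by rw [Subgroup.normalizer_eq_top_iff.2 hN]; exact Subgroup.mem_top x, fun χ hχ => ?_⟩
  refine ⟨conjIrr N x⁻¹ χ, ?_, ?_⟩
  · rw [← h]
    exact ⟨χ, hχ, rfl⟩
  · intro k k' hk
    rw [conjIrr_coe]
    have e : (⟨x⁻¹ * (k' : G) * x⁻¹⁻¹, hN.conj_mem _ k'.2 x⁻¹⟩ : N) = k :=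
      Subtype.ext (by
        show x⁻¹ * (k' : G) * x⁻¹⁻¹ = k
        rw [hk]
        group)
    exact congrArg (χ : N → ℂ) e

/-- **Knörr's theorem**, the stable block form. -/
theorem exists_stable_block_defect (hM : IsPModular p M) {B : Set (IrrCharacter G)} (hB : IsPBlock M B)
    {P : Subgroup G} (hP : IsDefectGroup p M B P)
    {b : Set (IrrCharacter N)} (hb : IsPBlock M b)
    (hcov : ∃ χ ∈ B, ∃ θ ∈ b, classInner (fun n : N => (χ : G → ℂ) n) (θ : N → ℂ) ≠ 0) :
    ∃ c : Set (IrrCharacter N), IsPBlock M c ∧ c ⊆ sat N b ∧ (∀ x ∈ P, StabilizesBlock N c x) ∧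
      (∃ χ ∈ B, ∃ θ ∈ c, classInner (fun n : N => (χ : G → ℂ) n) (θ : N → ℂ) ≠ 0) ∧
      IsDefectGroup p M c ((P ⊓ N).subgroupOf N) := by
  classical
  have hBU : IsBlockUnion M B := isBlockUnion_of_isPBlock hB
  have hbU : IsBlockUnion M b := isBlockUnion_of_isPBlock hb
  obtain ⟨χ₀, hχ₀, θ₀, hθ₀, hc₀⟩ := hcov
  have hel : LocalCoeff M (blockElt B) := localCoeff_blockElt hBU
  have hec : IsCentralElt (blockElt B) := isCentralElt_blockElt B
  have hover : ∀ χ ∈ B, χ ∈ overSet N (sat N b) := by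
    intro χ hχ
    have h1 : χ₀ ∈ overSet N (sat N b) := ⟨θ₀, subset_sat N _ hθ₀, hc₀⟩
    by_contra h2
    exact isBlockUnion_over N (isStable_sat N b) (isBlockUnion_sat N hbU) χ₀ h1 χ h2
      (sameBlock_of_mem hB hχ₀ hχ)
  have hEc : IsCentralElt (incl N (blockElt (sat N b))) := isCentralElt_incl_blockElt N (isStable_sat N b)
  have hEl : LocalCoeff M (incl N (blockElt (sat N b))) :=
    localCoeff_incl N (localCoeff_blockElt (isBlockUnion_sat N hbU))
  have hEe : blockElt B * incl N (blockElt (sat N b)) = blockElt B := by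
    rw [incl_blockElt_eq_over N (isStable_sat N b)]
    apply central_ext_om (isCentralElt_mul hec (isCentralElt_blockElt _)) hec
    intro χ
    rw [om_mul χ.2 hec]
    by_cases hχ : χ ∈ B
    · rw [om_blockElt_of_mem (hover χ hχ), mul_one]
    · rw [om_blockElt_of_notMem hχ, zero_mul]
  have hP0 := hP
  obtain ⟨g, hg, S, hPS⟩ := hP0
  have hPp : IsPGroup p P := by
    rw [hPS]
    exact S.isPGroup'.map _
  have hPg : P ≤ Subgroup.centralizer ({g} : Set G) := by
    rw [hPS]
    rintro _ ⟨s, _, rfl⟩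
    exact s.2
  -- the Brauer map
  set T := Subgroup.centralizer (P : Set G) with hT
  have hgT : g ∈ T := by
    rw [hT, Subgroup.mem_centralizer_iff]
    intro h hh
    have := hPg hh
    rw [Subgroup.mem_centralizer_singleton_iff] at this
    exact this
  have hBr := localIdealCoeff_resG_mul_sub hM hPp (hec.isInvBy P) (hEc.isInvBy P) hel hEl
  rw [hEe] at hBr
  have hexv : ∃ v : G, v ∈ T ∧ ¬ MemLocalIdeal M ((incl N (blockElt (sat N b))).coeff v) := by
    by_contra hcon
    push Not at hcon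
    have h1 : LocalIdealCoeff M (resG T (incl N (blockElt (sat N b)))) := by
      intro v
      by_cases hv : v ∈ T
      · rw [coeff_resG_of_mem T _ hv]
        exact hcon v hv
      · rw [coeff_resG_of_notMem T _ hv]
        exact memLocalIdeal_zero
    have h2 := localIdealCoeff_mul_left (localCoeff_resG T hel) h1
    have h3 := localIdealCoeff_add hBr h2
    have h4 := h3 g
    rw [sub_add_cancel, coeff_resG_of_mem T _ hgT, coeff_blockElt] at h4
    exact hg.2.1 h4
  obtain ⟨v, hvT, hvunit⟩ := hexv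
  have hvN : v ∈ N := by
    by_contra h1
    rw [coeff_incl_of_notMem N _ h1] at hvunit
    exact hvunit memLocalIdeal_zero
  have hv2 : ¬ MemLocalIdeal M (blockCoeff (sat N b) (⟨v, hvN⟩ : N)) := by
    have := coeff_incl_coe N (blockElt (sat N b)) ⟨v, hvN⟩
    simp only at this
    rw [this, coeff_blockElt] at hvunit
    exact hvunit
  obtain ⟨c, hc, hcsub, hcst, hcunit⟩ := exists_stable_block_of_coeff N hM hPp (isStable_sat N b)
    (isBlockUnion_sat N hbU) (v := ⟨v, hvN⟩) (by
      intro x hx y hy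
      rw [hy]
      exact (Subgroup.mem_centralizer_iff.1 hvT) x hx) hv2
  have hcov' : ∃ χ ∈ B, ∃ θ ∈ c, classInner (fun n : N => (χ : G → ℂ) n) (θ : N → ℂ) ≠ 0 := by
    obtain ⟨θ, hθ⟩ := IsPBlock_nonempty hc
    obtain ⟨g', θ', hθ', rfl⟩ := hcsub hθ
    obtain ⟨χ, hχ, hcc⟩ := exists_over_of_cover N hB hb ⟨χ₀, hχ₀, θ₀, hθ₀, hc₀⟩ hθ'
    refine ⟨χ, hχ, _, hθ, ?_⟩
    rw [classInner_conjIrr]
    exact hcc
  refine ⟨c, hc, hcsub, fun x hx => stabilizesBlock_of_blockConj N (hcst x hx), hcov', ?_⟩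
  -- the defect group
  obtain ⟨g_c, hg_c⟩ := exists_isDefectClass hc
  obtain ⟨S_c⟩ : Nonempty (Sylow p (Subgroup.centralizer ({g_c} : Set N))) := inferInstance
  obtain ⟨θ_c, hθ_c⟩ := IsPBlock_nonempty hc
  set E₀ : Subgroup N := (P ⊓ N).subgroupOf N with hE₀
  have hE₀p : IsPGroup p E₀ := by
    have h1 : IsPGroup p (P ⊓ N : Subgroup G) := hPp.to_le inf_le_left
    exact h1.comap_of_injective N.subtype (Subgroup.subtype_injective _)
  have hE₀c : E₀ ≤ Subgroup.centralizer ({(⟨v, hvN⟩ : N)} : Set N) := by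
    intro t ht
    rw [Subgroup.mem_centralizer_singleton_iff]
    apply Subtype.ext
    have h1 : (t : G) ∈ P := (Subgroup.mem_subgroupOf.1 ht).1
    exact (Subgroup.mem_centralizer_iff.1 hvT (t : G) h1)
  obtain ⟨y, hy⟩ := minmax_le hM hc hθ_c (hg_c.2.2 θ_c hθ_c) hcunit hE₀p hE₀c S_c
  have hD' : IsDefectGroup p M c (((S_c : Subgroup (Subgroup.centralizer ({g_c} : Set N))).map
      (Subgroup.centralizer ({g_c} : Set N)).subtype).map (MulAut.conj y).toMonoidHom) :=
    isDefectGroup_conj ⟨g_c, hg_c, S_c, rfl⟩ y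
  set D' := ((S_c : Subgroup (Subgroup.centralizer ({g_c} : Set N))).map
      (Subgroup.centralizer ({g_c} : Set N)).subtype).map (MulAut.conj y).toMonoidHom with hD'def
  obtain ⟨z, hz⟩ := defect_le_conj_of_cover N hM hB hc hcov' hD' hP
  have heq : E₀ = D' := by
    apply Subgroup.eq_of_le_of_card_ge hy
    -- card
    have h1 : Nat.card D' = Nat.card (D'.map N.subtype) :=
      Nat.card_congr (Subgroup.equivMapOfInjective _ _ (Subgroup.subtype_injective _)).toEquiv
    have h2 : Nat.card E₀ = Nat.card (P ⊓ N : Subgroup G) := by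
      have : Subgroup.map N.subtype E₀ = P ⊓ N := by
        rw [hE₀, Subgroup.map_subgroupOf_eq_of_le inf_le_right]
      rw [← this]
      exact Nat.card_congr (Subgroup.equivMapOfInjective _ _ (Subgroup.subtype_injective _)).toEquiv
    have h3 : D'.map N.subtype ≤ (P ⊓ N).map (MulAut.conj z).toMonoidHom := by
      intro t ht
      have h4 := hz ht
      obtain ⟨s, hs, rfl⟩ := h4
      obtain ⟨d, _, hd⟩ := ht
      refine ⟨s, ⟨hs, ?_⟩, rfl⟩
      have h5 : (MulAut.conj z).toMonoidHom s ∈ N := by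
        rw [← hd]
        exact d.2
      have h6 := hN.conj_mem _ h5 z⁻¹
      have h7 : z⁻¹ * ((MulAut.conj z).toMonoidHom s) * z⁻¹⁻¹ = s := by
        simp [mul_assoc]
      rwa [h7] at h6
    have h5 : Nat.card ((P ⊓ N).map (MulAut.conj z).toMonoidHom) = Nat.card (P ⊓ N : Subgroup G) :=
      Nat.card_congr (Subgroup.equivMapOfInjective _ _ (MulAut.conj z).injective).symm.toEquiv
    have h6 := Subgroup.card_le_of_le h3
    rw [h1, h2, ← h5]
    exact h6
  rw [heq]
  exact hD'

theorem charDegree_conjIrr (g : G) (θ : IrrCharacter N) :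
    charDegree (conjIrr N g θ : N → ℂ) = charDegree (θ : N → ℂ) := by
  unfold charDegree
  rw [conjIrr_coe, Cfsg.Agent.Lib.Char.conjFn_map_one]

theorem blockDefect_blockConj (x : G) (c : Set (IrrCharacter N)) :
    blockDefect p (blockConj N x c) = blockDefect p c := by
  unfold blockDefect
  congr 2
  ext n
  constructor
  · rintro ⟨_, ⟨θ, hθ, rfl⟩, rfl⟩
    exact ⟨θ, hθ, by simp only [charDegree_conjIrr]⟩
  · rintro ⟨θ, hθ, rfl⟩
    exact ⟨conjIrr N x⁻¹ θ, ⟨θ, hθ, rfl⟩, by simp only [charDegree_conjIrr]⟩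

/-- A block inside the saturation of a block is a conjugate. -/
theorem exists_eq_blockConj_of_subset_sat {b c : Set (IrrCharacter N)} (hb : IsPBlock M b)
    (hc : IsPBlock M c) (h : c ⊆ sat N b) : ∃ x : G, c = blockConj N x b := by
  obtain ⟨θ, hθ⟩ := IsPBlock_nonempty hc
  obtain ⟨g, θ', hθ', rfl⟩ := h hθ
  refine ⟨g⁻¹, ?_⟩
  have h1 := isPBlock_blockConj N (M := M) g⁻¹ hb
  have h2 : conjIrr N g θ' ∈ blockConj N g⁻¹ b := by
    rw [mem_blockConj, conjIrr_inv_conjIrr]
    exact hθ'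
  rw [blockOf_eq_of_mem hc hθ, blockOf_eq_of_mem h1 h2]

/-- **Knörr's theorem.** -/
theorem exists_defect_inf_eq (hM : IsPModular p M) {B : Set (IrrCharacter G)} (hB : IsPBlock M B)
    {b : Set (IrrCharacter N)} (hb : IsPBlock M b)
    (hcov : ∃ χ ∈ B, ∃ θ ∈ b, classInner (fun n : N => (χ : G → ℂ) n) (θ : N → ℂ) ≠ 0)
    {Q : Subgroup G} (hQN : Q ≤ N) (hQ : IsDefectGroup p M b (Q.subgroupOf N)) :
    ∃ P : Subgroup G, IsDefectGroup p M B P ∧ P ⊓ N = Q := by
  classical
  obtain ⟨P₀, hP₀⟩ := exists_isDefectGroup hM hB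
  obtain ⟨x, hx⟩ := defect_le_conj_of_cover N hM hB hb hcov hQ hP₀
  have hP := isDefectGroup_conj hP₀ x
  set P := P₀.map (MulAut.conj x).toMonoidHom with hPdef
  refine ⟨P, hP, ?_⟩
  have h1 : Q ≤ P ⊓ N := by
    refine le_inf ?_ hQN
    rw [Subgroup.map_subgroupOf_eq_of_le hQN] at hx
    exact hx
  obtain ⟨c, hc, hcsub, _, _, hcD⟩ := exists_stable_block_defect N hM hB hP hb hcov
  obtain ⟨y, rfl⟩ := exists_eq_blockConj_of_subset_sat N hb hc hcsub
  have h2 := card_defect_group hM hc hcD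
  have h3 := card_defect_group hM hb hQ
  rw [blockDefect_blockConj] at h2
  have h4 : Nat.card ((P ⊓ N).subgroupOf N) = Nat.card (P ⊓ N : Subgroup G) := by
    have : Subgroup.map N.subtype ((P ⊓ N).subgroupOf N) = P ⊓ N := by
      rw [Subgroup.map_subgroupOf_eq_of_le inf_le_right]
    conv_rhs => rw [← this]
    exact Nat.card_congr (Subgroup.equivMapOfInjective _ _ (Subgroup.subtype_injective _)).toEquiv
  have h5 : Nat.card (Q.subgroupOf N) = Nat.card Q := by
    have : Subgroup.map N.subtype (Q.subgroupOf N) = Q := by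
      rw [Subgroup.map_subgroupOf_eq_of_le hQN]
    conv_rhs => rw [← this]
    exact Nat.card_congr (Subgroup.equivMapOfInjective _ _ (Subgroup.subtype_injective _)).toEquiv
  symm
  apply Subgroup.eq_of_le_of_card_ge h1
  rw [← h4, ← h5, h2, h3]

end Knorr

end Cfsg.Agent.Lib.CharExtra
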