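import Cfsg.Agent.Lib.CharExtra.PRegRank
import Cfsg.Agent.Lib.CharExtra.DefectClass
import Cfsg.Agent.Lib.CharExtra.Central
import Cfsg.Agent.Lib.Degree.Inflate
import Cfsg.Agent.Lib.Char.DefectZero
import Cfsg.Agent.Lib.Block.Jordan

/-!
# Blocks with central defect group have a single Brauer character
-/

set_option autoImplicit false
set_option linter.unusedSectionVars false
set_option linter.style.haveILetI false
set_option linter.unusedSimpArgs false
set_option linter.unnecessarySimpa false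

open scoped ComplexConjugate

namespace Cfsg.Agent.Lib.CharExtra

open Cfsg Cfsg.Agent.Lib.Char Cfsg.Agent.Lib.Block Cfsg.Agent.Lib.Degree

section Avg

variable {G : Type*} [Group G] [Fintype G] (P : Subgroup G) [Fintype P]

/-- The `P`-translate average of a function. -/
noncomputable def secAvg (f : G → ℂ) : G → ℂ := fun x => ∑ z : P, f (x * z)

variable {p : ℕ} [hp : Fact p.Prime] {M : Ideal AlgInt}

theorem secAvg_isClassFunction (hP : P ≤ Subgroup.center G) {f : G → ℂ} (hf : IsClassFunction G f) :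
    IsClassFunction G (secAvg P f) := by
  intro g x
  unfold secAvg
  refine Finset.sum_congr rfl fun z _ => ?_
  have h1 : x * (z : G) = (z : G) * x := (Subgroup.mem_center_iff.mp (hP z.2)) x
  have h2 : x * g * x⁻¹ * (z : G) = x * (g * z) * x⁻¹ := by
    calc x * g * x⁻¹ * (z : G) = x * g * (x⁻¹ * (z : G)) := by group
      _ = x * g * ((z : G) * x⁻¹) := by
        congr 1
        have h3 : x⁻¹ * (z : G) = (z : G) * x⁻¹ := by
          rw [eq_mul_inv_iff_mul_eq, mul_assoc, h1.symm, inv_mul_cancel_left]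
        exact h3
      _ = _ := by group
  rw [h2, hf]

/-- The inner product with the translate average. -/
theorem classInner_secAvg (hP : P ≤ Subgroup.center G) (f : G → ℂ) (ξ : IrrCharacter G) :
    classInner (secAvg P f) (ξ : G → ℂ) =
      classInner f (ξ : G → ℂ) * ∑ z : P, (ξ : G → ℂ) z / (ξ : G → ℂ) 1 := by
  classical
  have hξ := IsIrrCharacter.isCharacter ξ.2
  have h1 : conj ((ξ : G → ℂ) 1) = (ξ : G → ℂ) 1 := by
    rw [map_one_eq_charDegree hξ]
    simp
  unfold classInner secAvg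
  rw [mul_assoc]
  congr 1
  have h2 : ∀ z : P, ∑ x : G, f (x * z) * conj ((ξ : G → ℂ) x) =
      (∑ y : G, f y * conj ((ξ : G → ℂ) y)) * ((ξ : G → ℂ) z / (ξ : G → ℂ) 1) := by
    intro z
    rw [Finset.sum_mul]
    refine Fintype.sum_equiv (Equiv.mulRight (z : G)) _ _ fun x => ?_
    simp only [Equiv.coe_mulRight]
    have hinv : ((z : G))⁻¹ ∈ Subgroup.center G := (Subgroup.center G).inv_mem (hP z.2)
    have h3 := irr_mul_central ξ hinv (x * (z : G))
    rw [mul_inv_cancel_right] at h3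
    rw [h3, map_div₀, map_mul, h1, IsCharacter.map_inv' hξ, Complex.conj_conj]
    ring
  simp only [Finset.sum_mul]
  rw [Finset.sum_comm]
  simp only [h2]
  rw [← Finset.mul_sum, Finset.sum_mul]

theorem ker_of_sum_ne_zero (hP : P ≤ Subgroup.center G) (ξ : IrrCharacter G)
    (h : ∑ z : P, (ξ : G → ℂ) z / (ξ : G → ℂ) 1 ≠ 0) (z₀ : G) (hz₀ : z₀ ∈ P) : (ξ : G → ℂ) z₀ = (ξ : G → ℂ) 1 := by
  classical
  obtain ⟨lam, hlam⟩ := exists_hom_of_central ξ P hP
  have h1 : (ξ : G → ℂ) 1 ≠ 0 := map_one_ne_zero_of_irr ξ.2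
  simp only [← hlam] at h
  have h2 : (lam ⟨z₀, hz₀⟩ : ℂ) = 1 := by
    by_contra hne
    apply h
    have h3 : (lam ⟨z₀, hz₀⟩ : ℂ) * ∑ z : P, (lam z : ℂ) = ∑ z : P, (lam z : ℂ) := by
      rw [Finset.mul_sum]
      refine Fintype.sum_equiv (Equiv.mulLeft (⟨z₀, hz₀⟩ : P)) _ _ fun z => ?_
      simp
    have h4 : ((lam ⟨z₀, hz₀⟩ : ℂ) - 1) * ∑ z : P, (lam z : ℂ) = 0 := by
      rw [sub_mul, h3, one_mul, sub_self]
    exact (mul_eq_zero.mp h4).resolve_left (sub_ne_zero.mpr hne)
  have h3 := hlam ⟨z₀, hz₀⟩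
  rw [h2] at h3
  simp only at h3
  field_simp at h3
  exact h3.symm

theorem sum_ker_eq (ξ : IrrCharacter G) (hker : ∀ z ∈ P, (ξ : G → ℂ) z = (ξ : G → ℂ) 1) :
    ∑ z : P, (ξ : G → ℂ) z / (ξ : G → ℂ) 1 = (Nat.card P : ℂ) := by
  have h1 : (ξ : G → ℂ) 1 ≠ 0 := map_one_ne_zero_of_irr ξ.2
  have h2 : ∀ z : P, (ξ : G → ℂ) z / (ξ : G → ℂ) 1 = 1 := fun z => by
    rw [hker z z.2, div_self h1]
  simp only [h2, Finset.sum_const, Finset.card_univ, nsmul_eq_mul, mul_one, Nat.card_eq_fintype_card]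

theorem singular_of_central_mul (hP : P ≤ Subgroup.center G) (hPp : IsPGroup p P) {x : G}
    (hx : ¬ p ∣ orderOf x) {z : P} (hz : z ≠ 1) : p ∣ orderOf (x * (z : G)) := by
  have hc : Commute x (z : G) := (Subgroup.mem_center_iff.mp (hP z.2) x)
  obtain ⟨k, hk⟩ := (IsPGroup.iff_orderOf.mp hPp) z
  refine dvd_orderOf_mul hc hx ⟨k, ?_⟩ ?_
  · rw [Subgroup.orderOf_coe]; exact hk
  · intro h
    exact hz (Subtype.ext h)

theorem secAvg_regular (hP : P ≤ Subgroup.center G) (hPp : IsPGroup p P) (χ : G → ℂ) {x : G}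
    (hx : ¬ p ∣ orderOf x) : secAvg P (pRegularPart p χ) x = χ x := by
  unfold secAvg
  rw [Finset.sum_eq_single 1]
  · simp only [Subgroup.coe_one, mul_one]
    exact pRegularPart_eq_of_regular _ hx
  · intro z _ hz
    exact pRegularPart_eq_zero_of_dvd _ (singular_of_central_mul P hP hPp hx hz)
  · simp

theorem secAvg_eq_of_ker (hP : P ≤ Subgroup.center G) (hPp : IsPGroup p P) (ξ : IrrCharacter G)
    (hker : ∀ z ∈ P, (ξ : G → ℂ) z = (ξ : G → ℂ) 1)
    (hvan : ∀ x : G, (∀ z : P, p ∣ orderOf (x * (z : G))) → (ξ : G → ℂ) x = 0) :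
    secAvg P (pRegularPart p (ξ : G → ℂ)) = (ξ : G → ℂ) := by
  funext x
  have h1 : (ξ : G → ℂ) 1 ≠ 0 := map_one_ne_zero_of_irr ξ.2
  unfold secAvg
  by_cases h : ∃ z₀ : P, ¬ p ∣ orderOf (x * (z₀ : G))
  · obtain ⟨z₀, hz₀⟩ := h
    rw [Finset.sum_eq_single z₀]
    · rw [pRegularPart_eq_of_regular _ hz₀, irr_mul_central ξ (hP z₀.2), hker z₀ z₀.2]
      field_simp
    · intro z _ hz
      have hne : z₀⁻¹ * z ≠ 1 := by
        intro h2
        apply hz
        have := mul_left_cancel (h2.trans (inv_mul_cancel z₀).symm)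
        exact this
      have h3 := singular_of_central_mul P hP hPp hz₀ hne
      have h4 : x * (z₀ : G) * ((z₀⁻¹ * z : P) : G) = x * z := by
        simp [mul_assoc]
      rw [h4] at h3
      exact pRegularPart_eq_zero_of_dvd _ h3
    · simp
  · push Not at h
    rw [hvan x h]
    exact Finset.sum_eq_zero fun z _ => pRegularPart_eq_zero_of_dvd _ (h z)

end Avg

section Main

variable {G : Type*} [Group G] [Fintype G] {p : ℕ} [hp : Fact p.Prime] {M : Ideal AlgInt}

/-- A member of a block with central defect group with `P` in its kernel vanishes on the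
elements outside `P·(regular elements)`. -/
theorem vanish_of_ker (P : Subgroup G) [P.Normal] (hPp : IsPGroup p P) {b₀ : ℕ}
    (hcard : Nat.card P = p ^ ((Nat.card G).factorization p - b₀)) (hb₀ : b₀ ≤ (Nat.card G).factorization p)
    (ξ : IrrCharacter G) (hξ : b₀ ≤ (charDegree (ξ : G → ℂ)).factorization p)
    (hker : ∀ z ∈ P, (ξ : G → ℂ) z = (ξ : G → ℂ) 1) (x : G)
    (h : ∀ z : P, p ∣ orderOf (x * (z : G))) : (ξ : G → ℂ) x = 0 := by
  obtain ⟨ξ', hξ'⟩ := exists_inflate P (χ := ξ) hker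
  rw [← hξ', inflate_apply]
  have hdeg : charDegree ((ξ' : G ⧸ P → ℂ)) = charDegree (ξ : G → ℂ) := by
    rw [← hξ']
    exact (charDegree_comp_monoidHom (QuotientGroup.mk' P) _).symm
  have hordq : (Nat.card (G ⧸ P)).factorization p = b₀ := by
    have h1 : Nat.card (G ⧸ P) * Nat.card P = Nat.card G := by
      rw [← Subgroup.card_eq_card_quotient_mul_card_subgroup]
    have h2 : (Nat.card G).factorization p = (Nat.card (G ⧸ P)).factorization p +
        (Nat.card P).factorization p := by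
      rw [← h1, Nat.factorization_mul Nat.card_pos.ne' Nat.card_pos.ne']
      rfl
    rw [hcard, Nat.factorization_pow, hp.out.factorization] at h2
    simp only [Finsupp.coe_smul, Pi.smul_apply, smul_eq_mul, Finsupp.single_eq_same, mul_one] at h2
    omega
  have hdvd : p ^ (Nat.card (G ⧸ P)).factorization p ∣ charDegree ((ξ' : G ⧸ P → ℂ)) := by
    rw [hordq, hdeg]
    have hpos := charDegree_pos_of_irr ξ.2
    exact (hp.out.pow_dvd_iff_le_factorization hpos.ne').mpr hξ
  refine irr_eq_zero_of_full_ppart ξ' p hp.out hdvd ?_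
  -- the image of `x` is singular
  by_contra hreg
  obtain ⟨u, v, huv, hc, ⟨k, hk⟩, hv, hu', _⟩ := exists_jordan (p := p) x
  have huP : u ∈ P := by
    obtain ⟨n, hn⟩ := Subgroup.mem_zpowers_iff.mp hu'
    have h3 : ((u : G) : G ⧸ P) ∈ Subgroup.zpowers ((x : G) : G ⧸ P) :=
      Subgroup.mem_zpowers_iff.mpr ⟨n, by rw [← hn]; rfl⟩
    have h4 : orderOf ((u : G) : G ⧸ P) ∣ orderOf ((x : G) : G ⧸ P) := orderOf_dvd_of_mem_zpowers h3
    have h5 : orderOf ((u : G) : G ⧸ P) ∣ orderOf u := orderOf_map_dvd (QuotientGroup.mk' P) u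
    rw [hk] at h5
    obtain ⟨j, -, hj⟩ := (Nat.dvd_prime_pow hp.out).mp h5
    rcases j with _ | j
    · rw [pow_zero, orderOf_eq_one_iff] at hj
      exact (QuotientGroup.eq_one_iff u).mp hj
    · rw [hj] at h4
      exact absurd (dvd_trans (dvd_pow_self p (Nat.succ_ne_zero j)) h4) hreg
  have h6 := h ⟨u⁻¹, P.inv_mem huP⟩
  have h7 : x * (u⁻¹) = v := by
    rw [← huv, hc.eq]
    group
  simp only at h6
  rw [h7] at h6
  exact hv h6

/-- **A block with central defect group has a single Brauer character.** -/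
theorem blockRank_eq_one_of_central (hM : IsPModular p M) {B : Set (IrrCharacter G)} (hB : IsPBlock M B)
    {P : Subgroup G} (hD : IsDefectGroup p M B P) (hPZ : P ≤ Subgroup.center G) : blockRank p B = 1 := by
  classical
  have := isPModular_isPrime hM
  haveI : Fintype P := Fintype.ofFinite _
  haveI hPn : P.Normal := by
    refine ⟨fun c hc g => ?_⟩
    have h1 := (Subgroup.mem_center_iff.mp (hPZ hc)) g
    rw [h1]
    simpa using hc
  have hcard := card_defect_group hM hB hD
  have hPp : IsPGroup p P := IsPGroup.of_card hcard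
  obtain ⟨χ₁, h₁, h₁', hmin⟩ := exists_min_height hB hM
  obtain ⟨b₀, hb₀⟩ : ∃ b₀, b₀ = (charDegree (χ₁ : G → ℂ)).factorization p := ⟨_, rfl⟩
  rw [← hb₀] at h₁' hmin
  have hab : b₀ ≤ (Nat.card G).factorization p := hb₀ ▸ factorization_le_card χ₁
  have hdef : blockDefect p B = (Nat.card G).factorization p - b₀ := by
    unfold blockDefect; rw [← h₁']
  rw [hdef] at hcard
  -- the members of the block with `P` in the kernel
  have hSec : ∀ ξ ∈ B, (∀ z ∈ P, (ξ : G → ℂ) z = (ξ : G → ℂ) 1) →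
      secAvg P (pRegularPart p (ξ : G → ℂ)) = (ξ : G → ℂ) := fun ξ hξ hker =>
    secAvg_eq_of_ker P hPZ hPp ξ hker (vanish_of_ker P hPp hcard hab ξ (hmin ξ hξ) hker)
  have hne : ((p ^ (Nat.card G).factorization p : ℕ) : ℂ) ≠ 0 := by
    exact_mod_cast (pow_ne_zero _ hp.out.ne_zero)
  -- expansion of the average
  have hcoef : ∀ χ ∈ B, ∀ ξ : IrrCharacter G, classInner (secAvg P (pRegularPart p (χ : G → ℂ))) (ξ : G → ℂ) ≠ 0 →
      ξ ∈ B ∧ ∀ z ∈ P, (ξ : G → ℂ) z = (ξ : G → ℂ) 1 := by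
    intro χ hχ ξ h
    rw [classInner_secAvg P hPZ] at h
    have h1 := left_ne_zero_of_mul h
    have h2 := right_ne_zero_of_mul h
    refine ⟨?_, ker_of_sum_ne_zero P hPZ ξ h2⟩
    by_contra hξ
    rw [classInner_pRegularPart_irr, regCoeff_eq_zero_of_notMem hM hB hχ hξ] at h1
    simp at h1
  -- uniqueness
  have huniq : ∀ ξ ∈ B, ∀ ψ ∈ B, (∀ z ∈ P, (ξ : G → ℂ) z = (ξ : G → ℂ) 1) →
      (∀ z ∈ P, (ψ : G → ℂ) z = (ψ : G → ℂ) 1) → ξ = ψ := by
    intro ξ hξ ψ hψ hkξ hkψ
    by_contra hne'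
    have h0 : classInner (ξ : G → ℂ) (ψ : G → ℂ) = 0 :=
      classInner_irr_of_ne ξ.2 ψ.2 (fun h => hne' (Subtype.ext h))
    rw [← hSec ξ hξ hkξ, classInner_secAvg P hPZ, sum_ker_eq P ψ hkψ, classInner_pRegularPart_irr] at h0
    have hcardP : (Nat.card P : ℂ) ≠ 0 := by exact_mod_cast Nat.card_pos.ne'
    have h1 := (mul_eq_zero.mp h0).resolve_right hcardP
    have h2 : (regCoeff p ξ ψ : ℂ) = 0 := by
      rcases (div_eq_zero_iff.mp h1) with h3 | h3
      · exact h3
      · exact absurd h3 hne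
    have hvξ : (charDegree (ξ : G → ℂ)).factorization p = b₀ ∨ b₀ < (charDegree (ξ : G → ℂ)).factorization p := by
      have := hmin ξ hξ
      omega
    -- the degrees have the exact `p`-part `p^b₀`
    have hexact : ∀ θ ∈ B, (∀ z ∈ P, (θ : G → ℂ) z = (θ : G → ℂ) 1) →
        (charDegree (θ : G → ℂ)).factorization p = b₀ := by
      intro θ hθ hkθ
      obtain ⟨θ', hθ'⟩ := exists_inflate P (χ := θ) hkθ
      have hdeg : charDegree ((θ' : G ⧸ P → ℂ)) = charDegree (θ : G → ℂ) := by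
        rw [← hθ']
        exact (charDegree_comp_monoidHom (QuotientGroup.mk' P) _).symm
      have h1 := charDegree_dvd_card θ'.2
      have h2 : Nat.card (G ⧸ P) * Nat.card P = Nat.card G := by
        rw [← Subgroup.card_eq_card_quotient_mul_card_subgroup]
      have h3 : (Nat.card G).factorization p = (Nat.card (G ⧸ P)).factorization p +
          (Nat.card P).factorization p := by
        rw [← h2, Nat.factorization_mul Nat.card_pos.ne' Nat.card_pos.ne']
        rfl
      rw [hcard, Nat.factorization_pow, hp.out.factorization] at h3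
      simp only [Finsupp.coe_smul, Pi.smul_apply, smul_eq_mul, Finsupp.single_eq_same, mul_one] at h3
      have h4 := (Nat.factorization_le_iff_dvd (charDegree_pos_of_irr θ'.2).ne' Nat.card_pos.ne').mpr h1 p
      rw [hdeg] at h4
      have h5 := hmin θ hθ
      omega
    have hmin' : ∀ θ ∈ B, (charDegree (ξ : G → ℂ)).factorization p ≤ (charDegree (θ : G → ℂ)).factorization p := by
      intro θ hθ
      rw [hexact ξ hξ hkξ]
      exact hmin θ hθ
    have h3 := (memLocalIdeal_regCoeff_div_iff hM hB hξ hmin' hψ).mp (by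
      rw [h2, zero_div]
      exact memLocalIdeal_zero)
    rw [hexact ξ hξ hkξ, hexact ψ hψ hkψ] at h3
    exact lt_irrefl _ h3
  -- existence
  have hone : ¬ p ∣ orderOf (1 : G) := by simpa using hp.out.one_lt.ne'
  have hcf : ∀ χ : IrrCharacter G, IsClassFunction G (secAvg P (pRegularPart p (χ : G → ℂ))) := by
    intro χ
    refine secAvg_isClassFunction P hPZ ?_
    intro g x
    have h1 : orderOf (x * g * x⁻¹) = orderOf g := by
      simpa using orderOf_eq_of_isConj (isConj_iff.mpr ⟨x, rfl⟩ : IsConj g (x * g * x⁻¹)).symm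
    rw [pRegularPart_eq_ite, pRegularPart_eq_ite, h1, IsCharacter.isClassFunction (IsIrrCharacter.isCharacter χ.2) g x]
  obtain ⟨ψ, hψ, hkψ⟩ : ∃ ψ ∈ B, ∀ z ∈ P, (ψ : G → ℂ) z = (ψ : G → ℂ) 1 := by
    by_contra hcon
    push Not at hcon
    have h1 := congrFun (classFunction_eq_sum _ (hcf χ₁)) 1
    rw [secAvg_regular P hPZ hPp _ hone, Finset.sum_apply] at h1
    apply map_one_ne_zero_of_irr χ₁.2
    rw [h1]
    refine Finset.sum_eq_zero fun ξ _ => ?_
    have h2 : classInner (secAvg P (pRegularPart p (χ₁ : G → ℂ))) (ξ : G → ℂ) = 0 := by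
      by_contra h3
      obtain ⟨h4, h5⟩ := hcoef χ₁ h₁ ξ h3
      obtain ⟨z, hz, hz'⟩ := hcon ξ h4
      exact hz' (h5 z hz)
    rw [Pi.smul_apply, h2, zero_smul]
  -- proportionality
  have hprop : ∀ χ ∈ B, ∃ c : ℂ, pRegularPart p (χ : G → ℂ) = c • pRegularPart p (ψ : G → ℂ) := by
    intro χ hχ
    refine ⟨classInner (secAvg P (pRegularPart p (χ : G → ℂ))) (ψ : G → ℂ), ?_⟩
    funext x
    by_cases hx : p ∣ orderOf x
    · simp [pRegularPart_eq_zero_of_dvd _ hx]
    · simp only [Pi.smul_apply, smul_eq_mul]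
      rw [pRegularPart_eq_of_regular _ hx, pRegularPart_eq_of_regular _ hx]
      have h1 := congrFun (classFunction_eq_sum _ (hcf χ)) x
      rw [secAvg_regular P hPZ hPp _ hx, Finset.sum_apply] at h1
      rw [h1, Finset.sum_eq_single ψ]
      · rfl
      · intro ξ _ hξ
        have h2 : classInner (secAvg P (pRegularPart p (χ : G → ℂ))) (ξ : G → ℂ) = 0 := by
          by_contra h3
          obtain ⟨h4, h5⟩ := hcoef χ hχ ξ h3
          exact hξ (huniq ξ h4 ψ hψ h5 hkψ)
        rw [Pi.smul_apply, h2, zero_smul]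
      · simp
  -- the rank
  have hspan : Submodule.span ℂ ((fun χ : IrrCharacter G => pRegularPart p (χ : G → ℂ)) '' B) =
      Submodule.span ℂ {pRegularPart p (ψ : G → ℂ)} := by
    apply le_antisymm
    · rw [Submodule.span_le]
      rintro _ ⟨χ, hχ, rfl⟩
      obtain ⟨c, hc⟩ := hprop χ hχ
      simp only
      rw [hc]
      exact Submodule.smul_mem _ _ (Submodule.mem_span_singleton_self _)
    · rw [Submodule.span_le]
      rintro _ rfl
      exact Submodule.subset_span ⟨ψ, hψ, rfl⟩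
  have hne0 : pRegularPart p (ψ : G → ℂ) ≠ 0 := by
    intro h
    have h1 := congrFun h 1
    rw [pRegularPart_eq_of_regular _ hone] at h1
    exact map_one_ne_zero_of_irr ψ.2 h1
  unfold blockRank
  rw [hspan]
  exact finrank_span_singleton hne0

end Main

end Cfsg.Agent.Lib.CharExtra
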