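import Cfsg.Agent.Lib.CharExtra.BlockCent
import Cfsg.Agent.Lib.Block.Defect

/-!
# Coprime automorphisms of `p`-groups trivial on a normalizer; block idempotents along chains.
-/

set_option autoImplicit false
set_option linter.unusedSectionVars false
set_option linter.style.haveILetI false
set_option linter.unusedSimpArgs false
set_option linter.unnecessarySimpa false

open scoped ComplexConjugate

namespace Cfsg.Agent.Lib.CharExtra

open Cfsg Cfsg.Agent.Lib.Char Cfsg.Agent.Lib.Block

section Coprime

variable {Q : Type*} [Group Q] {p : ℕ} [hp : Fact p.Prime]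

/-- If `f y = y c` with `f c = c`, and `f^n = 1` with `n` prime to `p`, `c` a `p`-element, then `c = 1`. -/
theorem eq_one_of_fix_mul (hQ : IsPGroup p Q) (f : Q →* Q) {n : ℕ} (hn : ∀ u : Q, f^[n] u = u)
    (hcop : ¬ p ∣ n) {y c : Q} (h1 : f y = y * c) (h2 : f c = c) : c = 1 := by
  have h3 : ∀ k : ℕ, f^[k] y = y * c ^ k := by
    intro k
    induction k with
    | zero => simp
    | succ k ih =>
      rw [Function.iterate_succ_apply', ih, map_mul, h1, map_pow, h2, pow_succ, mul_assoc]
      rw [← pow_succ', pow_succ]
  have h4 : c ^ n = 1 := by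
    have := h3 n
    rw [hn] at this
    exact (mul_eq_left.mp this.symm)
  obtain ⟨k, hk⟩ := (IsPGroup.iff_orderOf.mp hQ) c
  have h5 : orderOf c ∣ n := orderOf_dvd_of_pow_eq_one h4
  rw [hk] at h5
  rcases k with _ | k
  · simpa using orderOf_eq_one_iff.mp hk
  · exact absurd (dvd_trans (dvd_pow_self p (Nat.succ_ne_zero k)) h5) hcop

/-- The fixed points of an endomorphism. -/
def fixSub (f : Q →* Q) : Subgroup Q := f.eqLocus (MonoidHom.id Q)

theorem mem_fixSub {f : Q →* Q} {u : Q} : u ∈ fixSub f ↔ f u = u := Iff.rfl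

/-- **A coprime automorphism of a `p`-group that is trivial on `N_Q(Y)` is trivial.** -/
theorem fix_of_fix_normalizer [Finite Q] (hQ : IsPGroup p Q) (f : Q →* Q) {n : ℕ} (hn : ∀ u : Q, f^[n] u = u)
    (hcop : ¬ p ∣ n) (Y : Subgroup Q) (h : ∀ u ∈ Subgroup.normalizer (Y : Set Q), f u = u) (u : Q) : f u = u := by
  have hnil : Group.IsNilpotent Q := hQ.isNilpotent
  obtain ⟨c, hc⟩ := Group.IsNilpotent.nilpotent' (G := Q)
  have key : ∀ k : ℕ, ∀ u ∈ Subgroup.normalizer ((Y ⊔ Subgroup.upperCentralSeries Q k : Subgroup Q) : Set Q), f u = u := by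
    intro k
    induction k with
    | zero =>
      simpa using h
    | succ k ih =>
      -- the term of the series lies in the normalizer of the previous term
      have hZ : ∀ z ∈ Subgroup.upperCentralSeries Q (k + 1),
          z ∈ Subgroup.normalizer ((Y ⊔ Subgroup.upperCentralSeries Q k : Subgroup Q) : Set Q) := by
        intro z hz
        have hconj : ∀ z ∈ Subgroup.upperCentralSeries Q (k + 1), ∀ y ∈ (Y ⊔ Subgroup.upperCentralSeries Q k : Subgroup Q),
            z * y * z⁻¹ ∈ (Y ⊔ Subgroup.upperCentralSeries Q k : Subgroup Q) := by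
          intro z hz y hy
          have h1 := (Subgroup.mem_upperCentralSeries_succ_iff (n := k)).mp hz y
          have h2 : z * y * z⁻¹ = (z * y * z⁻¹ * y⁻¹) * y := by group
          rw [h2]
          refine Subgroup.mul_mem _ ?_ hy
          exact (le_sup_right : Subgroup.upperCentralSeries Q k ≤ _) h1
        rw [Subgroup.mem_normalizer_iff]
        intro y
        constructor
        · exact hconj z hz y
        · intro hy
          have := hconj z⁻¹ (Subgroup.inv_mem _ hz) _ hy
          simpa [mul_assoc] using this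
      have hY : ∀ y ∈ Y, y ∈ Subgroup.normalizer ((Y ⊔ Subgroup.upperCentralSeries Q k : Subgroup Q) : Set Q) := by
        intro y hy
        exact Subgroup.le_normalizer ((le_sup_left : Y ≤ Y ⊔ Subgroup.upperCentralSeries Q k) hy)
      have hfix : (Y ⊔ Subgroup.upperCentralSeries Q (k + 1) : Subgroup Q) ≤ fixSub f := by
        refine sup_le (fun y hy => ih y (hY y hy)) (fun z hz => ih z (hZ z hz))
      intro u hu
      -- the commutator-like element centralizes
      obtain ⟨c', hc'⟩ : ∃ c', f u = u * c' := ⟨u⁻¹ * f u, by group⟩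
      have hcent : ∀ w ∈ (Y ⊔ Subgroup.upperCentralSeries Q (k + 1) : Subgroup Q), c' * w * c'⁻¹ = w := by
        intro w hw
        have h1 := (Subgroup.mem_normalizer_iff.mp hu w).mp hw
        have h2 : f (u * w * u⁻¹) = u * w * u⁻¹ := hfix h1
        have h3 : f w = w := hfix hw
        rw [map_mul, map_mul, map_inv, hc', h3] at h2
        have h4 : u * (c' * w * c'⁻¹) * u⁻¹ = u * w * u⁻¹ := by
          rw [← h2]
          group
        exact mul_left_cancel (mul_right_cancel h4)
      have hcN : c' ∈ Subgroup.normalizer ((Y ⊔ Subgroup.upperCentralSeries Q k : Subgroup Q) : Set Q) := by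
        rw [Subgroup.mem_normalizer_iff]
        have hmono : (Y ⊔ Subgroup.upperCentralSeries Q k : Subgroup Q) ≤ (Y ⊔ Subgroup.upperCentralSeries Q (k + 1) : Subgroup Q) :=
          sup_le_sup_left (Subgroup.upperCentralSeries_mono Q (Nat.le_succ k)) _
        intro w
        constructor
        · intro hw
          rw [hcent w (hmono hw)]
          exact hw
        · intro hw
          have h1 := hcent _ (hmono hw)
          have h2 : c' * w * c'⁻¹ = w := by
            have h3 : c' * (c' * w * c'⁻¹) * c'⁻¹ = c' * w * c'⁻¹ := h1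
            have h4 : c' * w * c'⁻¹ = w := by
              have h5 : c' * (c' * w * c'⁻¹) * c'⁻¹ = c' * w * c'⁻¹ := h3
              have h6 : c' * (c' * w * c'⁻¹) = c' * w := mul_right_cancel h5
              exact mul_left_cancel h6
            exact h4
          rwa [h2] at hw
      have h1 := eq_one_of_fix_mul hQ f hn hcop hc' (ih c' hcN)
      rw [hc', h1, mul_one]
  have h1 := key c u
  apply h1
  have h2 : Y ⊔ Subgroup.upperCentralSeries Q c = ⊤ := by rw [hc, sup_top_eq]
  rw [h2, Subgroup.normalizer_eq_top]
  trivial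

end Coprime

section Chain

variable {G : Type*} [Group G] {p : ℕ} [hp : Fact p.Prime]

theorem centralizes_of_centralizes_normalizer [Finite G] {x : G} (hx : ¬ p ∣ orderOf x) (V : Subgroup G)
    (hV : IsPGroup p V) (hxV : ∀ v ∈ V, x * v * x⁻¹ ∈ V) (Y : Subgroup G) (hY : Y ≤ V)
    (h : ∀ v ∈ V, v ∈ Subgroup.normalizer (Y : Set G) → x * v * x⁻¹ = v) :
    ∀ v ∈ V, x * v * x⁻¹ = v := by
  intro v hv
  let f : V →* V :=
    { toFun := fun u => ⟨x * u * x⁻¹, hxV u u.2⟩
      map_one' := by
        apply Subtype.ext
        simp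
      map_mul' := fun a b => by
        apply Subtype.ext
        simp [mul_assoc] }
  have hf : ∀ u : V, ((f u : V) : G) = x * u * x⁻¹ := fun u => rfl
  have hiter : ∀ (k : ℕ) (u : V), ((f^[k] u : V) : G) = x ^ k * u * (x ^ k)⁻¹ := by
    intro k u
    induction k with
    | zero => simp
    | succ k ih =>
      rw [Function.iterate_succ_apply', hf, ih, pow_succ']
      simp [mul_assoc]
  have hn : ∀ u : V, f^[orderOf x] u = u := by
    intro u
    apply Subtype.ext
    rw [hiter, pow_orderOf_eq_one]
    simp
  have hfix := fix_of_fix_normalizer hV f hn hx (Y.subgroupOf V) (by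
    intro u hu
    apply Subtype.ext
    rw [hf]
    apply h u u.2
    rw [Subgroup.mem_normalizer_iff] at hu ⊢
    intro y
    constructor
    · intro hy
      have h1 := (hu ⟨y, hY hy⟩).mp (by simpa [Subgroup.mem_subgroupOf] using hy)
      simpa [Subgroup.mem_subgroupOf] using h1
    · intro hy
      have hyV : y ∈ V := by
        have h2 := V.mul_mem (V.mul_mem (V.inv_mem u.2) (hY hy)) u.2
        simpa [mul_assoc] using h2
      have h1 := (hu ⟨y, hyV⟩).mpr (by simpa [Subgroup.mem_subgroupOf] using hy)
      simpa [Subgroup.mem_subgroupOf] using h1) ⟨v, hv⟩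
  exact congrArg Subtype.val hfix

/-- **Chains.** A `p`-regular element normalizing a chain of `p`-subgroups and centralizing the
stabilizer of the chain in the top term centralizes the top term. -/
theorem centralizes_chain [Finite G] {m : ℕ} (Q : Fin (m + 1) → Subgroup G) (hQ : StrictMono Q)
    (hQp : ∀ i, IsPGroup p (Q i)) {x : G} (hx : ¬ p ∣ orderOf x)
    (hxN : ∀ i, x ∈ Subgroup.normalizer (Q i : Set G))
    (hR : ∀ v ∈ Q (Fin.last m), (∀ i, v ∈ Subgroup.normalizer (Q i : Set G)) → x * v * x⁻¹ = v) :
    ∀ v ∈ Q (Fin.last m), x * v * x⁻¹ = v := by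
  have key : ∀ j : ℕ, ∀ v ∈ Q (Fin.last m), (∀ i : Fin (m + 1), j ≤ i.val → v ∈ Subgroup.normalizer (Q i : Set G)) →
      x * v * x⁻¹ = v := by
    intro j
    induction j with
    | zero =>
      intro v hv h
      exact hR v hv fun i => h i (Nat.zero_le _)
    | succ j ih =>
      by_cases hj : j < m + 1
      · intro v hv h
        let V : Subgroup G := Q (Fin.last m) ⊓ ⨅ (i : Fin (m + 1)) (_ : j + 1 ≤ i.val), Subgroup.normalizer (Q i : Set G)
        have hmemV : ∀ w, w ∈ V ↔ w ∈ Q (Fin.last m) ∧ ∀ i : Fin (m + 1), j + 1 ≤ i.val → w ∈ Subgroup.normalizer (Q i : Set G) := by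
          intro w
          simp [V, Subgroup.mem_inf, Subgroup.mem_iInf]
        have hxV : ∀ w ∈ V, x * w * x⁻¹ ∈ V := by
          intro w hw
          rw [hmemV] at hw ⊢
          constructor
          · exact (Subgroup.mem_normalizer_iff.mp (hxN _) w).mp hw.1
          · intro i hi
            exact Subgroup.mul_mem _ (Subgroup.mul_mem _ (hxN i) (hw.2 i hi)) (Subgroup.inv_mem _ (hxN i))
        have hVp : IsPGroup p V := (hQp (Fin.last m)).to_le inf_le_left
        have hY : Q ⟨j, hj⟩ ≤ V := by
          intro w hw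
          rw [hmemV]
          constructor
          · exact hQ.monotone (Fin.le_last _) hw
          · intro i hi
            have hlt : (⟨j, hj⟩ : Fin (m + 1)) ≤ i := by
              show j ≤ i.val
              omega
            exact Subgroup.le_normalizer (hQ.monotone hlt hw)
        refine centralizes_of_centralizes_normalizer hx V hVp hxV (Q ⟨j, hj⟩) hY ?_ v ((hmemV v).mpr ⟨hv, h⟩)
        intro w hw hwn
        have hw' := (hmemV w).mp hw
        refine ih w hw'.1 fun i hi => ?_
        by_cases hij : j + 1 ≤ i.val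
        · exact hw'.2 i hij
        · have : i = ⟨j, hj⟩ := Fin.ext (by simp; omega)
          rw [this]
          exact hwn
      · intro v hv _
        refine ih v hv fun i hi => ?_
        omega
  intro v hv
  exact key (m + 1) v hv fun i hi => by omega

end Chain

end Cfsg.Agent.Lib.CharExtra
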