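import Cfsg.Agent.Lib.CharExtra.DefectClass
import Cfsg.Agent.Lib.Block.Osima

/-!
# Counting blocks of given defect by the `p`-regular classes of that defect
-/

set_option autoImplicit false
set_option linter.unusedSectionVars false
set_option linter.style.haveILetI false
set_option linter.unusedSimpArgs false
set_option linter.unnecessarySimpa false

open scoped ComplexConjugate

namespace Cfsg.Agent.Lib.CharExtra

open Cfsg Cfsg.Agent.Lib.Char Cfsg.Agent.Lib.Block

section Count

variable {G : Type*} [Group G] [Fintype G] {p : ℕ} [hp : Fact p.Prime] {M : Ideal AlgInt}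

/-- A coefficient of a block idempotent outside the local ideal lives on a class of defect at most the
defect of the block. -/
theorem factorization_centralizer_le_of_blockCoeff (hM : IsPModular p M) {B : Set (IrrCharacter G)}
    (hB : IsPBlock M B) {g : G} (hg : ¬ MemLocalIdeal M (blockCoeff B g)) :
    (Nat.card (Subgroup.centralizer ({g} : Set G))).factorization p ≤ blockDefect p B := by
  classical
  have := isPModular_isPrime hM
  obtain ⟨χ₁, h₁, h₁', hmin⟩ := exists_min_height hB hM
  obtain ⟨b₀, hb₀⟩ : ∃ b₀, b₀ = (charDegree (χ₁ : G → ℂ)).factorization p := ⟨_, rfl⟩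
  rw [← hb₀] at h₁' hmin
  have hab : b₀ ≤ (Nat.card G).factorization p := hb₀ ▸ factorization_le_card χ₁
  have hdef : blockDefect p B = (Nat.card G).factorization p - b₀ := by
    unfold blockDefect; rw [← h₁']
  have hU := isBlockUnion_of_isPBlock hB
  have hl : MemLocalRing M (blockCoeff B g) := by
    have := localCoeff_blockElt hU g
    rwa [coeff_blockElt] at this
  obtain ⟨P⟩ : Nonempty (Sylow p (Subgroup.centralizer ({g} : Set G))) := inferInstance
  obtain ⟨D, hD⟩ : ∃ D : Subgroup G, D = (P : Subgroup (Subgroup.centralizer ({g} : Set G))).map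
      (Subgroup.centralizer ({g} : Set G)).subtype := ⟨_, rfl⟩
  have hDc : Nat.card D = p ^ (Nat.card (Subgroup.centralizer ({g} : Set G))).factorization p := by
    rw [hD, ← P.card_eq_multiplicity]
    exact Nat.card_congr (Subgroup.equivMapOfInjective _ _ (Subgroup.subtype_injective _)).symm.toEquiv
  have hle : D ≤ Subgroup.centralizer ({g} : Set G) := by
    rw [hD]
    rintro _ ⟨u, _, rfl⟩
    exact u.2
  haveI : Fintype D := Fintype.ofFinite _
  have he : ∀ χ ∈ B, p ^ b₀ ∣ charDegree (χ : G → ℂ) := fun χ hχ =>
    dvd_trans (pow_dvd_pow _ (hmin χ hχ)) (Nat.ordProj_dvd _ _)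
  have h := add_le_factorization_of_unit hM hU he hg hl hDc hle
  rw [hdef]
  omega

/-- A central character outside the local ideal lives on a class of defect at least the defect of the block. -/
theorem blockDefect_le_of_centralChar (hM : IsPModular p M) {χ : IrrCharacter G} {g : G}
    (hg : ¬ MemLocalIdeal M (centralChar (χ : G → ℂ) g)) :
    blockDefect p (blockOf M (χ : G → ℂ)) ≤ (Nat.card (Subgroup.centralizer ({g} : Set G))).factorization p := by
  classical
  have := isPModular_isPrime hM
  have hB : IsPBlock M (blockOf M (χ : G → ℂ)) := isPBlock_blockOf χ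
  obtain ⟨χ₁, h₁, h₁', hmin⟩ := exists_min_height hB hM
  unfold blockDefect
  rw [← h₁']
  have hs : MemLocalIdeal M (centralChar (χ : G → ℂ) g - centralChar (χ₁ : G → ℂ) g) := h₁ g
  have hg' : ¬ MemLocalIdeal M (centralChar (χ₁ : G → ℂ) g) := by
    intro h
    apply hg
    have := memLocalIdeal_add hs h
    simpa using this
  have h2 := factorization_le_of_unit hM χ₁.2 hg'
  omega

/-- Congruence for the central characters on the block idempotents, only `p`-regular classes of
the right defect matter. -/
theorem memLocalIdeal_term_of_not_reg_defect (hM : IsPModular p M) {B : Set (IrrCharacter G)} (hB : IsPBlock M B)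
    {χ : IrrCharacter G} (hχ : blockDefect p (blockOf M (χ : G → ℂ)) = blockDefect p B) {g : G}
    (hreg : ¬ (¬ p ∣ orderOf g ∧
      (Nat.card (Subgroup.centralizer ({g} : Set G))).factorization p = blockDefect p B)) :
    MemLocalIdeal M (blockCoeff B g * centralChar (χ : G → ℂ) g) := by
  have := isPModular_isPrime hM
  have hU := isBlockUnion_of_isPBlock hB
  have hl : MemLocalRing M (blockCoeff B g) := by
    have := localCoeff_blockElt hU g
    rwa [coeff_blockElt] at this
  by_cases h1 : MemLocalIdeal M (blockCoeff B g)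
  · exact memLocalIdeal_mul_right h1 (memLocalRing_centralChar χ.2 g)
  · have h2 : ¬ p ∣ orderOf g := regular_of_blockCoeff_ne_zero hM hU (ne_zero_of_not_memLocalIdeal h1)
    have h3 := factorization_centralizer_le_of_blockCoeff hM hB h1
    by_cases h4 : MemLocalIdeal M (centralChar (χ : G → ℂ) g)
    · exact memLocalIdeal_mul_left hl h4
    · have h5 := blockDefect_le_of_centralChar hM h4
      rw [hχ] at h5
      exact absurd ⟨h2, le_antisymm h3 h5⟩ hreg

/-- **S4510 core**: characters in blocks of the same defect are in the same block as soon as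
their central characters agree on the regular classes of that defect. -/
theorem sameBlock_iff_of_defect (hM : IsPModular p M) (d : ℕ) (χ ψ : IrrCharacter G)
    (hχ : blockDefect p (blockOf M (χ : G → ℂ)) = d) (hψ : blockDefect p (blockOf M (ψ : G → ℂ)) = d) :
    SameBlock M (χ : G → ℂ) (ψ : G → ℂ) ↔ ∀ x : G, ¬ p ∣ orderOf x →
      (Nat.card (Subgroup.centralizer ({x} : Set G))).factorization p = d →
        MemLocalIdeal M (centralChar (χ : G → ℂ) x - centralChar (ψ : G → ℂ) x) := by
  classical
  have := isPModular_isPrime hM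
  have : Fintype (ConjClasses G) := Fintype.ofFinite _
  constructor
  · intro h x _ _
    exact h x
  · intro h
    obtain ⟨B, hBdef⟩ : ∃ B, B = blockOf M (χ : G → ℂ) := ⟨_, rfl⟩
    have hB : IsPBlock M B := hBdef ▸ isPBlock_blockOf χ
    have hχB : χ ∈ B := hBdef ▸ mem_blockOf_self χ
    have hBd : blockDefect p B = d := hBdef ▸ hχ
    have hz := isCentralElt_blockElt B
    have h1 : MemLocalIdeal M (om (χ : G → ℂ) (blockElt B) - om (ψ : G → ℂ) (blockElt B)) := by
      rw [om_eq_sum_conjClasses hz (IsCharacter.isClassFunction (IsIrrCharacter.isCharacter χ.2)),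
        om_eq_sum_conjClasses hz (IsCharacter.isClassFunction (IsIrrCharacter.isCharacter ψ.2)),
        ← Finset.sum_sub_distrib]
      refine memLocalIdeal_sum _ _ fun c _ => ?_
      rw [coeff_blockElt, ← mul_sub]
      by_cases hc : ¬ p ∣ orderOf c.out ∧
          (Nat.card (Subgroup.centralizer ({c.out} : Set G))).factorization p = d
      · refine memLocalIdeal_mul_left ?_ (h _ hc.1 hc.2)
        have := localCoeff_blockElt (isBlockUnion_of_isPBlock hB) c.out
        rwa [coeff_blockElt] at this
      · rw [← hBd] at hc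
        rw [mul_sub]
        exact memLocalIdeal_sub
          (memLocalIdeal_term_of_not_reg_defect hM hB (by rw [hχ, hBd]) hc)
          (memLocalIdeal_term_of_not_reg_defect hM hB (by rw [hψ, hBd]) hc)
    rw [om_blockElt_of_mem hχB] at h1
    by_contra hne
    have hψB : ψ ∉ B := by
      rw [hBdef]
      exact hne
    rw [om_blockElt_of_notMem hψB, sub_zero] at h1
    exact not_memLocalIdeal_one h1

/-- The local ideal as an ideal of the local ring. -/
def localIdealSub (M : Ideal AlgInt) [M.IsPrime] : Ideal (localRing M) where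
  carrier := {x | MemLocalIdeal M (x : ℂ)}
  add_mem' := fun {a b} ha hb => memLocalIdeal_add ha hb
  zero_mem' := memLocalIdeal_zero
  smul_mem' := fun c {x} hx => memLocalIdeal_mul_left c.2 hx

theorem mem_localIdealSub [M.IsPrime] {x : localRing M} : x ∈ localIdealSub M ↔ MemLocalIdeal M (x : ℂ) := Iff.rfl

theorem localIdealSub_ne_top [M.IsPrime] : localIdealSub M ≠ ⊤ := by
  intro h
  have h1 : (1 : localRing M) ∈ localIdealSub M := by rw [h]; trivial
  exact not_memLocalIdeal_one h1

theorem card_le_of_mul_eq_one {S m n : Type*} [CommRing S] [Nontrivial S] [Fintype m] [Fintype n] [DecidableEq m]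
    (A : Matrix m n S) (B : Matrix n m S) (h : A * B = 1) : Fintype.card m ≤ Fintype.card n := by
  have h1 := Matrix.rank_mul_le_left A B
  rw [h, Matrix.rank_one] at h1
  exact h1.trans (Matrix.rank_le_card_width A)

theorem sum_subtype_ite {α : Type*} [Fintype α] (pred : α → Prop) [DecidablePred pred] [Fintype {a // pred a}] (f : α → ℂ) :
    ∑ K : {a // pred a}, f K.1 = ∑ a, if pred a then f a else 0 := by
  rw [← Finset.sum_filter]
  exact (Finset.sum_subtype _ (by simp) f).symm

/-- **The number of blocks of defect `σ` is at most the number of `p`-regular classes of defect `σ`.** -/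
theorem card_blocks_le (hM : IsPModular p M) (σ : ℕ) :
    Nat.card {B : Set (IrrCharacter G) // IsPBlock M B ∧ blockDefect p B = σ} ≤
      Nat.card {C : ConjClasses G // ∃ g : G, ConjClasses.mk g = C ∧ ¬ p ∣ orderOf g ∧
        (Nat.card (Subgroup.centralizer ({g} : Set G))).factorization p = σ} := by
  classical
  have := isPModular_isPrime hM
  have : Fintype (ConjClasses G) := Fintype.ofFinite _
  haveI : Fintype {B : Set (IrrCharacter G) // IsPBlock M B ∧ blockDefect p B = σ} := Fintype.ofFinite _
  haveI : Fintype {C : ConjClasses G // ∃ g : G, ConjClasses.mk g = C ∧ ¬ p ∣ orderOf g ∧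
        (Nat.card (Subgroup.centralizer ({g} : Set G))).factorization p = σ} := Fintype.ofFinite _
  rw [Nat.card_eq_fintype_card, Nat.card_eq_fintype_card]
  have hrep : ∀ B : {B : Set (IrrCharacter G) // IsPBlock M B ∧ blockDefect p B = σ}, ∃ χ : IrrCharacter G, χ ∈ B.1 :=
    fun B => IsPBlock_nonempty B.2.1
  choose rep hrep using hrep
  have hrepB : ∀ B, blockOf M ((rep B : IrrCharacter G) : G → ℂ) = B.1 := fun B =>
    (blockOf_eq_of_mem B.2.1 (hrep B)).symm
  haveI : Nontrivial (localRing M ⧸ localIdealSub M) :=
    Ideal.Quotient.nontrivial_iff.mpr localIdealSub_ne_top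
  let a : {B : Set (IrrCharacter G) // IsPBlock M B ∧ blockDefect p B = σ} → ConjClasses G → localRing M :=
    fun B c => ⟨blockCoeff B.1 c.out, by
      have := localCoeff_blockElt (isBlockUnion_of_isPBlock B.2.1) c.out
      rwa [coeff_blockElt] at this⟩
  let w : ConjClasses G → {B : Set (IrrCharacter G) // IsPBlock M B ∧ blockDefect p B = σ} → localRing M :=
    fun c B => ⟨centralChar ((rep B : IrrCharacter G) : G → ℂ) c.out, memLocalRing_centralChar (rep B).2 _⟩
  refine card_le_of_mul_eq_one
    (Matrix.of fun B K => Ideal.Quotient.mk (localIdealSub M) (a B K.1))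
    (Matrix.of fun K B => Ideal.Quotient.mk (localIdealSub M) (w K.1 B)) ?_
  ext B B'
  rw [Matrix.mul_apply]
  simp only [Matrix.of_apply]
  have hδ : om ((rep B' : IrrCharacter G) : G → ℂ) (blockElt B.1) = if B = B' then 1 else 0 := by
    rw [om_blockElt]
    by_cases hBB : B = B'
    · subst hBB
      rw [if_pos (hrep B), if_pos rfl]
    · rw [if_neg hBB, if_neg]
      intro hmem
      apply hBB
      apply Subtype.ext
      rw [blockOf_eq_of_mem B.2.1 hmem, hrepB]
  have h1 : ∑ K : {C : ConjClasses G // ∃ g : G, ConjClasses.mk g = C ∧ ¬ p ∣ orderOf g ∧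
        (Nat.card (Subgroup.centralizer ({g} : Set G))).factorization p = σ},
      Ideal.Quotient.mk (localIdealSub M) (a B K.1) * Ideal.Quotient.mk (localIdealSub M) (w K.1 B') =
      Ideal.Quotient.mk (localIdealSub M) (∑ K : {C : ConjClasses G // ∃ g : G, ConjClasses.mk g = C ∧ ¬ p ∣ orderOf g ∧
        (Nat.card (Subgroup.centralizer ({g} : Set G))).factorization p = σ}, a B K.1 * w K.1 B') := by
    rw [map_sum]
    exact Finset.sum_congr rfl fun K _ => (map_mul _ _ _).symm
  rw [h1]
  have h2 : (1 : Matrix _ _ (localRing M ⧸ localIdealSub M)) B B' =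
      Ideal.Quotient.mk (localIdealSub M) (if B = B' then 1 else 0) := by
    rw [Matrix.one_apply]
    split_ifs
    · simp
    · simp
  rw [h2, Ideal.Quotient.eq, mem_localIdealSub]
  -- the computation in `ℂ`
  have h3 : ((∑ K : {C : ConjClasses G // ∃ g : G, ConjClasses.mk g = C ∧ ¬ p ∣ orderOf g ∧
        (Nat.card (Subgroup.centralizer ({g} : Set G))).factorization p = σ}, a B K.1 * w K.1 B' -
        (if B = B' then 1 else 0) : localRing M) : ℂ) =
      ∑ c : ConjClasses G, (if (∃ g : G, ConjClasses.mk g = c ∧ ¬ p ∣ orderOf g ∧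
        (Nat.card (Subgroup.centralizer ({g} : Set G))).factorization p = σ) then 0 else
          - (blockCoeff B.1 c.out * centralChar ((rep B' : IrrCharacter G) : G → ℂ) c.out)) := by
    have h4 : ((if B = B' then 1 else 0 : localRing M) : ℂ) = om ((rep B' : IrrCharacter G) : G → ℂ) (blockElt B.1) := by
      rw [hδ]
      split_ifs <;> simp
    rw [AddSubgroupClass.coe_sub, h4, AddSubmonoidClass.coe_finset_sum]
    rw [om_eq_sum_conjClasses (isCentralElt_blockElt B.1)
      (IsCharacter.isClassFunction (IsIrrCharacter.isCharacter (rep B').2))]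
    have h6 : ∑ K : {C : ConjClasses G // ∃ g : G, ConjClasses.mk g = C ∧ ¬ p ∣ orderOf g ∧
        (Nat.card (Subgroup.centralizer ({g} : Set G))).factorization p = σ}, ((a B K.1 * w K.1 B' : localRing M) : ℂ) =
        ∑ c : ConjClasses G, if (∃ g : G, ConjClasses.mk g = c ∧ ¬ p ∣ orderOf g ∧
        (Nat.card (Subgroup.centralizer ({g} : Set G))).factorization p = σ) then
          blockCoeff B.1 c.out * centralChar ((rep B' : IrrCharacter G) : G → ℂ) c.out else 0 :=
      sum_subtype_ite (fun c : ConjClasses G => ∃ g : G, ConjClasses.mk g = c ∧ ¬ p ∣ orderOf g ∧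
        (Nat.card (Subgroup.centralizer ({g} : Set G))).factorization p = σ) (fun c : ConjClasses G => blockCoeff B.1 c.out * centralChar ((rep B' : IrrCharacter G) : G → ℂ) c.out)
    rw [h6, ← Finset.sum_sub_distrib]
    refine Finset.sum_congr rfl fun c _ => ?_
    rw [coeff_blockElt]
    split_ifs
    · ring
    · ring
  rw [h3]
  refine memLocalIdeal_sum _ _ fun c _ => ?_
  split_ifs with hc
  · exact memLocalIdeal_zero
  · refine memLocalIdeal_neg (memLocalIdeal_term_of_not_reg_defect hM B.2.1 ?_ ?_)
    · rw [hrepB, B.2.2, B'.2.2]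
    · rw [B.2.2]
      rintro ⟨h7, h8⟩
      exact hc ⟨c.out, Quotient.out_eq c, h7, h8⟩

end Count

end Cfsg.Agent.Lib.CharExtra
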