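import Cfsg.Agent.Lib.CharExtra.Knorr
import Cfsg.Agent.Lib.Techniques.Constrained
import Cfsg.Agent.Lib.PSolv.Basic
import Cfsg.Prelude.Def_Local

/-!
# Fong's theorem on the characters over an invariant character of a normal `p'`-subgroup
-/

set_option autoImplicit false
set_option linter.unusedSectionVars false
set_option linter.unusedSimpArgs false
set_option linter.unusedVariables false

open scoped ComplexConjugate
open Cfsg MonoidAlgebra
open Cfsg.Agent.Lib.Block

namespace Cfsg.Agent.Lib.CharExtra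

section Prelim

variable {F : Type*} [Group F] [Fintype F] {M : Ideal AlgInt} [hMp : M.IsPrime] (N : Subgroup F)
  [hN : N.Normal] [Fintype N] {p : ℕ} [hp : Fact p.Prime]

theorem blockCoeff_singleton (θ : IrrCharacter N) (n : N) :
    blockCoeff ({θ} : Set (IrrCharacter N)) n =
      (Nat.card N : ℂ)⁻¹ * ((θ : N → ℂ) 1 * conj ((θ : N → ℂ) n)) := by
  unfold blockCoeff
  rw [finsum_mem_singleton]

theorem blockOf_singleton_of_coprime (hM : IsPModular p M) (hN' : ¬ p ∣ Nat.card N) (θ : IrrCharacter N) :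
    blockOf M (θ : N → ℂ) = {θ} := by
  apply blockOf_eq_singleton_of_not_dvd hM
  intro hd
  exact hN' (hd.trans (Nat.div_dvd_of_dvd (Cfsg.Agent.Lib.Char.charDegree_dvd_card θ.2)))

theorem isStable_singleton {θ : IrrCharacter N} (hinv : ∀ g : F, conjIrr N g θ = θ) :
    IsStable N ({θ} : Set (IrrCharacter N)) := by
  intro g ψ hψ
  rw [Set.mem_singleton_iff] at hψ ⊢
  rw [hψ, hinv]

theorem isBlockUnion_singleton (hM : IsPModular p M) (hN' : ¬ p ∣ Nat.card N) (θ : IrrCharacter N) :
    IsBlockUnion M ({θ} : Set (IrrCharacter N)) := by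
  rw [← blockOf_singleton_of_coprime N hM hN' θ]
  exact isBlockUnion_of_isPBlock (isPBlock_blockOf θ)

/-- The coefficient at `1` of the idempotent of a character of a `p'`-group is a unit. -/
theorem not_memLocalIdeal_blockCoeff_singleton (hM : IsPModular p M) (hN' : ¬ p ∣ Nat.card N)
    (θ : IrrCharacter N) : ¬ MemLocalIdeal M (blockCoeff ({θ} : Set (IrrCharacter N)) 1) := by
  classical
  rw [blockCoeff_singleton]
  have h1 : (θ : N → ℂ) 1 = (charDegree (θ : N → ℂ) : ℂ) :=
    (Cfsg.Agent.Lib.Char.map_one_eq_charDegree (Cfsg.Agent.Lib.Char.IsIrrCharacter.isCharacter θ.2))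
  rw [h1, Complex.conj_natCast]
  have hd : ¬ p ∣ charDegree (θ : N → ℂ) := fun h =>
    hN' (h.trans (Cfsg.Agent.Lib.Char.charDegree_dvd_card θ.2))
  have hcard : (Nat.card N : ℂ) ≠ 0 := by exact_mod_cast Nat.card_pos.ne'
  intro h
  have h2 : (Nat.card N : ℂ) * ((Nat.card N : ℂ)⁻¹ * ((charDegree (θ : N → ℂ) : ℂ) * (charDegree (θ : N → ℂ) : ℂ))) =
      ((charDegree (θ : N → ℂ) * charDegree (θ : N → ℂ) : ℕ) : ℂ) := by
    push_cast
    field_simp
  have h3 := memLocalRing_mul_memLocalIdeal (memLocalRing_natCast (Nat.card N)) h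
  rw [h2] at h3
  rw [memLocalIdeal_natCast_iff hM] at h3
  exact hd ((Nat.Prime.dvd_mul hp.out).1 h3 |>.elim id id)

/-- The characters over an invariant character of a normal `p'`-subgroup of `p`-power index form a
block, with unit idempotent coefficient at `1`. -/
theorem not_memLocalIdeal_blockCoeff_one_of_pPower (hM : IsPModular p M) (hN' : ¬ p ∣ Nat.card N)
    (hidx : ∃ k : ℕ, N.index = p ^ k) {θ : IrrCharacter N} (hinv : ∀ g : F, conjIrr N g θ = θ)
    {ψ : IrrCharacter F} (hψ : ψ ∈ overSet N ({θ} : Set (IrrCharacter N))) :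
    ¬ MemLocalIdeal M (blockCoeff (blockOf M (ψ : F → ℂ)) 1) := by
  classical
  have hst := isStable_singleton N hinv
  have hbu := isBlockUnion_over N hst (isBlockUnion_singleton N hM hN' θ)
  have hA : blockOf M (ψ : F → ℂ) = overSet N ({θ} : Set (IrrCharacter N)) := by
    ext χ
    constructor
    · intro h
      by_contra hcon
      exact hbu ψ hψ χ hcon h
    · rintro ⟨θ₁, h1, h2⟩
      obtain ⟨θ₂, h3, h4⟩ := hψ
      rw [Set.mem_singleton_iff] at h1 h3
      subst h1 h3
      exact sameBlock_of_sameBlock_constituent N hM hidx h4 h2 (sameBlock_refl _)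
  rw [hA, ← coeff_blockElt, ← incl_blockElt_eq_over N hst]
  have := coeff_incl_coe N (blockElt ({θ} : Set (IrrCharacter N))) 1
  simp only [OneMemClass.coe_one] at this
  rw [this, coeff_blockElt]
  exact not_memLocalIdeal_blockCoeff_singleton N hM hN' θ

end Prelim

section Main

variable {G : Type*} [Group G] [Fintype G] {M : Ideal AlgInt} [hMp : M.IsPrime] (N F : Subgroup G)
  [hN : N.Normal] [hF : F.Normal] [Fintype N] [Fintype F] {p : ℕ} [hp : Fact p.Prime]

/-- The transported character of `N` inside `F`. -/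
noncomputable def transIrr (hNF : N ≤ F) (θ : IrrCharacter N) : IrrCharacter (N.subgroupOf F) :=
  ⟨(θ : N → ℂ) ∘ (Subgroup.subgroupOfEquivOfLe hNF), Cfsg.Agent.Lib.Char.isIrr_comp_equiv _ θ.2⟩

theorem transIrr_apply (hNF : N ≤ F) (θ : IrrCharacter N) (x : N.subgroupOf F) :
    (transIrr N F hNF θ : N.subgroupOf F → ℂ) x = (θ : N → ℂ) ⟨((x : F) : G), x.2⟩ := rfl

/-- Characters of an intermediate normal subgroup below a character over `θ` lie over the
transport of `θ`. -/
theorem mem_overSet_transIrr (hNF : N ≤ F) [Fintype (N.subgroupOf F)] {θ : IrrCharacter N}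
    (hinv : ∀ g : G, conjIrr N g θ = θ) {χ : IrrCharacter G}
    (hχ : χ ∈ overSet N ({θ} : Set (IrrCharacter N))) {ψ : IrrCharacter F}
    (hψ : classInner (fun n : F => (χ : G → ℂ) n) (ψ : F → ℂ) ≠ 0) :
    ψ ∈ overSet (N.subgroupOf F) ({transIrr N F hNF θ} : Set (IrrCharacter (N.subgroupOf F))) := by
  classical
  set θ' := transIrr N F hNF θ with hθ'
  have hinv' : ∀ g : F, conjIrr (N.subgroupOf F) g θ' = θ' := by
    intro g
    apply Subtype.ext
    rw [conjIrr_coe]
    funext x
    show (θ' : N.subgroupOf F → ℂ) _ = (θ' : N.subgroupOf F → ℂ) x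
    rw [hθ', transIrr_apply, transIrr_apply]
    have := congrFun (congrArg Subtype.val (hinv (g : G))) ⟨((x : F) : G), x.2⟩
    rw [conjIrr_coe] at this
    exact this
  have hst := isStable_singleton (N.subgroupOf F) hinv'
  have hst2 := isStable_singleton N hinv
  have hcoeff : incl F (incl (N.subgroupOf F) (blockElt ({θ'} : Set (IrrCharacter (N.subgroupOf F))))) =
      incl N (blockElt ({θ} : Set (IrrCharacter N))) := by
    apply ext_coeff
    intro g
    by_cases hg : g ∈ N
    · have h1 := coeff_incl_coe N (blockElt ({θ} : Set (IrrCharacter N))) ⟨g, hg⟩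
      have h2 := coeff_incl_coe F (incl (N.subgroupOf F) (blockElt ({θ'} : Set (IrrCharacter (N.subgroupOf F)))))
        ⟨g, hNF hg⟩
      have h3 := coeff_incl_coe (N.subgroupOf F) (blockElt ({θ'} : Set (IrrCharacter (N.subgroupOf F))))
        ⟨⟨g, hNF hg⟩, hg⟩
      simp only at h1 h2 h3
      rw [h1, h2, h3, coeff_blockElt, coeff_blockElt, blockCoeff_singleton, blockCoeff_singleton]
      have hcard : Nat.card (N.subgroupOf F) = Nat.card N :=
        Nat.card_congr (Subgroup.subgroupOfEquivOfLe hNF).toEquiv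
      rw [hcard]
      rfl
    · rw [coeff_incl_of_notMem N _ hg]
      by_cases hg2 : g ∈ F
      · have h2 := coeff_incl_coe F (incl (N.subgroupOf F) (blockElt ({θ'} : Set (IrrCharacter (N.subgroupOf F)))))
          ⟨g, hg2⟩
        simp only at h2
        rw [h2, coeff_incl_of_notMem _ _ (by simpa [Subgroup.mem_subgroupOf] using hg)]
      · rw [coeff_incl_of_notMem F _ hg2]
  have hc : IsCentralElt (incl F (incl (N.subgroupOf F) (blockElt ({θ'} : Set (IrrCharacter (N.subgroupOf F)))))) := by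
    rw [hcoeff]
    exact isCentralElt_incl_blockElt N hst2
  have h1 := om_incl_of_constituent F χ ψ hψ hc
  rw [hcoeff, om_over_of_mem N hst2 hχ] at h1
  by_contra hcon
  rw [om_over_of_notMem (N.subgroupOf F) hst hcon] at h1
  exact one_ne_zero h1

/-- The defect groups of a block of `F` over `θ` are Sylow. -/
theorem sylow_le_conj_defect_of_overF (hM : IsPModular p M) (hNF : N ≤ F) (hN' : ¬ p ∣ Nat.card N)
    (hidx : ∃ k : ℕ, (N.subgroupOf F).index = p ^ k) [Fintype (N.subgroupOf F)] {θ : IrrCharacter N}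
    (hinv : ∀ g : G, conjIrr N g θ = θ) {ψ : IrrCharacter F}
    (hψ : ψ ∈ overSet (N.subgroupOf F) ({transIrr N F hNF θ} : Set (IrrCharacter (N.subgroupOf F))))
    {D : Subgroup F} (hD : IsDefectGroup p M (blockOf M (ψ : F → ℂ)) D) :
    Nat.card D = p ^ (Nat.card F).factorization p := by
  classical
  have hinv' : ∀ g : F, conjIrr (N.subgroupOf F) g (transIrr N F hNF θ) = transIrr N F hNF θ := by
    intro g
    apply Subtype.ext
    rw [conjIrr_coe]
    funext x
    show (transIrr N F hNF θ : N.subgroupOf F → ℂ) _ = (transIrr N F hNF θ : N.subgroupOf F → ℂ) x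
    rw [transIrr_apply, transIrr_apply]
    have := congrFun (congrArg Subtype.val (hinv (g : G))) ⟨((x : F) : G), x.2⟩
    rw [conjIrr_coe] at this
    exact this
  have hN'2 : ¬ p ∣ Nat.card (N.subgroupOf F) := by
    rwa [Nat.card_congr (Subgroup.subgroupOfEquivOfLe hNF).toEquiv]
  have hunit := not_memLocalIdeal_blockCoeff_one_of_pPower (N.subgroupOf F) hM hN'2 hidx hinv' hψ
  have hDp : IsPGroup p D := by
    obtain ⟨g, _, S, rfl⟩ := hD
    exact S.isPGroup'.map _
  obtain ⟨S⟩ : Nonempty (Sylow p F) := inferInstance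
  have hdvd : Nat.card D ≤ p ^ (Nat.card F).factorization p := by
    obtain ⟨S', hS'⟩ := hDp.exists_le_sylow
    rw [← S'.card_eq_multiplicity]
    exact Subgroup.card_le_of_le hS'
  refine le_antisymm hdvd ?_
  obtain ⟨g, hg, S₀, hS₀⟩ := hD
  obtain ⟨x, hx⟩ := minmax_le hM (isPBlock_blockOf ψ) (mem_blockOf_self ψ) (hg.2.2 ψ (mem_blockOf_self ψ)) hunit
    S.isPGroup' (E := (S : Subgroup F)) (by
      intro y _
      rw [Subgroup.mem_centralizer_singleton_iff]
      simp) S₀
  rw [← S.card_eq_multiplicity]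
  have h1 := Subgroup.card_le_of_le hx
  have h2 : Nat.card (((S₀ : Subgroup (Subgroup.centralizer ({g} : Set F))).map
      (Subgroup.centralizer ({g} : Set F)).subtype).map (MulAut.conj x).toMonoidHom) = Nat.card D := by
    rw [hS₀]
    exact Nat.card_congr (Subgroup.equivMapOfInjective _ _ (MulAut.conj x).injective).symm.toEquiv
  rw [h2] at h1
  exact h1

/-- Central characters vanish modulo the local ideal off `N` on the regular classes. -/
theorem memLocalIdeal_centralChar_of_regular_notMem (hM : IsPModular p M) (hNF : N ≤ F)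
    (hN' : ¬ p ∣ Nat.card N) (hidx : ∃ k : ℕ, (N.subgroupOf F).index = p ^ k)
    (hC : ∀ Q : Subgroup G, Q ≤ F → IsPGroup p Q → ¬ p ∣ Q.relIndex F →
      Subgroup.centralizer (Q : Set G) ≤ F)
    {θ : IrrCharacter N} (hinv : ∀ g : G, conjIrr N g θ = θ) {χ : IrrCharacter G}
    (hχ : χ ∈ overSet N ({θ} : Set (IrrCharacter N))) {u : G} (hu : ¬ p ∣ orderOf u) (huN : u ∉ N) :
    MemLocalIdeal M (centralChar (χ : G → ℂ) u) := by
  classical
  by_contra hcon
  haveI : Fintype (N.subgroupOf F) := Fintype.ofFinite _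
  obtain ⟨ψ, hψ⟩ := exists_constituent F χ
  have hψ2 := mem_overSet_transIrr N F hNF hinv hχ hψ
  obtain ⟨D, hD⟩ := exists_isDefectGroup hM (isPBlock_blockOf (M := M) ψ)
  have hcardD := sylow_le_conj_defect_of_overF N F hM hNF hN' hidx hinv hψ2 hD
  obtain ⟨P, hP⟩ := exists_isDefectGroup hM (isPBlock_blockOf (M := M) χ)
  obtain ⟨x, hx⟩ := defect_le_conj_of_cover F hM (isPBlock_blockOf (M := M) χ) (isPBlock_blockOf (M := M) ψ)
    ⟨χ, mem_blockOf_self χ, ψ, mem_blockOf_self ψ, hψ⟩ hD hP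
  obtain ⟨g', hg', S', hS'⟩ := isDefectGroup_conj hP x
  obtain ⟨Su⟩ : Nonempty (Sylow p (Subgroup.centralizer ({u} : Set G))) := inferInstance
  have hPxp : IsPGroup p (P.map (MulAut.conj x).toMonoidHom) := by
    rw [hS']
    exact S'.isPGroup'.map _
  have hPxc : P.map (MulAut.conj x).toMonoidHom ≤ Subgroup.centralizer ({g'} : Set G) := by
    rw [hS']
    rintro _ ⟨s, _, rfl⟩
    exact s.2
  obtain ⟨y, hy⟩ := minmax_le hM (isPBlock_blockOf (M := M) χ) (mem_blockOf_self χ) hcon hg'.2.1 hPxp hPxc Su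
  set Q : Subgroup G := D.map F.subtype with hQ
  have hQP : Q ≤ ((Su : Subgroup (Subgroup.centralizer ({u} : Set G))).map
      (Subgroup.centralizer ({u} : Set G)).subtype).map (MulAut.conj y).toMonoidHom := hx.trans hy
  have hQF : Q ≤ F := by
    rintro _ ⟨d, _, rfl⟩
    exact d.2
  have hQp : IsPGroup p Q := by
    have hDp : IsPGroup p D := by
      obtain ⟨g, _, S, rfl⟩ := hD
      exact S.isPGroup'.map _
    exact hDp.map _
  have hrel : ¬ p ∣ Q.relIndex F := by
    have h1 : Q.subgroupOf F = D := by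
      rw [hQ]
      exact Subgroup.comap_map_eq_self_of_injective (Subgroup.subtype_injective F) D
    show ¬ p ∣ (Q.subgroupOf F).index
    rw [h1]
    intro hdvd
    have h2 := D.card_mul_index
    rw [hcardD] at h2
    obtain ⟨m, hm⟩ := hdvd
    have hF0 : Nat.card F ≠ 0 := Nat.card_pos.ne'
    obtain ⟨a, ha⟩ : ∃ a, a = (Nat.card F).factorization p := ⟨_, rfl⟩
    rw [← ha] at h2
    have h3 : p ^ (a + 1) ∣ Nat.card F := ⟨m, by rw [← h2, hm, pow_succ]; ring⟩
    rw [ha] at h3
    exact Nat.pow_succ_factorization_not_dvd hF0 hp.out h3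
  -- `y u y⁻¹` centralizes `Q`
  have hcent : y * u * y⁻¹ ∈ Subgroup.centralizer (Q : Set G) := by
    rw [Subgroup.mem_centralizer_iff]
    intro q hq
    obtain ⟨_, ⟨s, _, rfl⟩, hs⟩ := hQP hq
    have hs1 := s.2
    rw [Subgroup.mem_centralizer_singleton_iff] at hs1
    simp only [MulEquiv.coe_toMonoidHom, MulAut.conj_apply, Subgroup.coe_subtype] at hs
    rw [← hs]
    calc y * (s : G) * y⁻¹ * (y * u * y⁻¹) = y * ((s : G) * u) * y⁻¹ := by group
      _ = y * (u * (s : G)) * y⁻¹ := by rw [hs1]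
      _ = y * u * y⁻¹ * (y * (s : G) * y⁻¹) := by group
  have huF := hC Q hQF hQp hrel hcent
  have hreg : ¬ p ∣ orderOf (y * u * y⁻¹) := by
    rwa [orderOf_conj]
  have hreg' : ¬ p ∣ orderOf (⟨y * u * y⁻¹, huF⟩ : F) := by
    rwa [Subgroup.orderOf_mk]
  have huN' : (⟨y * u * y⁻¹, huF⟩ : F) ∈ N.subgroupOf F :=
    mem_of_regular_of_index (N.subgroupOf F) hidx hreg'
  have h3 : y * u * y⁻¹ ∈ N := huN'
  apply huN
  have h4 := hN.conj_mem _ h3 y⁻¹
  have h5 : y⁻¹ * (y * u * y⁻¹) * y⁻¹⁻¹ = u := by group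
  rwa [h5] at h4

/-- All characters over `θ` lie in one block. -/
theorem sameBlock_of_over (hM : IsPModular p M) (hNF : N ≤ F)
    (hN' : ¬ p ∣ Nat.card N) (hidx : ∃ k : ℕ, (N.subgroupOf F).index = p ^ k)
    (hC : ∀ Q : Subgroup G, Q ≤ F → IsPGroup p Q → ¬ p ∣ Q.relIndex F →
      Subgroup.centralizer (Q : Set G) ≤ F)
    {θ : IrrCharacter N} (hinv : ∀ g : G, conjIrr N g θ = θ) {χ χ' : IrrCharacter G}
    (hχ : χ ∈ overSet N ({θ} : Set (IrrCharacter N)))
    (hχ' : χ' ∈ overSet N ({θ} : Set (IrrCharacter N))) : SameBlock M (χ : G → ℂ) (χ' : G → ℂ) := by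
  classical
  by_contra hcon
  have : Fintype (ConjClasses G) := Fintype.ofFinite _
  set B := blockOf M (χ : G → ℂ) with hB
  have hBU : IsBlockUnion M B := isBlockUnion_of_isPBlock (isPBlock_blockOf χ)
  have h1 : om (χ : G → ℂ) (blockElt B) = 1 := om_blockElt_of_mem (mem_blockOf_self χ)
  have h2 : om (χ' : G → ℂ) (blockElt B) = 0 := om_blockElt_of_notMem hcon
  have hcl : ∀ ξ : IrrCharacter G, IsClassFunction G (ξ : G → ℂ) := fun ξ =>
    Cfsg.Agent.Lib.Char.IsCharacter.isClassFunction (Cfsg.Agent.Lib.Char.IsIrrCharacter.isCharacter ξ.2)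
  rw [om_eq_sum_conjClasses (isCentralElt_blockElt B) (hcl χ)] at h1
  rw [om_eq_sum_conjClasses (isCentralElt_blockElt B) (hcl χ')] at h2
  have h3 : MemLocalIdeal M ((1 : ℂ) - 0) := by
    rw [← h1, ← h2, ← Finset.sum_sub_distrib]
    refine memLocalIdeal_sum _ _ fun c _ => ?_
    rw [← mul_sub]
    by_cases hreg : p ∣ orderOf c.out
    · rw [coeff_blockElt]
      have h0 : blockCoeff B c.out = 0 := by
        by_contra hne
        exact regular_of_blockCoeff_ne_zero hM hBU hne hreg
      rw [h0, zero_mul]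
      exact memLocalIdeal_zero
    · refine memLocalRing_mul_memLocalIdeal (localCoeff_blockElt hBU _) ?_
      by_cases hcN : c.out ∈ N
      · obtain ⟨θ₁, h5, h6⟩ := hχ
        obtain ⟨θ₂, h7, h8⟩ := hχ'
        rw [Set.mem_singleton_iff] at h5 h7
        rw [h5] at h6
        rw [h7] at h8
        have e1 := (constituent_iff_centralChar N χ θ).1 h6 ⟨c.out, hcN⟩
        have e2 := (constituent_iff_centralChar N χ' θ).1 h8 ⟨c.out, hcN⟩
        simp only at e1 e2
        rw [e1, e2, sub_self]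
        exact memLocalIdeal_zero
      · exact memLocalIdeal_sub
          (memLocalIdeal_centralChar_of_regular_notMem N F hM hNF hN' hidx hC hinv hχ hreg hcN)
          (memLocalIdeal_centralChar_of_regular_notMem N F hM hNF hN' hidx hC hinv hχ' hreg hcN)
  rw [sub_zero] at h3
  exact not_memLocalIdeal_one h3

/-- **Fong's theorem**, general form. -/
theorem fong_general (hM : IsPModular p M) (hNF : N ≤ F)
    (hN' : ¬ p ∣ Nat.card N) (hidx : ∃ k : ℕ, (N.subgroupOf F).index = p ^ k)
    (hC : ∀ Q : Subgroup G, Q ≤ F → IsPGroup p Q → ¬ p ∣ Q.relIndex F →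
      Subgroup.centralizer (Q : Set G) ≤ F)
    {θ : IrrCharacter N} (hinv : ∀ g : G, conjIrr N g θ = θ) :
    ∃ B : Set (IrrCharacter G), IsPBlock M B ∧
      (∀ χ : IrrCharacter G, χ ∈ B ↔ classInner (fun n : N => (χ : G → ℂ) n) (θ : N → ℂ) ≠ 0) ∧
      (∀ P : Sylow p G, IsDefectGroup p M B (P : Subgroup G)) ∧
      ∀ D : Subgroup G, IsDefectGroup p M B D → ∃ P : Sylow p G, D = (P : Subgroup G) := by
  classical
  obtain ⟨χ₀, hχ₀⟩ := exists_irr_over N θ
  have hst := isStable_singleton N hinv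
  have hbu := isBlockUnion_over N hst (isBlockUnion_singleton N hM hN' θ)
  have hover : ∀ χ : IrrCharacter G, χ ∈ overSet N ({θ} : Set (IrrCharacter N)) ↔
      classInner (fun n : N => (χ : G → ℂ) n) (θ : N → ℂ) ≠ 0 := by
    intro χ
    constructor
    · rintro ⟨θ₁, h1, h2⟩
      rw [Set.mem_singleton_iff] at h1
      rw [h1] at h2
      exact h2
    · intro h
      exact ⟨θ, rfl, h⟩
  have h0 : χ₀ ∈ overSet N ({θ} : Set (IrrCharacter N)) := (hover χ₀).2 hχ₀
  have hA : blockOf M (χ₀ : G → ℂ) = overSet N ({θ} : Set (IrrCharacter N)) := by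
    ext χ
    constructor
    · intro h
      by_contra hcon
      exact hbu χ₀ h0 χ hcon h
    · intro h
      exact sameBlock_of_over N F hM hNF hN' hidx hC hinv h0 h
  set B := blockOf M (χ₀ : G → ℂ) with hB
  have hBb : IsPBlock M B := isPBlock_blockOf χ₀
  have hunit : ¬ MemLocalIdeal M (blockCoeff B 1) := by
    rw [hA, ← coeff_blockElt, ← incl_blockElt_eq_over N hst]
    have := coeff_incl_coe N (blockElt ({θ} : Set (IrrCharacter N))) 1
    simp only [OneMemClass.coe_one] at this
    rw [this, coeff_blockElt]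
    exact not_memLocalIdeal_blockCoeff_singleton N hM hN' θ
  have hDS : ∀ D : Subgroup G, IsDefectGroup p M B D → ∃ P : Sylow p G, D = (P : Subgroup G) := by
    intro D hD
    have hDp : IsPGroup p D := by
      obtain ⟨g, _, S, rfl⟩ := hD
      exact S.isPGroup'.map _
    obtain ⟨S'', hS''⟩ := hDp.exists_le_sylow
    obtain ⟨g, hg, S₀, hS₀⟩ := hD
    obtain ⟨x, hx⟩ := minmax_le hM hBb (mem_blockOf_self χ₀) (hg.2.2 χ₀ (mem_blockOf_self χ₀)) hunit
      S''.isPGroup' (E := (S'' : Subgroup G)) (by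
        intro y _
        rw [Subgroup.mem_centralizer_singleton_iff]
        simp) S₀
    refine ⟨S'', ?_⟩
    apply Subgroup.eq_of_le_of_card_ge hS''
    have h1 := Subgroup.card_le_of_le hx
    have h2 : Nat.card (((S₀ : Subgroup (Subgroup.centralizer ({g} : Set G))).map
        (Subgroup.centralizer ({g} : Set G)).subtype).map (MulAut.conj x).toMonoidHom) = Nat.card D := by
      rw [hS₀]
      exact Nat.card_congr (Subgroup.equivMapOfInjective _ _ (MulAut.conj x).injective).symm.toEquiv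
    rw [h2] at h1
    exact h1
  refine ⟨B, hBb, ?_, ?_, hDS⟩
  · intro χ
    rw [hA, hover]
  · intro P
    obtain ⟨D, hD⟩ := exists_isDefectGroup hM hBb
    obtain ⟨P₀, rfl⟩ := hDS D hD
    obtain ⟨x, hx⟩ := MulAction.exists_smul_eq G P₀ P
    have := isDefectGroup_conj hD x
    have h2 : (P₀ : Subgroup G).map (MulAut.conj x).toMonoidHom = (P : Subgroup G) := by
      rw [← hx]
      rfl
    rwa [h2] at this

end Main

end Cfsg.Agent.Lib.CharExtra

namespace Cfsg.Agent.Lib.CharExtra

section Apply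

variable {G : Type*} [Group G] [Finite G] {p : ℕ} [hp : Fact p.Prime]

theorem index_subgroupOf_pPrimePCore :
    ∃ k : ℕ, ((pPrimeCore p G).subgroupOf (pPrimePCore p G)).index = p ^ k := by
  classical
  have h1 : (pPrimeCore p G) = (⊥ : Subgroup (G ⧸ pPrimeCore p G)).comap (QuotientGroup.mk' (pPrimeCore p G)) := by
    rw [MonoidHom.comap_bot, QuotientGroup.ker_mk']
  have h2 : ((pPrimeCore p G).subgroupOf (pPrimePCore p G)).index = (pPrimeCore p G).relIndex (pPrimePCore p G) := rfl
  rw [h2, Subgroup.relIndex, ← Subgroup.relIndex]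
  have h3 : (pPrimeCore p G).relIndex (pPrimePCore p G) =
      ((⊥ : Subgroup (G ⧸ pPrimeCore p G)).comap (QuotientGroup.mk' (pPrimeCore p G))).relIndex (pPrimePCore p G) := by
    rw [← h1]
  rw [h3, Subgroup.relIndex_comap, Subgroup.relIndex_bot_left]
  unfold pPrimePCore
  rw [Subgroup.map_comap_eq_self_of_surjective (QuotientGroup.mk'_surjective _)]
  exact (Cfsg.Agent.Lib.Core.pCore_isPGroup p (G ⧸ pPrimeCore p G)).exists_card_eq

/-- In a `p`-constrained situation Sylow subgroups of `O_{p',p}(G)` contain their centralizers up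
to `O_{p',p}(G)`. -/
theorem centralizer_le_pPrimePCore_of_psolvable (hsolv : IsPSolvable p G) {Q : Subgroup G}
    (hQF : Q ≤ pPrimePCore p G) (hQp : IsPGroup p Q) (hQi : ¬ p ∣ Q.relIndex (pPrimePCore p G)) :
    Subgroup.centralizer (Q : Set G) ≤ pPrimePCore p G := by
  classical
  intro x hx
  have hstep : Cfsg.Agent.Lib.PSolv.PStep p (G ⧸ pPrimeCore p G) :=
    (Cfsg.Agent.Lib.PSolv.pStep_of_isPSolvable hp.out hsolv).quotient _
  have hO : pPrimeCore p (G ⧸ pPrimeCore p G) = ⊥ := Cfsg.Agent.Lib.Core.pPrimeCore_quotient_eq_bot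
  have hle := Cfsg.Agent.Lib.PSolv.centralizer_pCore_le hstep hO
  show QuotientGroup.mk' (pPrimeCore p G) x ∈ pCore p (G ⧸ pPrimeCore p G)
  apply hle
  rw [Subgroup.mem_centralizer_iff]
  intro z hz
  obtain ⟨f, rfl⟩ := QuotientGroup.mk'_surjective (pPrimeCore p G) z
  have hf : f ∈ pPrimePCore p G := hz
  have hsup := Cfsg.Agent.Lib.Techniques.pPrimePCore_le_sup (p := p) (T := Q) ⟨hQF, hQp, hQi⟩ hf
  obtain ⟨t, ht, n, hn, rfl⟩ := Subgroup.mem_sup_of_normal_right.mp hsup
  have h1 : QuotientGroup.mk' (pPrimeCore p G) n = 1 := (QuotientGroup.eq_one_iff n).2 hn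
  rw [map_mul, h1, mul_one, ← map_mul, ← map_mul, (Subgroup.mem_centralizer_iff.1 hx t ht)]

end Apply

end Cfsg.Agent.Lib.CharExtra
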