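import Cfsg.Agent.Lib.CharExtra.PReg
import Cfsg.Agent.Lib.Block.Section

/-!
# Induced blocks and the `p`-regular part
-/

set_option autoImplicit false
set_option linter.unusedSectionVars false
set_option linter.style.haveILetI false
set_option linter.unusedSimpArgs false
set_option linter.unnecessarySimpa false

open scoped ComplexConjugate

namespace Cfsg.Agent.Lib.CharExtra

open Cfsg Cfsg.Agent.Lib.Char Cfsg.Agent.Lib.Block Cfsg.Agent.Lib.Core

section Ind

variable {G : Type*} [Group G] [Fintype G] {p : ℕ} [hp : Fact p.Prime] {M : Ideal AlgInt}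

theorem ordCompl_mul_classInner_regPart (f g : G → ℂ) :
    (((Nat.card G) / p ^ (Nat.card G).factorization p : ℕ) : ℂ) * classInner (regPart p f) g =
      ∑ x : G, (if p ∣ orderOf x then (0 : ℂ) else f x * conj (g x)) := by
  rw [classInner_regPart]
  have h1 : (((Nat.card G) / p ^ (Nat.card G).factorization p : ℕ) : ℂ) *
      ((Nat.card G : ℂ)⁻¹ * ((p ^ (Nat.card G).factorization p : ℕ) : ℂ)) = 1 := by
    have h2 : (Nat.card G) / p ^ (Nat.card G).factorization p * p ^ (Nat.card G).factorization p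
        = Nat.card G := by
      rw [mul_comm]
      exact Nat.ordProj_mul_ordCompl_eq_self _ _
    have h3 : (Nat.card G : ℂ) ≠ 0 := by exact_mod_cast Nat.card_pos.ne'
    rw [← mul_assoc, mul_comm _ (Nat.card G : ℂ)⁻¹, mul_assoc]
    rw [← Nat.cast_mul, h2]
    exact inv_mul_cancel₀ h3
  rw [← mul_assoc, h1, one_mul]

variable (H : Subgroup G) [Fintype H]

/-- `[η, ψ]/ψ(1)` as a central character value, `η = p^a·χ_H` on `p`-regular elements of `H`. -/
theorem om_resAlg_zeta (χ : IrrCharacter G) (ψ : IrrCharacter H) :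
    om (ψ : H → ℂ) (resAlg H (zeta p (χ : G → ℂ))) =
      (((Nat.card H) / p ^ (Nat.card H).factorization p : ℕ) : ℂ) *
        (classInner (regPart p (fun h : H => (χ : G → ℂ) h)) (ψ : H → ℂ) / (ψ : H → ℂ) 1) := by
  obtain ⟨n, hn⟩ := classInner_isGeneralized_int
    (isGeneralized_regPart (p := p) (IsGeneralizedCharacter.of_isCharacter
      (IsCharacter.restrict H (IsIrrCharacter.isCharacter χ.2))))
    (IsGeneralizedCharacter.of_isCharacter (IsIrrCharacter.isCharacter ψ.2))
  unfold om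
  rw [← mul_div_assoc]
  congr 1
  have h1 := ordCompl_mul_classInner_regPart (p := p) (fun h : H => (χ : G → ℂ) h) (ψ : H → ℂ)
  have h2 := congrArg (starRingEnd ℂ) h1
  rw [hn, map_mul, map_natCast, map_intCast, ← hn, map_sum] at h2
  rw [h2]
  unfold tr
  refine Finset.sum_congr rfl fun h _ => ?_
  rw [coeff_resAlg, zeta, coeff_ofFun, Subgroup.orderOf_coe]
  split_ifs
  · simp
  · rw [map_mul, Complex.conj_conj]

/-- **S4431 core.** -/
theorem regPart_res_local (hM : IsPModular p M) {b : Set (IrrCharacter H)} {B₀ : Set (IrrCharacter G)}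
    (hind : IsInducedBlock M H b B₀) (χ : IrrCharacter G) {ψ : IrrCharacter H} (hψ : ψ ∈ b) :
    (χ ∉ B₀ → MemLocalIdeal M (classInner (regPart p (fun h : H => (χ : G → ℂ) h)) (ψ : H → ℂ) / (ψ : H → ℂ) 1)) ∧
    (χ ∈ B₀ → blockHeight p B₀ (χ : G → ℂ) = 0 →
      ¬ MemLocalIdeal M (classInner (regPart p (fun h : H => (χ : G → ℂ) h)) (ψ : H → ℂ) / (ψ : H → ℂ) 1)) := by
  have := isPModular_isPrime hM
  obtain ⟨-, hB₀, hcong⟩ := hind
  obtain ⟨χ₀, h₀, h₁, hmin⟩ := exists_min_height hB₀ hM
  have hsub := memLocalIdeal_om_resAlg_sub H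
    (IsCharacter.isClassFunction (IsIrrCharacter.isCharacter χ₀.2)) (hcong ψ hψ χ₀ h₀)
    (isCentralElt_zeta (p := p) (IsCharacter.isClassFunction (IsIrrCharacter.isCharacter χ.2)))
    (localCoeff_zeta (M := M) (IsIrrCharacter.isCharacter χ.2))
  rw [om_resAlg_zeta, om_zeta] at hsub
  have hmH : ¬ MemLocalIdeal M (((Nat.card H) / p ^ (Nat.card H).factorization p : ℕ) : ℂ) :=
    not_memLocalIdeal_natCast hM (not_dvd_ordCompl (G := H))
  have hmG : ¬ MemLocalIdeal M (((Nat.card G) / p ^ (Nat.card G).factorization p : ℕ) : ℂ) :=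
    not_memLocalIdeal_natCast hM (not_dvd_ordCompl (G := G))
  constructor
  · intro hχ
    rw [regCoeff_eq_zero_of_notMem hM hB₀ h₀ hχ] at hsub
    simp only [Int.cast_zero, zero_div, mul_zero, sub_zero] at hsub
    rw [mul_comm] at hsub
    exact memLocalIdeal_of_mul_unit (memLocalRing_natCast _) hmH hsub
  · intro hχ hht hmem
    have h2 : MemLocalIdeal M (((Nat.card H) / p ^ (Nat.card H).factorization p : ℕ) *
        (classInner (regPart p (fun h : H => (χ : G → ℂ) h)) (ψ : H → ℂ) / (ψ : H → ℂ) 1)) :=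
      memLocalIdeal_mul_left (memLocalRing_natCast _) hmem
    have h3 := memLocalIdeal_sub h2 hsub
    simp only [sub_sub_cancel] at h3
    rw [mul_comm] at h3
    have h4 := memLocalIdeal_of_mul_unit (memLocalRing_natCast _) hmG h3
    rw [memLocalIdeal_regCoeff_div_iff hM hB₀ h₀ hmin hχ] at h4
    unfold blockHeight at hht
    rw [← h₁] at hht
    omega

theorem tr_indFun (ξ : H → ℂ) {z : MonoidAlgebra ℂ G} (hz : IsCentralElt z) :
    tr (indFun H ξ) z = (H.index : ℂ) * tr ξ (resAlg H z) := by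
  classical
  have key : ∀ x : G, ∑ g : G, z.coeff g * extendByZero H ξ (x⁻¹ * g * x) =
      ∑ g : G, z.coeff g * extendByZero H ξ g := by
    intro x
    refine Fintype.sum_equiv (MulAut.conj x⁻¹).toEquiv _ _ fun g => ?_
    have h1 := hz x⁻¹ g
    simp only [inv_inv] at h1
    simp only [MulEquiv.toEquiv_eq_coe, EquivLike.coe_coe, MulAut.conj_apply, inv_inv]
    rw [h1]
  have h1 : tr (indFun H ξ) z = (Nat.card H : ℂ)⁻¹ * ((Nat.card G : ℂ) * ∑ g : G, z.coeff g * extendByZero H ξ g) := by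
    have h5 : ∀ g : G, z.coeff g * indFun H ξ g =
        (Nat.card H : ℂ)⁻¹ * ∑ x : G, z.coeff g * extendByZero H ξ (x⁻¹ * g * x) := by
      intro g
      simp only [indFun]
      rw [← Finset.mul_sum]
      ring
    unfold tr
    simp only [h5]
    rw [← Finset.mul_sum, Finset.sum_comm]
    simp only [key, Finset.sum_const, Finset.card_univ, nsmul_eq_mul, Nat.card_eq_fintype_card]
  have h2 : ∑ g : G, z.coeff g * extendByZero H ξ g = tr ξ (resAlg H z) := by
    unfold tr
    rw [sum_eq_sum_subgroup H]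
    · refine Finset.sum_congr rfl fun k _ => ?_
      rw [coeff_resAlg, extendByZero_coe]
    · intro k hk
      rw [extendByZero_of_not_mem H ξ hk, mul_zero]
  rw [h1, h2, ← mul_assoc]
  congr 1
  have h3 : (Nat.card G : ℂ) = (H.index : ℂ) * (Nat.card H : ℂ) := by
    rw [← Nat.cast_mul, Subgroup.index_mul_card]
  have h4 : (Nat.card H : ℂ) ≠ 0 := by exact_mod_cast Nat.card_pos.ne'
  rw [h3]
  field_simp

/-- The degree of a block part, via the induced block. -/
theorem blockPart_indFun_one (B : Set (IrrCharacter G)) (ξ : IrrCharacter H) :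
    blockPart B (indFun H (ξ : H → ℂ)) 1 = ((charDegree (indFun H (ξ : H → ℂ)) : ℕ) : ℂ) *
      om (ξ : H → ℂ) (resAlg H (blockElt B)) := by
  have hξ := IsIrrCharacter.isCharacter ξ.2
  have hF := indFun_isCharacter H hξ
  rw [blockPart_eq_tr _ _ (IsCharacter.isClassFunction hF)]
  have h1 : blockElt B * MonoidAlgebra.single (1 : G) (1 : ℂ) = blockElt B := by
    rw [← MonoidAlgebra.one_def, mul_one]
  rw [h1, tr_indFun H _ (isCentralElt_blockElt B), ← map_one_eq_charDegree hF, indFun_one]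
  unfold om
  have h2 := map_one_ne_zero_of_irr ξ.2
  field_simp

theorem exists_nat_blockPart (B : Set (IrrCharacter G)) {F : G → ℂ} (hF : IsCharacter G F) :
    ∃ n : ℕ, blockPart B F 1 = (n : ℂ) := by
  classical
  have h1 : ∀ χ : IrrCharacter G, ∃ n : ℕ, (if χ ∈ B then
      @classInner G _ (Fintype.ofFinite G) F (χ : G → ℂ) * (χ : G → ℂ) 1 else 0) = (n : ℂ) := by
    intro χ
    split_ifs
    · obtain ⟨a, ha⟩ := classInner_isCharacter_nat hF (IsIrrCharacter.isCharacter χ.2)
      refine ⟨a * charDegree (χ : G → ℂ), ?_⟩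
      rw [classInner_fintype_irrel (Fintype.ofFinite G) ‹_›, ha, map_one_eq_charDegree (IsIrrCharacter.isCharacter χ.2)]
      push_cast
      rfl
    · exact ⟨0, by simp⟩
  choose n hn using h1
  refine ⟨∑ χ, n χ, ?_⟩
  show ∑ᶠ χ ∈ B, @classInner G _ (Fintype.ofFinite G) F (χ : G → ℂ) * (χ : G → ℂ) 1 = _
  rw [finsum_mem_irr]
  push_cast
  exact Finset.sum_congr rfl fun χ _ => hn χ

end Ind

end Cfsg.Agent.Lib.CharExtra
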