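import Cfsg.Agent.Lib.CharExtra.Fong
import Cfsg.Agent.Lib.CharExtra.PRegInd
import Cfsg.Agent.Lib.Block.DefectInd

/-!
# The Fong–Reynolds correspondence
-/

set_option autoImplicit false
set_option linter.unusedSectionVars false
set_option linter.unusedSimpArgs false
set_option linter.unusedVariables false

open scoped ComplexConjugate
open Cfsg MonoidAlgebra
open Cfsg.Agent.Lib.Block Cfsg.Agent.Lib.Char

namespace Cfsg.Agent.Lib.CharExtra

section Abstract

variable {G : Type*} [Group G] [Fintype G] (T : Subgroup G) [Fintype T]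

theorem tr_indFun_eq_sum (ξ : T → ℂ) (z : MonoidAlgebra ℂ G) :
    tr (indFun T ξ) z = (Nat.card T : ℂ)⁻¹ * ∑ x : G, tr ξ (resAlg T (conjElt x⁻¹ z)) := by
  classical
  have h1 : ∀ x : G, tr ξ (resAlg T (conjElt x⁻¹ z)) = ∑ g : G, z.coeff g * extendByZero T ξ (x⁻¹ * g * x) := by
    intro x
    unfold tr
    rw [← Equiv.sum_comp (MulAut.conj x).toEquiv (fun g : G => z.coeff g * extendByZero T ξ (x⁻¹ * g * x))]
    have h2 := sum_extendByZero_mul T ξ (fun g : G => z.coeff (x * g * x⁻¹))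
    have h3 : ∀ h : T, (resAlg T (conjElt x⁻¹ z)).coeff h * ξ h = ξ h * z.coeff (x * (h : G) * x⁻¹) := by
      intro h
      rw [coeff_resAlg, coeff_conjElt, inv_inv, mul_comm]
    simp only [h3]
    rw [← h2]
    refine Finset.sum_congr rfl fun g _ => ?_
    simp only [MulEquiv.toEquiv_eq_coe, EquivLike.coe_coe, MulAut.conj_apply]
    have h4 : x⁻¹ * (x * g * x⁻¹) * x = g := by group
    rw [h4, mul_comm]
  simp only [h1]
  unfold tr
  simp only [indFun_apply]
  rw [Finset.mul_sum]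
  simp only [Finset.mul_sum]
  rw [Finset.sum_comm]
  refine Finset.sum_congr rfl fun x _ => ?_
  refine Finset.sum_congr rfl fun g _ => ?_
  ring

theorem conjElt_mul_distrib (g : G) (y z : MonoidAlgebra ℂ G) :
    conjElt g (y * z) = conjElt g y * conjElt g z := by
  unfold conjElt
  have h : (MonoidAlgebra.single g⁻¹ (1 : ℂ)) * (MonoidAlgebra.single g (1 : ℂ)) = 1 := by
    rw [MonoidAlgebra.single_mul_single]
    simp [MonoidAlgebra.one_def]
  calc MonoidAlgebra.single g (1 : ℂ) * (y * z) * MonoidAlgebra.single g⁻¹ 1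
      = MonoidAlgebra.single g (1 : ℂ) * (y * 1 * z) * MonoidAlgebra.single g⁻¹ 1 := by rw [mul_one]
    _ = MonoidAlgebra.single g (1 : ℂ) * (y * (MonoidAlgebra.single g⁻¹ (1 : ℂ) * MonoidAlgebra.single g (1 : ℂ)) * z) * MonoidAlgebra.single g⁻¹ 1 := by rw [h]
    _ = _ := by simp only [mul_assoc]

theorem tr_resAlg_conjElt {t : G} (ht : t ∈ T) {ξ : T → ℂ} (hξ : IsClassFunction T ξ)
    (w : MonoidAlgebra ℂ G) : tr ξ (resAlg T (conjElt t w)) = tr ξ (resAlg T w) := by
  classical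
  unfold tr
  rw [← Equiv.sum_comp (MulAut.conj (⟨t, ht⟩ : T)).toEquiv]
  refine Finset.sum_congr rfl fun h _ => ?_
  simp only [MulEquiv.toEquiv_eq_coe, EquivLike.coe_coe, MulAut.conj_apply]
  rw [coeff_resAlg, coeff_resAlg, coeff_conjElt, hξ]
  congr 2
  simp only [Subgroup.coe_mul, InvMemClass.coe_inv]
  group

variable {T}
variable {O : Set (IrrCharacter T)}

/-- The key trace formula. -/
theorem tr_ind_star
    (hdisj : ∀ x : G, x ∉ T → incl T (blockElt O) * conjElt x⁻¹ (incl T (blockElt O)) = 0)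
    {ψ : IrrCharacter T} (hψ : ψ ∈ O) (y : MonoidAlgebra ℂ G) :
    tr (indFun T (ψ : T → ℂ)) (incl T (blockElt O) * y) = tr (ψ : T → ℂ) (resAlg T y) := by
  classical
  have hF : ∀ w, tr (ψ : T → ℂ) (blockElt O * w) = tr (ψ : T → ℂ) w := by
    intro w
    rw [tr_mul_central ψ.2 (isCentralElt_blockElt O), om_blockElt_of_mem hψ, one_mul]
  rw [tr_indFun_eq_sum]
  have key : ∀ x : G, tr (ψ : T → ℂ) (resAlg T (conjElt x⁻¹ (incl T (blockElt O) * y))) =
      extendByZero T (fun _ : T => tr (ψ : T → ℂ) (resAlg T y)) x := by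
    intro x
    by_cases hx : x ∈ T
    · rw [extendByZero_of_mem T _ hx, tr_resAlg_conjElt T (T.inv_mem hx)
        (IsCharacter.isClassFunction (IsIrrCharacter.isCharacter ψ.2)), resAlg_incl_mul, hF]
    · rw [extendByZero_of_not_mem T _ hx, conjElt_mul_distrib, ← hF, ← resAlg_incl_mul, ← mul_assoc,
        hdisj x hx, zero_mul, resAlg_zero, tr_zero]
  simp only [key]
  rw [sum_extendByZero]
  simp only [Finset.sum_const, Finset.card_univ, nsmul_eq_mul, Fintype.card_eq_nat_card]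
  have h2 : (Nat.card T : ℂ) ≠ 0 := card_subgroup_ne_zero T
  field_simp

theorem blockElt_mul_singleton {ψ : IrrCharacter T} (hψ : ψ ∈ O) :
    blockElt O * blockElt ({ψ} : Set (IrrCharacter T)) = blockElt ({ψ} : Set (IrrCharacter T)) := by
  classical
  apply central_ext_om (isCentralElt_mul (isCentralElt_blockElt _) (isCentralElt_blockElt _))
    (isCentralElt_blockElt _)
  intro χ
  rw [om_mul χ.2 (isCentralElt_blockElt _)]
  by_cases h : χ = ψ
  · rw [h, om_blockElt_of_mem hψ, one_mul]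
  · rw [om_blockElt_of_notMem (A := ({ψ} : Set (IrrCharacter T))) (by simpa using h), mul_zero]

/-- Inner products of restrictions of induced characters. -/
theorem classInner_ind_restrict
    (hdisj : ∀ x : G, x ∉ T → incl T (blockElt O) * conjElt x⁻¹ (incl T (blockElt O)) = 0)
    {ψ ψ' : IrrCharacter T} (hψ : ψ ∈ O) (hψ' : ψ' ∈ O) :
    classInner (fun h : T => indFun T (ψ : T → ℂ) h) (ψ' : T → ℂ) = if ψ = ψ' then 1 else 0 := by
  classical
  have h1 := tr_ind_star hdisj hψ (incl T (blockElt ({ψ'} : Set (IrrCharacter T))))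
  rw [← map_mul, blockElt_mul_singleton hψ', tr_incl, resAlg_incl, tr_blockElt] at h1
  have hcl : IsClassFunction T (fun h : T => indFun T (ψ : T → ℂ) h) := by
    intro g h
    have := indFun_isClassFunction T (ψ : T → ℂ) (g : G) (h : G)
    simpa using this
  have h2 := tr_blockElt_mul _ hcl ({ψ'} : Set (IrrCharacter T)) 1
  rw [mul_one, h1, Finset.sum_eq_single ψ'] at h2
  · rw [if_pos (Set.mem_singleton _), tr_one] at h2
    have hne := isIrr_one_ne_zero ψ'.2
    by_cases he : ψ = ψ'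
    · rw [if_pos he]
      rw [if_pos (by rw [he]; rfl)] at h2
      rw [he] at h2
      have : ((ψ' : T → ℂ) 1) * (classInner (fun h : T => indFun T (ψ : T → ℂ) h) (ψ' : T → ℂ) - 1) = 0 := by
        rw [he]
        linear_combination -h2
      rcases mul_eq_zero.1 this with h0 | h0
      · exact absurd h0 hne
      · exact sub_eq_zero.1 h0
    · rw [if_neg he]
      rw [if_neg (by simpa using he)] at h2
      rcases mul_eq_zero.1 h2.symm with h0 | h0
      · exact h0
      · exact absurd h0 hne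
  · intro b _ hb
    rw [if_neg (by simpa using hb)]
  · simp

theorem classInner_ind_ind
    (hdisj : ∀ x : G, x ∉ T → incl T (blockElt O) * conjElt x⁻¹ (incl T (blockElt O)) = 0)
    {ψ ψ' : IrrCharacter T} (hψ : ψ ∈ O) (hψ' : ψ' ∈ O) :
    classInner (indFun T (ψ' : T → ℂ)) (indFun T (ψ : T → ℂ)) = if ψ = ψ' then 1 else 0 := by
  classical
  rw [frobenius_reciprocity T _ _ (indFun_isClassFunction T _), ← conj_classInner,
    classInner_ind_restrict hdisj hψ hψ']
  split_ifs <;> simp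

theorem ind_isIrr
    (hdisj : ∀ x : G, x ∉ T → incl T (blockElt O) * conjElt x⁻¹ (incl T (blockElt O)) = 0)
    {ψ : IrrCharacter T} (hψ : ψ ∈ O) : IsIrrCharacter G (indFun T (ψ : T → ℂ)) := by
  apply isIrr_of_character_norm_one (indFun_isCharacter T (IsIrrCharacter.isCharacter ψ.2))
  rw [classInner_ind_ind hdisj hψ hψ, if_pos rfl]

theorem ind_injOn
    (hdisj : ∀ x : G, x ∉ T → incl T (blockElt O) * conjElt x⁻¹ (incl T (blockElt O)) = 0)
    {ψ ψ' : IrrCharacter T} (hψ : ψ ∈ O) (hψ' : ψ' ∈ O)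
    (h : indFun T (ψ : T → ℂ) = indFun T (ψ' : T → ℂ)) : ψ = ψ' := by
  classical
  by_contra hne
  have h1 := classInner_ind_ind hdisj hψ hψ'
  rw [if_neg hne, ← h, classInner_irr_self (ind_isIrr hdisj hψ)] at h1
  exact one_ne_zero h1

/-- A character with a constituent in `O` on restriction is induced from it. -/
theorem eq_ind_of_constituent
    (hdisj : ∀ x : G, x ∉ T → incl T (blockElt O) * conjElt x⁻¹ (incl T (blockElt O)) = 0)
    {ψ : IrrCharacter T} (hψ : ψ ∈ O) {χ : IrrCharacter G}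
    (h : classInner (fun h : T => (χ : G → ℂ) h) (ψ : T → ℂ) ≠ 0) :
    (χ : G → ℂ) = indFun T (ψ : T → ℂ) := by
  classical
  by_contra hne
  have h1 := classInner_irr_of_ne (ind_isIrr hdisj hψ) χ.2 (Ne.symm hne)
  rw [frobenius_reciprocity T _ _ (IsCharacter.isClassFunction (IsIrrCharacter.isCharacter χ.2)),
    ← conj_classInner] at h1
  apply h
  simpa using h1

/-- The central character of an induced character. -/
theorem centralChar_ind (ξ : IrrCharacter T) (g : G) :
    centralChar (indFun T (ξ : T → ℂ)) g = inducedCentralChar T (ξ : T → ℂ) g := by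
  rw [← om_classSum (indFun_isClassFunction T _) g, ← om_resAlg_classSum]
  unfold om
  rw [tr_indFun T _ (isCentralElt_classSum g), indFun_one]
  have h1 : (T.index : ℂ) ≠ 0 := by exact_mod_cast Subgroup.index_ne_zero_of_finite
  have h2 := isIrr_one_ne_zero ξ.2
  field_simp

theorem memLocalIdeal_inducedCentralChar_sub {M : Ideal AlgInt} [M.IsPrime] {ξ ξ' : IrrCharacter T}
    (h : SameBlock M (ξ : T → ℂ) (ξ' : T → ℂ)) (g : G) :
    MemLocalIdeal M (inducedCentralChar T (ξ : T → ℂ) g - inducedCentralChar T (ξ' : T → ℂ) g) := by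
  rw [← om_resAlg_classSum, ← om_resAlg_classSum]
  exact memLocalIdeal_om_sub ξ.2 ξ'.2 h (isCentralElt_resAlg T (isCentralElt_classSum g))
    (localCoeff_resAlg T (localCoeff_classSum g))

open Classical in
theorem coeff_incl_blockElt (U : Set (IrrCharacter T)) (h : G) :
    (incl T (blockElt U)).coeff h = (Nat.card T : ℂ)⁻¹ *
      ∑ ψ : IrrCharacter T, if ψ ∈ U then (ψ : T → ℂ) 1 * conj (extendByZero T (ψ : T → ℂ) h) else 0 := by
  classical
  by_cases hh : h ∈ T
  · have := coeff_incl_coe T (blockElt U) ⟨h, hh⟩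
    simp only at this
    rw [this, coeff_blockElt, blockCoeff_eq_sum]
    congr 1
    refine Finset.sum_congr rfl fun ψ _ => ?_
    rw [extendByZero_of_mem T _ hh]
  · rw [coeff_incl_of_notMem T _ hh]
    simp [extendByZero_of_not_mem T _ hh]

/-- The set of induced characters. -/
def indSetOf (U : Set (IrrCharacter T)) : Set (IrrCharacter G) :=
  {χ | ∃ ψ ∈ U, (χ : G → ℂ) = indFun T (ψ : T → ℂ)}

theorem blockCoeff_indSetOf
    (hdisj : ∀ x : G, x ∉ T → incl T (blockElt O) * conjElt x⁻¹ (incl T (blockElt O)) = 0)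
    {U : Set (IrrCharacter T)} (hU : U ⊆ O) (g : G) :
    blockCoeff (indSetOf U : Set (IrrCharacter G)) g = (Nat.card T : ℂ)⁻¹ *
      ∑ x : G, (incl T (blockElt U)).coeff (x⁻¹ * g * x) := by
  classical
  rw [blockCoeff_eq_sum]
  have h1 : ∑ χ : IrrCharacter G, (if χ ∈ (indSetOf U : Set (IrrCharacter G)) then
        (χ : G → ℂ) 1 * conj ((χ : G → ℂ) g) else 0) =
      ∑ ψ : IrrCharacter T, if ψ ∈ U then
        indFun T (ψ : T → ℂ) 1 * conj (indFun T (ψ : T → ℂ) g) else 0 := by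
    rw [← Finset.sum_filter, ← Finset.sum_filter]
    symm
    refine Finset.sum_bij (fun ψ hψ => (⟨indFun T (ψ : T → ℂ),
      ind_isIrr hdisj (hU (Finset.mem_filter.1 hψ).2)⟩ : IrrCharacter G)) ?_ ?_ ?_ ?_
    · intro ψ hψ
      exact Finset.mem_filter.2 ⟨Finset.mem_univ _, ψ, (Finset.mem_filter.1 hψ).2, rfl⟩
    · intro ψ hψ ψ' hψ' h
      exact ind_injOn hdisj (hU (Finset.mem_filter.1 hψ).2) (hU (Finset.mem_filter.1 hψ').2)
        (congrArg Subtype.val h)
    · intro χ hχ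
      obtain ⟨ψ, hψ, hc⟩ := (Finset.mem_filter.1 hχ).2
      exact ⟨ψ, Finset.mem_filter.2 ⟨Finset.mem_univ _, hψ⟩, Subtype.ext hc.symm⟩
    · intro ψ hψ
      rfl
  rw [h1]
  have hidx : (Nat.card G : ℂ)⁻¹ * (T.index : ℂ) = (Nat.card T : ℂ)⁻¹ := by
    have h2 := Subgroup.card_mul_index T
    have h3 : (Nat.card G : ℂ) = (Nat.card T : ℂ) * (T.index : ℂ) := by exact_mod_cast h2.symm
    have h4 : (Nat.card T : ℂ) ≠ 0 := card_subgroup_ne_zero T
    have h5 : (T.index : ℂ) ≠ 0 := by exact_mod_cast Subgroup.index_ne_zero_of_finite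
    rw [h3]
    field_simp
  have h6 : ∀ ψ : IrrCharacter T, (if ψ ∈ U then indFun T (ψ : T → ℂ) 1 * conj (indFun T (ψ : T → ℂ) g) else 0) =
      (T.index : ℂ) * (Nat.card T : ℂ)⁻¹ * ∑ x : G, (if ψ ∈ U then (ψ : T → ℂ) 1 *
        conj (extendByZero T (ψ : T → ℂ) (x⁻¹ * g * x)) else 0) := by
    intro ψ
    by_cases hψ : ψ ∈ U
    · simp only [if_pos hψ, ← Finset.mul_sum]
      rw [indFun_one, indFun_apply, map_mul, map_inv₀, map_natCast, map_sum]
      ring
    · simp [if_neg hψ]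
  simp only [h6, coeff_incl_blockElt]
  rw [← Finset.mul_sum, ← mul_assoc, ← mul_assoc, hidx, Finset.sum_comm, ← Finset.mul_sum]
  ring

theorem sum_eq_card_mul_sum_quotient [Fintype (G ⧸ T)] (f : G → ℂ) (hf : ∀ x : G, ∀ t ∈ T, f (x * t) = f x) :
    (Nat.card T : ℂ)⁻¹ * ∑ x : G, f x = ∑ q : G ⧸ T, f q.out := by
  classical
  have hbij : Function.Bijective (fun a : (G ⧸ T) × T => a.1.out * (a.2 : G)) := by
    constructor
    · rintro ⟨q, t⟩ ⟨q', t'⟩ h
      simp only at h
      have h1 : (QuotientGroup.mk (q.out * (t : G)) : G ⧸ T) = QuotientGroup.mk (q'.out * (t' : G)) := by rw [h]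
      have h2 : ∀ (r : G ⧸ T) (u : T), (QuotientGroup.mk (r.out * (u : G)) : G ⧸ T) = r := by
        intro r u
        rw [QuotientGroup.mk_mul_of_mem _ u.2]
        exact QuotientGroup.out_eq' r
      rw [h2, h2] at h1
      subst h1
      have h3 : (t : G) = t' := mul_left_cancel h
      rw [Subtype.ext h3]
    · intro x
      refine ⟨(QuotientGroup.mk x, ⟨(QuotientGroup.mk x : G ⧸ T).out⁻¹ * x, ?_⟩), ?_⟩
      · have h1 : ((QuotientGroup.mk x : G ⧸ T).out : G ⧸ T) = QuotientGroup.mk x := QuotientGroup.out_eq' _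
        exact QuotientGroup.eq.1 h1
      · simp
  rw [← hbij.sum_comp, Fintype.sum_prod_type]
  have h2 : ∀ q : G ⧸ T, ∑ t : T, f (q.out * (t : G)) = (Nat.card T : ℂ) * f q.out := by
    intro q
    have h3 : ∀ t : T, f (q.out * (t : G)) = f q.out := fun t => hf _ _ t.2
    simp only [h3, Finset.sum_const, Finset.card_univ, nsmul_eq_mul,
      Fintype.card_eq_nat_card]
  simp only [h2]
  rw [← Finset.mul_sum, ← mul_assoc, inv_mul_cancel₀ (card_subgroup_ne_zero T), one_mul]

theorem coeff_incl_conj_of_central {e : MonoidAlgebra ℂ T} (he : IsCentralElt e) (t : G) (ht : t ∈ T) (h : G) :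
    (incl T e).coeff (t⁻¹ * h * t) = (incl T e).coeff h := by
  by_cases hh : h ∈ T
  · have e1 := coeff_incl_coe T e ⟨h, hh⟩
    have e2 := coeff_incl_coe T e (⟨t, ht⟩⁻¹ * ⟨h, hh⟩ * ⟨t, ht⟩)
    simp only [Subgroup.coe_mul, InvMemClass.coe_inv] at e1 e2
    rw [e1, e2]
    have := he (⟨t, ht⟩⁻¹) ⟨h, hh⟩
    simpa using this
  · rw [coeff_incl_of_notMem T e hh, coeff_incl_of_notMem T e]
    intro hc
    apply hh
    have := T.mul_mem (T.mul_mem ht hc) (T.inv_mem ht)
    simpa [mul_assoc] using this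

theorem isBlockUnion_indSetOf {M : Ideal AlgInt} [M.IsPrime]
    (hdisj : ∀ x : G, x ∉ T → incl T (blockElt O) * conjElt x⁻¹ (incl T (blockElt O)) = 0)
    {U : Set (IrrCharacter T)} (hU : U ⊆ O) (hU' : IsBlockUnion M U) :
    IsBlockUnion M (indSetOf U : Set (IrrCharacter G)) := by
  classical
  haveI := Fintype.ofFinite (G ⧸ T)
  apply isBlockUnion_of_localCoeff
  intro g
  rw [coeff_blockElt, blockCoeff_indSetOf hdisj hU, sum_eq_card_mul_sum_quotient
    (fun x => (incl T (blockElt U)).coeff (x⁻¹ * g * x))]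
  · apply memLocalRing_sum
    intro q _
    exact localCoeff_incl T (localCoeff_blockElt hU') _
  · intro x t ht
    have h1 : (x * t)⁻¹ * g * (x * t) = t⁻¹ * (x⁻¹ * g * x) * t := by group
    show (incl T (blockElt U)).coeff ((x * t)⁻¹ * g * (x * t)) = _
    rw [h1, coeff_incl_conj_of_central (isCentralElt_blockElt U) t ht]

/-- Blocks inside `O` induce. -/
theorem fr_induced {M : Ideal AlgInt} [M.IsPrime]
    (hdisj : ∀ x : G, x ∉ T → incl T (blockElt O) * conjElt x⁻¹ (incl T (blockElt O)) = 0)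
    {B' : Set (IrrCharacter T)} (hB' : IsPBlock M B') (hB'O : B' ⊆ O) {ψ₀ : IrrCharacter T}
    (hψ₀ : ψ₀ ∈ B') :
    IsInducedBlock M T B' (blockOf M (indFun T (ψ₀ : T → ℂ))) ∧
      IsPBlock M (blockOf M (indFun T (ψ₀ : T → ℂ)) : Set (IrrCharacter G)) ∧
      (∀ χ : IrrCharacter G, χ ∈ (blockOf M (indFun T (ψ₀ : T → ℂ)) : Set (IrrCharacter G)) ↔
        ∃ ψ ∈ B', (χ : G → ℂ) = indFun T (ψ : T → ℂ)) := by
  classical
  set χ₀ : IrrCharacter G := ⟨indFun T (ψ₀ : T → ℂ), ind_isIrr hdisj (hB'O hψ₀)⟩ with hχ₀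
  have hχ₀c : (χ₀ : G → ℂ) = indFun T (ψ₀ : T → ℂ) := rfl
  have hbl : IsPBlock M (blockOf M (indFun T (ψ₀ : T → ℂ)) : Set (IrrCharacter G)) := ⟨χ₀, rfl⟩
  refine ⟨⟨hB', hbl, ?_⟩, hbl, ?_⟩
  · intro ξ hξ χ hχ g
    have h1 := memLocalIdeal_inducedCentralChar_sub (sameBlock_of_mem hB' hξ hψ₀) g
    rw [← centralChar_ind ψ₀ g] at h1
    exact memLocalIdeal_sub_trans h1 (hχ g)
  · intro χ
    constructor
    · intro hχ
      by_contra hcon
      have hU := isBlockUnion_indSetOf hdisj hB'O (isBlockUnion_of_isPBlock (M := M) hB')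
      exact hU χ₀ ⟨ψ₀, hψ₀, rfl⟩ χ hcon hχ
    · rintro ⟨ψ, hψ, hc⟩
      show SameBlock M _ _
      rw [hc]
      intro g
      rw [centralChar_ind ψ₀ g, centralChar_ind ψ g]
      exact memLocalIdeal_inducedCentralChar_sub (sameBlock_of_mem hB' hψ₀ hψ) g

end Abstract

section Transport

variable {G : Type*} [Group G] [Fintype G] {N T : Subgroup G} [hN : N.Normal] [Fintype N] [Fintype T]
  (hNT : N ≤ T)

/-- Characters of `T` lying over a set of characters of `N ≤ T`. -/
def OverIn (b : Set (IrrCharacter N)) : Set (IrrCharacter T) :=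
  {ψ | ∃ θ ∈ b, classInner (fun n : N => (ψ : T → ℂ) ⟨(n : G), hNT n.2⟩) (θ : N → ℂ) ≠ 0}

/-- Inverse of `transIrr`. -/
noncomputable def untransIrr (θ' : IrrCharacter (N.subgroupOf T)) : IrrCharacter N :=
  ⟨(θ' : N.subgroupOf T → ℂ) ∘ (Subgroup.subgroupOfEquivOfLe hNT).symm, isIrr_comp_equiv _ θ'.2⟩

theorem trans_untrans (θ' : IrrCharacter (N.subgroupOf T)) :
    transIrr N T hNT (untransIrr hNT θ') = θ' := by
  apply Subtype.ext
  funext x
  simp [transIrr, untransIrr]

theorem untrans_trans (θ : IrrCharacter N) :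
    untransIrr hNT (transIrr N T hNT θ) = θ := by
  apply Subtype.ext
  funext x
  simp [transIrr, untransIrr]

theorem transIrr_conj (t : T) (θ : IrrCharacter N) :
    conjIrr (N.subgroupOf T) t (transIrr N T hNT θ) = transIrr N T hNT (conjIrr N (t : G) θ) :=
  rfl

variable [Fintype (N.subgroupOf T)]

theorem classInner_transIrr (ψ : IrrCharacter T) (θ : IrrCharacter N) :
    classInner (fun n : N.subgroupOf T => (ψ : T → ℂ) n) (transIrr N T hNT θ : N.subgroupOf T → ℂ) =
      classInner (fun n : N => (ψ : T → ℂ) ⟨(n : G), hNT n.2⟩) (θ : N → ℂ) :=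
  classInner_comp_equiv (Subgroup.subgroupOfEquivOfLe hNT)
    (fun n : N => (ψ : T → ℂ) ⟨(n : G), hNT n.2⟩) (θ : N → ℂ)

theorem overSet_image_transIrr (b : Set (IrrCharacter N)) :
    overSet (N.subgroupOf T) (transIrr N T hNT '' b) = OverIn hNT b := by
  ext ψ
  constructor
  · rintro ⟨_, ⟨θ, hθ, rfl⟩, hc⟩
    exact ⟨θ, hθ, by rwa [classInner_transIrr] at hc⟩
  · rintro ⟨θ, hθ, hc⟩
    exact ⟨_, ⟨θ, hθ, rfl⟩, by rwa [classInner_transIrr]⟩

theorem isStable_image_transIrr {b : Set (IrrCharacter N)}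
    (hst : ∀ t ∈ T, ∀ θ ∈ b, conjIrr N t θ ∈ b) :
    IsStable (N.subgroupOf T) (transIrr N T hNT '' b) := by
  rintro t _ ⟨θ, hθ, rfl⟩
  exact ⟨_, hst t t.2 θ hθ, (transIrr_conj hNT t θ).symm⟩

theorem isBlockUnion_image_transIrr {M : Ideal AlgInt} [M.IsPrime] {b : Set (IrrCharacter N)}
    (hb : IsBlockUnion M b) : IsBlockUnion M (transIrr N T hNT '' b) := by
  rintro _ ⟨θ, hθ, rfl⟩ θ' hθ' h
  have h1 := sameBlock_comp_equiv (Subgroup.subgroupOfEquivOfLe hNT).symm h
  refine hb θ hθ (untransIrr hNT θ') ?_ ?_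
  · intro hc
    apply hθ'
    exact ⟨_, hc, trans_untrans hNT θ'⟩
  · have h2 : ((transIrr N T hNT θ : IrrCharacter (N.subgroupOf T)) : N.subgroupOf T → ℂ) ∘
        (Subgroup.subgroupOfEquivOfLe hNT).symm = (θ : N → ℂ) := by
      funext x
      simp [transIrr]
    rw [h2] at h1
    exact h1

theorem blockCoeff_image_transIrr (b : Set (IrrCharacter N)) (x : N.subgroupOf T) :
    blockCoeff (transIrr N T hNT '' b) x = blockCoeff b ⟨((x : T) : G), x.2⟩ := by
  classical
  rw [blockCoeff_eq_sum, blockCoeff_eq_sum]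
  have hcard : Nat.card (N.subgroupOf T) = Nat.card N :=
    Nat.card_congr (Subgroup.subgroupOfEquivOfLe hNT).toEquiv
  rw [hcard]
  congr 1
  refine Finset.sum_bij' (fun θ' _ => untransIrr hNT θ') (fun θ _ => transIrr N T hNT θ) (by simp)
    (by simp) (fun θ' _ => trans_untrans hNT θ') (fun θ _ => untrans_trans hNT θ) ?_
  intro θ' _
  have h1 : θ' ∈ transIrr N T hNT '' b ↔ untransIrr hNT θ' ∈ b := by
    constructor
    · rintro ⟨θ, hθ, rfl⟩
      rwa [untrans_trans]
    · intro h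
      exact ⟨_, h, trans_untrans hNT θ'⟩
  by_cases hθ' : θ' ∈ transIrr N T hNT '' b
  · rw [if_pos hθ', if_pos (h1.1 hθ')]
    have e1 : (untransIrr hNT θ' : N → ℂ) 1 = (θ' : N.subgroupOf T → ℂ) 1 := by
      simp [untransIrr]
    have e2 : (untransIrr hNT θ' : N → ℂ) ⟨((x : T) : G), x.2⟩ = (θ' : N.subgroupOf T → ℂ) x := by
      show (θ' : N.subgroupOf T → ℂ) ((Subgroup.subgroupOfEquivOfLe hNT).symm ⟨((x : T) : G), x.2⟩) = _
      congr 1
    rw [e1, e2]
  · rw [if_neg hθ', if_neg (fun h => hθ' (h1.2 h))]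

theorem incl_incl_transIrr (b : Set (IrrCharacter N)) :
    incl T (incl (N.subgroupOf T) (blockElt (transIrr N T hNT '' b))) = incl N (blockElt b) := by
  apply ext_coeff
  intro g
  by_cases hg : g ∈ N
  · have h1 := coeff_incl_coe N (blockElt b) ⟨g, hg⟩
    have h2 := coeff_incl_coe T (incl (N.subgroupOf T) (blockElt (transIrr N T hNT '' b))) ⟨g, hNT hg⟩
    have h3 := coeff_incl_coe (N.subgroupOf T) (blockElt (transIrr N T hNT '' b)) ⟨⟨g, hNT hg⟩, hg⟩
    simp only at h1 h2 h3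
    rw [h1, h2, h3, coeff_blockElt, coeff_blockElt, blockCoeff_image_transIrr]
  · rw [coeff_incl_of_notMem N _ hg]
    by_cases hg2 : g ∈ T
    · have h2 := coeff_incl_coe T (incl (N.subgroupOf T) (blockElt (transIrr N T hNT '' b))) ⟨g, hg2⟩
      simp only at h2
      rw [h2, coeff_incl_of_notMem _ _ (by simpa [Subgroup.mem_subgroupOf] using hg)]
    · rw [coeff_incl_of_notMem T _ hg2]

omit [Fintype (N.subgroupOf T)] in
theorem incl_blockElt_overIn {b : Set (IrrCharacter N)} (hst : ∀ t ∈ T, ∀ θ ∈ b, conjIrr N t θ ∈ b) :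
    incl T (blockElt (OverIn hNT b)) = incl N (blockElt b) := by
  classical
  haveI : Fintype (N.subgroupOf T) := Fintype.ofFinite _
  rw [← overSet_image_transIrr, ← incl_blockElt_eq_over _ (isStable_image_transIrr hNT hst),
    incl_incl_transIrr]

omit [Fintype (N.subgroupOf T)] in
theorem isBlockUnion_overIn {M : Ideal AlgInt} [M.IsPrime] {b : Set (IrrCharacter N)}
    (hst : ∀ t ∈ T, ∀ θ ∈ b, conjIrr N t θ ∈ b) (hb : IsBlockUnion M b) :
    IsBlockUnion M (OverIn hNT b : Set (IrrCharacter T)) := by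
  classical
  haveI : Fintype (N.subgroupOf T) := Fintype.ofFinite _
  rw [← overSet_image_transIrr]
  exact isBlockUnion_over _ (isStable_image_transIrr hNT hst) (isBlockUnion_image_transIrr hNT hb)

omit [Fintype (N.subgroupOf T)] in
theorem conjElt_incl_blockElt (x : G) (b : Set (IrrCharacter N)) :
    conjElt x⁻¹ (incl N (blockElt b)) = incl N (blockElt (blockConj N x⁻¹ b)) := by
  apply ext_coeff
  intro h
  rw [coeff_conjElt, inv_inv]
  by_cases hh : h ∈ N
  · have h1 := coeff_incl_coe N (blockElt (blockConj N x⁻¹ b)) ⟨h, hh⟩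
    have h2 : x * h * x⁻¹ ∈ N := hN.conj_mem h hh x
    have h3 := coeff_incl_coe N (blockElt b) ⟨x * h * x⁻¹, h2⟩
    simp only at h1 h3
    rw [h1, h3, coeff_blockElt, coeff_blockElt, blockCoeff_blockConj]
    simp
  · have h2 : x * h * x⁻¹ ∉ N := fun hc => hh (by
      have := hN.conj_mem _ hc x⁻¹
      simpa [mul_assoc] using this)
    rw [coeff_incl_of_notMem N _ hh, coeff_incl_of_notMem N _ h2]

omit [Fintype (N.subgroupOf T)] in
theorem blockElt_mul_eq_zero_of_disjoint {A A' : Set (IrrCharacter N)} (h : ∀ θ ∈ A, θ ∉ A') :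
    blockElt A * blockElt A' = 0 := by
  classical
  apply central_ext_om (isCentralElt_mul (isCentralElt_blockElt _) (isCentralElt_blockElt _))
    isCentralElt_zero
  intro χ
  rw [om_mul χ.2 (isCentralElt_blockElt _), om_zero]
  by_cases hχ : χ ∈ A
  · rw [om_blockElt_of_notMem (h χ hχ), mul_zero]
  · rw [om_blockElt_of_notMem hχ, zero_mul]

omit [Fintype (N.subgroupOf T)] in
/-- The disjointness hypothesis of the abstract theorem. -/
theorem hdisj_overIn {M : Ideal AlgInt} [M.IsPrime] {b : Set (IrrCharacter N)} (hb : IsPBlock M b)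
    (hT : ∀ g : G, g ∈ T ↔ ∀ θ ∈ b, conjIrr N g θ ∈ b) (x : G) (hx : x ∉ T) :
    incl T (blockElt (OverIn hNT b)) * conjElt x⁻¹ (incl T (blockElt (OverIn hNT b))) = 0 := by
  classical
  have hst : ∀ t ∈ T, ∀ θ ∈ b, conjIrr N t θ ∈ b := fun t ht => (hT t).1 ht
  rw [incl_blockElt_overIn hNT hst, conjElt_incl_blockElt, ← map_mul,
    blockElt_mul_eq_zero_of_disjoint, map_zero]
  intro θ hθ hc
  rw [mem_blockConj] at hc
  have hx' : x⁻¹ ∉ T := fun h => hx (by simpa using T.inv_mem h)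
  apply hx'
  rw [hT]
  intro θ₁ hθ₁
  have h1 := sameBlock_of_mem hb hθ hθ₁
  have h2 := sameBlock_conjIrr N x⁻¹ h1
  have hmem : IsBlockUnion M b := isBlockUnion_of_isPBlock hb
  by_contra hcon
  exact hmem _ hc _ hcon h2

omit [Fintype (N.subgroupOf T)] in
/-- Trace of an element supported on `N`, via `T`. -/
theorem tr_resAlg_incl_le (ψ : T → ℂ) (w : MonoidAlgebra ℂ N) :
    tr ψ (resAlg T (incl N w)) = tr (fun n : N => ψ ⟨(n : G), hNT n.2⟩) w := by
  classical
  unfold tr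
  have h1 : ∑ g : G, (if h : g ∈ T then (incl N w).coeff g * ψ ⟨g, h⟩ else 0) =
      ∑ h : T, (resAlg T (incl N w)).coeff h * ψ h := by
    rw [sum_eq_sum_subgroup T _ (fun k hk => by rw [dif_neg hk])]
    refine Finset.sum_congr rfl fun h _ => ?_
    rw [dif_pos h.2, coeff_resAlg]
  have h2 : ∑ g : G, (if h : g ∈ T then (incl N w).coeff g * ψ ⟨g, h⟩ else 0) =
      ∑ n : N, w.coeff n * ψ ⟨(n : G), hNT n.2⟩ := by
    rw [sum_eq_sum_subgroup N _ (fun k hk => by
      by_cases h : k ∈ T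
      · rw [dif_pos h, coeff_incl_of_notMem N _ hk, zero_mul]
      · rw [dif_neg h])]
    refine Finset.sum_congr rfl fun n _ => ?_
    rw [dif_pos (hNT n.2), coeff_incl_coe]
  rw [← h1, h2]

omit [Fintype (N.subgroupOf T)] in
theorem classInner_ind_restrict_N {b : Set (IrrCharacter N)}
    (hst : ∀ t ∈ T, ∀ θ ∈ b, conjIrr N t θ ∈ b)
    (hdisj : ∀ x : G, x ∉ T → incl T (blockElt (OverIn hNT b)) *
      conjElt x⁻¹ (incl T (blockElt (OverIn hNT b))) = 0)
    {ψ : IrrCharacter T} (hψ : ψ ∈ OverIn hNT b) {θ : IrrCharacter N} (hθ : θ ∈ b) :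
    classInner (fun n : N => indFun T (ψ : T → ℂ) n) (θ : N → ℂ) =
      classInner (fun n : N => (ψ : T → ℂ) ⟨(n : G), hNT n.2⟩) (θ : N → ℂ) := by
  classical
  have h1 := tr_ind_star hdisj hψ (incl N (blockElt ({θ} : Set (IrrCharacter N))))
  rw [incl_blockElt_overIn hNT hst, ← map_mul, blockElt_mul_singleton hθ, tr_incl,
    tr_resAlg_incl_le hNT] at h1
  have hcl1 : IsClassFunction N (fun n : N => indFun T (ψ : T → ℂ) n) := by
    intro g h
    have := indFun_isClassFunction T (ψ : T → ℂ) (g : G) (h : G)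
    simpa using this
  have hcl2 : IsClassFunction N (fun n : N => (ψ : T → ℂ) ⟨(n : G), hNT n.2⟩) := by
    intro g h
    have := IsCharacter.isClassFunction (IsIrrCharacter.isCharacter ψ.2) ⟨(g : G), hNT g.2⟩ ⟨(h : G), hNT h.2⟩
    exact this
  have e1 := tr_blockElt_mul _ hcl1 ({θ} : Set (IrrCharacter N)) 1
  have e2 := tr_blockElt_mul _ hcl2 ({θ} : Set (IrrCharacter N)) 1
  rw [mul_one] at e1 e2
  rw [h1, e2] at e1
  rw [Finset.sum_eq_single θ (fun b _ hb => by rw [if_neg (by simpa using hb)]) (by simp),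
    Finset.sum_eq_single θ (fun b _ hb => by rw [if_neg (by simpa using hb)]) (by simp),
    if_pos (Set.mem_singleton _), if_pos (Set.mem_singleton _), tr_one] at e1
  have hne := isIrr_one_ne_zero θ.2
  exact (mul_right_cancel₀ hne e1).symm

omit [Fintype (N.subgroupOf T)] in
/-- Transitivity: a constituent of `χ|N` is a constituent of a constituent of `χ|T`. -/
theorem exists_constituent_between (hNT : N ≤ T) (χ : IrrCharacter G) {θ : N → ℂ}
    (h : classInner (fun n : N => (χ : G → ℂ) n) θ ≠ 0) :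
    ∃ ψ : IrrCharacter T, classInner (fun t : T => (χ : G → ℂ) t) (ψ : T → ℂ) ≠ 0 ∧
      classInner (fun n : N => (ψ : T → ℂ) ⟨(n : G), hNT n.2⟩) θ ≠ 0 := by
  classical
  have hcl : IsClassFunction T (fun t : T => (χ : G → ℂ) t) := by
    intro g h
    have := IsCharacter.isClassFunction (IsIrrCharacter.isCharacter χ.2) (g : G) (h : G)
    simpa using this
  have h1 := classFunction_eq_sum _ hcl
  have h2 : (fun n : N => (χ : G → ℂ) n) = ∑ ψ : IrrCharacter T,
      classInner (fun t : T => (χ : G → ℂ) t) (ψ : T → ℂ) •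
        (fun n : N => (ψ : T → ℂ) ⟨(n : G), hNT n.2⟩) := by
    funext n
    have := congrFun h1 ⟨(n : G), hNT n.2⟩
    simp only [Finset.sum_apply, Pi.smul_apply] at this ⊢
    exact this
  rw [h2, classInner_sum_left] at h
  obtain ⟨ψ, _, hψ⟩ := Finset.exists_ne_zero_of_sum_ne_zero h
  rw [classInner_smul_left] at hψ
  exact ⟨ψ, left_ne_zero_of_mul hψ, right_ne_zero_of_mul hψ⟩

end Transport

section Main

variable {G : Type*} [Group G] [Fintype G] {M : Ideal AlgInt} [hMp : M.IsPrime]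
  {T : Subgroup G} [Fintype T] {O : Set (IrrCharacter T)}

theorem block_subset_of_mem (hO : IsBlockUnion M O) {B' : Set (IrrCharacter T)} (hB' : IsPBlock M B')
    {ψ₀ : IrrCharacter T} (h1 : ψ₀ ∈ B') (h2 : ψ₀ ∈ O) : B' ⊆ O := by
  intro ψ hψ
  by_contra hcon
  exact hO ψ₀ h2 ψ hcon (sameBlock_of_mem hB' h1 hψ)

/-- Induced characters lie in the induced block. -/
theorem ind_mem_of_induced {B' : Set (IrrCharacter T)} {B : Set (IrrCharacter G)}
    (hind : IsInducedBlock M T B' B) {ψ : IrrCharacter T} (hψ : ψ ∈ B') {χ : IrrCharacter G}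
    (hχ : (χ : G → ℂ) = indFun T (ψ : T → ℂ)) : χ ∈ B := by
  obtain ⟨-, hB, hcong⟩ := hind
  obtain ⟨χ₁, hχ₁⟩ := IsPBlock_nonempty hB
  rw [blockOf_eq_of_mem hB hχ₁]
  show SameBlock M _ _
  intro g
  rw [hχ, centralChar_ind ψ g]
  exact memLocalIdeal_sub_comm.1 (hcong ψ hψ χ₁ hχ₁ g)

/-- The block of `T` is recovered from the induced block. -/
theorem eq_of_induced_of_ind_mem
    (hdisj : ∀ x : G, x ∉ T → incl T (blockElt O) * conjElt x⁻¹ (incl T (blockElt O)) = 0)
    {B'₁ B'₂ : Set (IrrCharacter T)} (h₁ : IsPBlock M B'₁) (h₂ : IsPBlock M B'₂)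
    (h₁O : B'₁ ⊆ O) (h₂O : B'₂ ⊆ O) {B : Set (IrrCharacter G)}
    (hi₁ : IsInducedBlock M T B'₁ B) (hi₂ : IsInducedBlock M T B'₂ B) : B'₁ = B'₂ := by
  classical
  obtain ⟨ψ₁, hψ₁⟩ := IsPBlock_nonempty h₁
  obtain ⟨ψ₂, hψ₂⟩ := IsPBlock_nonempty h₂
  set χ₁ : IrrCharacter G := ⟨indFun T (ψ₁ : T → ℂ), ind_isIrr hdisj (h₁O hψ₁)⟩
  set χ₂ : IrrCharacter G := ⟨indFun T (ψ₂ : T → ℂ), ind_isIrr hdisj (h₂O hψ₂)⟩
  have m₁ : χ₁ ∈ B := ind_mem_of_induced hi₁ hψ₁ rfl
  have m₂ : χ₂ ∈ B := ind_mem_of_induced hi₂ hψ₂ rfl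
  have hU := isBlockUnion_indSetOf hdisj h₁O (isBlockUnion_of_isPBlock (M := M) h₁)
  have m₃ : χ₂ ∈ (indSetOf B'₁ : Set (IrrCharacter G)) := by
    by_contra hcon
    exact hU χ₁ ⟨ψ₁, hψ₁, rfl⟩ χ₂ hcon (sameBlock_of_mem hi₁.2.1 m₁ m₂)
  obtain ⟨ψ, hψ, hc⟩ := m₃
  have : ψ₂ = ψ := ind_injOn hdisj (h₂O hψ₂) (h₁O hψ) hc
  subst this
  rw [blockOf_eq_of_mem h₁ hψ, blockOf_eq_of_mem h₂ hψ₂]

theorem charDegree_ind (ψ : IrrCharacter T) :
    charDegree (indFun T (ψ : T → ℂ)) = T.index * charDegree (ψ : T → ℂ) := by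
  apply charDegree_natCast
  rw [indFun_one, map_one_eq_charDegree (IsIrrCharacter.isCharacter ψ.2)]
  push_cast
  ring

theorem sInf_image_add {X : Type*} {S : Set X} (hS : S.Nonempty) (c : ℕ) (f : X → ℕ) :
    sInf ((fun x => c + f x) '' S) = c + sInf (f '' S) := by
  obtain ⟨x, hx, hmin⟩ : ∃ x ∈ S, f x = sInf (f '' S) := by
    have := Nat.sInf_mem (hS.image f)
    obtain ⟨x, hx, h⟩ := this
    exact ⟨x, hx, h⟩
  apply le_antisymm
  · rw [← hmin]
    exact Nat.sInf_le ⟨x, hx, rfl⟩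
  · obtain ⟨y, hy, h⟩ := Nat.sInf_mem (hS.image (fun x => c + f x))
    rw [← h]
    have : sInf (f '' S) ≤ f y := Nat.sInf_le ⟨y, hy, rfl⟩
    simpa using this

variable {p : ℕ} [hp : Fact p.Prime]

theorem sInf_indSetOf
    (hdisj : ∀ x : G, x ∉ T → incl T (blockElt O) * conjElt x⁻¹ (incl T (blockElt O)) = 0)
    {B' : Set (IrrCharacter T)} (hne : B'.Nonempty) (hsub : B' ⊆ O) :
    sInf ((fun χ : IrrCharacter G => (charDegree (χ : G → ℂ)).factorization p) '' indSetOf B') =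
      T.index.factorization p +
        sInf ((fun ψ : IrrCharacter T => (charDegree (ψ : T → ℂ)).factorization p) '' B') := by
  classical
  rw [← sInf_image_add hne]
  congr 1
  ext n
  constructor
  · rintro ⟨χ, ⟨ψ, hψ, hc⟩, rfl⟩
    refine ⟨ψ, hψ, ?_⟩
    show _ = (charDegree (χ : G → ℂ)).factorization p
    rw [hc, charDegree_ind, Nat.factorization_mul Subgroup.index_ne_zero_of_finite
      (charDegree_pos_of_irr ψ.2).ne']
    rfl
  · rintro ⟨ψ, hψ, rfl⟩
    refine ⟨⟨indFun T (ψ : T → ℂ), ind_isIrr hdisj (hsub hψ)⟩, ⟨ψ, hψ, rfl⟩, ?_⟩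
    show (charDegree (indFun T (ψ : T → ℂ))).factorization p = _
    rw [charDegree_ind, Nat.factorization_mul Subgroup.index_ne_zero_of_finite
      (charDegree_pos_of_irr ψ.2).ne']
    rfl

theorem blockHeight_ind
    (hdisj : ∀ x : G, x ∉ T → incl T (blockElt O) * conjElt x⁻¹ (incl T (blockElt O)) = 0)
    {B' : Set (IrrCharacter T)} (hne : B'.Nonempty) (hsub : B' ⊆ O) {ψ : IrrCharacter T} :
    blockHeight p (indSetOf B' : Set (IrrCharacter G)) (indFun T (ψ : T → ℂ)) =
      blockHeight p B' (ψ : T → ℂ) := by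
  unfold blockHeight
  rw [sInf_indSetOf hdisj hne hsub, charDegree_ind, Nat.factorization_mul Subgroup.index_ne_zero_of_finite
      (charDegree_pos_of_irr ψ.2).ne']
  simp only [Finsupp.add_apply]
  omega

theorem blockDefect_ind
    (hdisj : ∀ x : G, x ∉ T → incl T (blockElt O) * conjElt x⁻¹ (incl T (blockElt O)) = 0)
    {B' : Set (IrrCharacter T)} (hne : B'.Nonempty) (hsub : B' ⊆ O) :
    blockDefect p (indSetOf B' : Set (IrrCharacter G)) = blockDefect p B' := by
  unfold blockDefect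
  rw [sInf_indSetOf hdisj hne hsub, ← Subgroup.card_mul_index T, Nat.factorization_mul Nat.card_pos.ne'
    Subgroup.index_ne_zero_of_finite]
  simp only [Finsupp.add_apply]
  omega

/-- Under the hypotheses of the abstract theorem, defect groups pass up to the induced block. -/
theorem defect_ind (hM : IsPModular p M)
    (hdisj : ∀ x : G, x ∉ T → incl T (blockElt O) * conjElt x⁻¹ (incl T (blockElt O)) = 0)
    {B' : Set (IrrCharacter T)} (hB' : IsPBlock M B') (hsub : B' ⊆ O) {B : Set (IrrCharacter G)}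
    (hind : IsInducedBlock M T B' B) (hA : B = indSetOf B') {D : Subgroup T}
    (hD : IsDefectGroup p M B' D) : IsDefectGroup p M B (D.map T.subtype) := by
  classical
  obtain ⟨E, hE, hle⟩ := defect_le_of_induced hM T hind hD
  have h1 := card_defect_group hM hind.2.1 hE
  have h2 := card_defect_group hM hB' hD
  have h3 : blockDefect p B = blockDefect p B' := by
    rw [hA]
    exact blockDefect_ind hdisj (IsPBlock_nonempty hB') hsub
  have h4 : Nat.card (D.map T.subtype) = Nat.card D :=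
    Nat.card_congr (Subgroup.equivMapOfInjective _ _ T.subtype_injective).symm.toEquiv
  have h5 : D.map T.subtype = E := by
    apply Subgroup.eq_of_le_of_card_ge hle
    rw [h4, h1, h2, h3]
  rw [h5]
  exact hE

end Main

section Final

variable {G : Type*} [Group G] [Fintype G] {M : Ideal AlgInt} {N T : Subgroup G} [hN : N.Normal]
  [Fintype N] [Fintype T]

theorem stab_iff {b : Set (IrrCharacter N)}
    (hT : ∀ g : G, g ∈ T ↔ ∀ θ ∈ b, ∀ θ' : IrrCharacter N,
      (∀ n : N, (θ' : N → ℂ) n = (θ : N → ℂ) ⟨g * n * g⁻¹, hN.conj_mem n n.2 g⟩) → θ' ∈ b) :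
    ∀ g : G, g ∈ T ↔ ∀ θ ∈ b, conjIrr N g θ ∈ b := by
  intro g
  rw [hT]
  constructor
  · intro h θ hθ
    exact h θ hθ _ (fun n => rfl)
  · intro h θ hθ θ' h'
    have : θ' = conjIrr N g θ := Subtype.ext (funext h')
    rw [this]
    exact h θ hθ

end Final

end Cfsg.Agent.Lib.CharExtra
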