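import Cfsg.Agent.Lib.BPair.RealOdd
import Cfsg.Agent.Lib.BPair.GalFix
import Cfsg.Agent.Lib.Char.DetExt
import Cfsg.Agent.Lib.Char.Clifford2
import Cfsg.Agent.Lib.Degree.Inflate
import Cfsg.Agent.Lib.Degree.GaloisChar
import Cfsg.Agent.Lib.PGroup.Basic
import Cfsg.Agent.S0886

/-!
# Characters fixed by a power map of `2`-power order over a normal subgroup of odd index
-/

set_option autoImplicit false
set_option linter.unusedSectionVars false
set_option linter.unusedSimpArgs false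
set_option linter.unusedVariables false

open scoped ComplexConjugate
open Cfsg
open Cfsg.Agent.Lib.Block Cfsg.Agent.Lib.Char

namespace Cfsg.Agent.Lib.CharExtra

attribute [local instance] Cfsg.Agent.Lib.BPair.subFintype

universe u

section Abs

variable {H : Type u} [Group H] [Fintype H]

private noncomputable abbrev oneN (N : Subgroup H) : N → ℂ := fun _ => 1

theorem oneN_isIrr (N : Subgroup H) : IsIrrCharacter N (oneN N) := by
  have := isIrrCharacter_of_hom (1 : N →* ℂˣ)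
  simpa [oneN] using this

theorem mem_source (N : Subgroup H) [hN : N.Normal] (β : IrrCharacter H) (hβ : ∀ n ∈ N, (β : H → ℂ) n = (β : H → ℂ) 1) :
    classInner (indFun N (oneN N)) (β : H → ℂ) ≠ 0 := by
  have hcl := IsCharacter.isClassFunction (IsIrrCharacter.isCharacter β.2)
  rw [frobenius_reciprocity N _ _ hcl]
  have h1 : classInner (fun n : N => (β : H → ℂ) n) (oneN N) = (β : H → ℂ) 1 := by
    rw [classInner_def]
    have : ∀ n : N, (β : H → ℂ) n * conj (oneN N n) = (β : H → ℂ) 1 := by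
      intro n
      simp [oneN, hβ n n.2]
    simp only [this, Finset.sum_const, Finset.card_univ, nsmul_eq_mul]
    have hc : (Nat.card N : ℂ) ≠ 0 := by
      exact_mod_cast Nat.card_pos.ne'
    rw [Nat.card_eq_fintype_card] at hc ⊢
    field_simp
  intro h0
  have h2 := isIrr_one_ne_zero β.2
  apply h2
  rw [← h1, ← conj_classInner, h0, map_zero]

theorem of_mem_source (N : Subgroup H) [hN : N.Normal] (β : IrrCharacter H)
    (h : classInner (indFun N (oneN N)) (β : H → ℂ) ≠ 0) : ∀ n ∈ N, (β : H → ℂ) n = (β : H → ℂ) 1 := by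
  have hcl := IsCharacter.isClassFunction (IsIrrCharacter.isCharacter β.2)
  rw [frobenius_reciprocity N _ _ hcl] at h
  have h' : classInner (fun n : N => (β : H → ℂ) n) (oneN N) ≠ 0 := by
    rw [← conj_classInner]
    exact (map_ne_zero _).mpr h
  have h2 := clifford_invariant hN β.2 (oneN_isIrr N) (fun g => rfl) h'
  intro n hn
  have h3 := congrFun h2 ⟨n, hn⟩
  have h4 := congrFun h2 1
  simp only [Pi.smul_apply, smul_eq_mul, oneN, mul_one] at h3 h4
  rw [h3]
  exact h4.symm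

/-- Gallagher's bijection over a character with an extension. -/
theorem gallagher_one (N : Subgroup H) [hN : N.Normal] (θ : IrrCharacter N) (η : IrrCharacter H)
    (hext : ∀ n : N, (η : H → ℂ) n = (θ : N → ℂ) n) :
    Set.BijOn (fun β : H → ℂ => β * (η : H → ℂ))
      {β : H → ℂ | IsIrrCharacter H β ∧ classInner (indFun N (oneN N)) β ≠ 0}
      {ψ : H → ℂ | IsIrrCharacter H ψ ∧ classInner (indFun N (oneN N * (θ : N → ℂ))) ψ ≠ 0} := by
  have hφ := oneN_isIrr N
  have hprod0 : oneN N * (θ : N → ℂ) = θ := by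
    funext n
    simp [oneN]
  have hprod : IsIrrCharacter N (oneN N * (θ : N → ℂ)) := by
    rw [hprod0]
    exact θ.2
  exact gallagher_bijOn N hφ θ.2 (fun g => rfl) hprod η.2 hext

/-- Every irreducible character over `θ` is a product with a character of the quotient. -/
theorem exists_mul_of_over (N : Subgroup H) [hN : N.Normal] (θ : IrrCharacter N) (η : IrrCharacter H)
    (hext : ∀ n : N, (η : H → ℂ) n = (θ : N → ℂ) n) (ψ : IrrCharacter H)
    (hψ : classInner (fun n : N => (ψ : H → ℂ) n) (θ : N → ℂ) ≠ 0) :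
    ∃ β : IrrCharacter H, (∀ n ∈ N, (β : H → ℂ) n = (β : H → ℂ) 1) ∧ ∀ g, (ψ : H → ℂ) g = (β : H → ℂ) g * (η : H → ℂ) g := by
  have hB := gallagher_one N θ η hext
  have hprod0 : oneN N * (θ : N → ℂ) = θ := by
    funext n
    simp [oneN]
  have hmem : (ψ : H → ℂ) ∈ {ψ : H → ℂ | IsIrrCharacter H ψ ∧ classInner (indFun N (oneN N * (θ : N → ℂ))) ψ ≠ 0} := by
    refine ⟨ψ.2, ?_⟩
    rw [hprod0, frobenius_reciprocity N _ _ (IsCharacter.isClassFunction (IsIrrCharacter.isCharacter ψ.2))]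
    intro h0
    apply hψ
    rw [← conj_classInner, h0, map_zero]
  obtain ⟨β, ⟨hβ, hβi⟩, hβη⟩ := hB.surjOn hmem
  refine ⟨⟨β, hβ⟩, of_mem_source N ⟨β, hβ⟩ hβi, fun g => ?_⟩
  exact (congrFun hβη g).symm

/-- The factor in Gallagher's bijection is unique. -/
theorem eq_of_mul_eq (N : Subgroup H) [hN : N.Normal] (θ : IrrCharacter N) (η : IrrCharacter H)
    (hext : ∀ n : N, (η : H → ℂ) n = (θ : N → ℂ) n) (β β' : IrrCharacter H)
    (hβ : ∀ n ∈ N, (β : H → ℂ) n = (β : H → ℂ) 1) (hβ' : ∀ n ∈ N, (β' : H → ℂ) n = (β' : H → ℂ) 1)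
    (h : ∀ g, (β : H → ℂ) g * (η : H → ℂ) g = (β' : H → ℂ) g * (η : H → ℂ) g) : β = β' := by
  have hB := gallagher_one N θ η hext
  apply Subtype.ext
  exact hB.injOn ⟨β.2, mem_source N β hβ⟩ ⟨β'.2, mem_source N β' hβ'⟩ (funext h)

/-- A product with a linear character on the quotient. -/
theorem exists_hom_of_two_ext (N : Subgroup H) [hN : N.Normal] (θ : IrrCharacter N) (η ψ : IrrCharacter H)
    (hext : ∀ n : N, (η : H → ℂ) n = (θ : N → ℂ) n) (hψ : ∀ n : N, (ψ : H → ℂ) n = (θ : N → ℂ) n) :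
    ∃ lam : H →* ℂˣ, (∀ n ∈ N, lam n = 1) ∧ ∀ g, (ψ : H → ℂ) g = (lam g : ℂ) * (η : H → ℂ) g := by
  have hψ' : classInner (fun n : N => (ψ : H → ℂ) n) (θ : N → ℂ) ≠ 0 := by
    have : (fun n : N => (ψ : H → ℂ) n) = θ := funext hψ
    rw [this, classInner_irr_self θ.2]
    exact one_ne_zero
  obtain ⟨β, hβ, hβη⟩ := exists_mul_of_over N θ η hext ψ hψ'
  have h1 : (ψ : H → ℂ) 1 = (η : H → ℂ) 1 := by
    have h2 := hψ 1
    have h3 := hext 1
    simp only [OneMemClass.coe_one] at h2 h3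
    rw [h2, h3]
  have hβ1 : (β : H → ℂ) 1 = 1 := by
    have h2 := hβη 1
    rw [h1] at h2
    have h3 := isIrr_one_ne_zero η.2
    exact (mul_right_cancel₀ h3 ((one_mul _).trans h2)).symm
  obtain ⟨lam, hlam⟩ := exists_hom_of_character_one (IsIrrCharacter.isCharacter β.2) hβ1
  have hβlam : ∀ g, (β : H → ℂ) g = (lam g : ℂ) := fun g => congrFun hlam g
  refine ⟨lam, fun n hn => ?_, fun g => ?_⟩
  · have h2 := hβ n hn
    rw [hβ1, hβlam] at h2
    exact Units.ext h2
  · rw [hβη, hβlam]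

variable (N : Subgroup H) [hN : N.Normal] {k : ℕ} (hk : k.Coprime (Nat.card H)) (hinv : ∀ h : H, h ^ k * h ∈ N)

include hinv in
/-- A `k`-th power acts as the inverse modulo `N`. -/
theorem val_pow_of_ker (β : IrrCharacter H) (hβ : ∀ n ∈ N, (β : H → ℂ) n = (β : H → ℂ) 1) (h : H) :
    (β : H → ℂ) (h ^ k) = (β : H → ℂ) h⁻¹ := by
  have hker : h ^ k * h ∈ Degree.kerOf (β : H → ℂ) :=
    (Degree.mem_kerOf_iff (IsIrrCharacter.isCharacter β.2)).mpr (hβ _ (hinv h))
  have h1 := hker h⁻¹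
  rw [mul_inv_cancel_right] at h1
  exact h1

include hk hinv in
/-- An extension can be twisted to a fixed extension. -/
theorem exists_fixed_ext (hidx : Odd N.index) (θ : IrrCharacter N) (hfix : ∀ n : N, (θ : N → ℂ) (n ^ k) = (θ : N → ℂ) n)
    (η : IrrCharacter H) (hext : ∀ n : N, (η : H → ℂ) n = (θ : N → ℂ) n) :
    ∃ χ : IrrCharacter H, (∀ n : N, (χ : H → ℂ) n = (θ : N → ℂ) n) ∧ ∀ g, (χ : H → ℂ) (g ^ k) = (χ : H → ℂ) g := by
  classical
  have hψ : ∀ n : N, (BPair.galI hk η : H → ℂ) n = (θ : N → ℂ) n := by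
    intro n
    rw [BPair.galI_apply, ← hfix n, ← hext (n ^ k)]
    rfl
  obtain ⟨lam, hlam, hlamη⟩ := exists_hom_of_two_ext N θ η (BPair.galI hk η) hext hψ
  obtain ⟨r, hr⟩ := hidx
  let ν : H →* ℂˣ := lam ^ (r + 1)
  have hνN : ∀ n ∈ N, ν n = 1 := by
    intro n hn
    simp [ν, hlam n hn]
  have hν2 : ∀ g, (ν g : ℂ) * (ν g : ℂ) = (lam g : ℂ) := by
    intro g
    have h1 : (lam g) ^ N.index = 1 := pow_index_eq_one_of_trivial lam (fun n => hlam n n.2) g
    have h2 : (ν g) * (ν g) = lam g := by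
      have h3 : ν g = (lam g) ^ (r + 1) := by simp [ν]
      rw [h3, ← pow_add]
      have h4 : r + 1 + (r + 1) = N.index + 1 := by omega
      rw [h4, pow_succ, h1, one_mul]
    have h5 := congrArg (Units.val) h2
    simpa using h5
  have hνk : ∀ g, (ν (g ^ k) : ℂ) * (ν g : ℂ) = 1 := by
    intro g
    have h1 : ν (g ^ k * g) = 1 := hνN _ (hinv g)
    rw [map_mul] at h1
    have h2 := congrArg (Units.val) h1
    simpa using h2
  refine ⟨BPair.twistI ν η, fun n => ?_, fun g => ?_⟩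
  · rw [BPair.twistI_apply, hνN _ n.2, hext n]
    simp
  · rw [BPair.twistI_apply, BPair.twistI_apply]
    have h1 := hlamη g
    rw [BPair.galI_apply] at h1
    rw [h1, ← hν2 g]
    have h2 := hνk g
    calc (ν g : ℂ) * (ν g : ℂ) * (η : H → ℂ) g * (ν (g ^ k) : ℂ)
        = ((ν (g ^ k) : ℂ) * (ν g : ℂ)) * ((η : H → ℂ) g * (ν g : ℂ)) := by ring
      _ = (η : H → ℂ) g * (ν g : ℂ) := by rw [h2, one_mul]

include hk hinv in
/-- Uniqueness of fixed characters over a fixed extendible character. -/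
theorem fixed_unique (hidx : Odd N.index) (θ : IrrCharacter N) (χ₀ : IrrCharacter H)
    (hext : ∀ n : N, (χ₀ : H → ℂ) n = (θ : N → ℂ) n) (hfix₀ : ∀ g, (χ₀ : H → ℂ) (g ^ k) = (χ₀ : H → ℂ) g)
    (χ' : IrrCharacter H) (hover : classInner (fun n : N => (χ' : H → ℂ) n) (θ : N → ℂ) ≠ 0)
    (hfix' : ∀ g, (χ' : H → ℂ) (g ^ k) = (χ' : H → ℂ) g) : χ' = χ₀ := by
  classical
  obtain ⟨β, hβ, hβη⟩ := exists_mul_of_over N θ χ₀ hext χ' hover
  have hβ' : ∀ n ∈ N, (BPair.galI hk β : H → ℂ) n = (BPair.galI hk β : H → ℂ) 1 := by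
    intro n hn
    rw [BPair.galI_apply, BPair.galI_apply, one_pow, hβ _ (N.pow_mem hn k)]
  have h1 : BPair.galI hk β = β := by
    refine eq_of_mul_eq N θ χ₀ hext _ _ hβ' hβ fun g => ?_
    rw [BPair.galI_apply, ← hβη g, ← hfix' g, hβη (g ^ k), hfix₀ g]
  have h2 : ∀ g, (β : H → ℂ) g⁻¹ = (β : H → ℂ) g := by
    intro g
    rw [← val_pow_of_ker N hinv β hβ g, ← BPair.galI_apply hk, h1]
  obtain ⟨ψ, hψ⟩ := Degree.exists_inflate N (χ := β) hβ
  have hcard : Odd (Nat.card (H ⧸ N)) := by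
    rw [← Subgroup.index_eq_card]
    exact hidx
  have hreal : ∀ q : H ⧸ N, ((ψ : H ⧸ N → ℂ) q).im = 0 := by
    intro q
    obtain ⟨g, rfl⟩ := QuotientGroup.mk_surjective q
    have h3 : (ψ : H ⧸ N → ℂ) (g : H ⧸ N) = (β : H → ℂ) g := by
      rw [← hψ]
      rfl
    rw [h3]
    apply Complex.conj_eq_iff_im.mp
    rw [← IsCharacter.map_inv' (IsIrrCharacter.isCharacter β.2) g, h2]
  have h4 := irr_eq_one_of_real_of_odd hcard ψ.2 hreal
  apply Subtype.ext
  funext g
  rw [hβη g]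
  have h5 : (β : H → ℂ) g = 1 := by
    rw [← hψ]
    exact congrFun h4 (g : H ⧸ N)
  rw [h5, one_mul]

include hk hinv in
theorem fixed_unique_ext (hidx : Odd N.index) (θ : IrrCharacter N) (χ₀ : IrrCharacter H)
    (hext : ∀ n : N, (χ₀ : H → ℂ) n = (θ : N → ℂ) n) (hfix₀ : ∀ g, (χ₀ : H → ℂ) (g ^ k) = (χ₀ : H → ℂ) g)
    (χ' : IrrCharacter H) (hext' : ∀ n : N, (χ' : H → ℂ) n = (θ : N → ℂ) n)
    (hfix' : ∀ g, (χ' : H → ℂ) (g ^ k) = (χ' : H → ℂ) g) : χ' = χ₀ := by
  refine fixed_unique N hk hinv hidx θ χ₀ hext hfix₀ χ' ?_ hfix'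
  have : (fun n : N => (χ' : H → ℂ) n) = θ := funext hext'
  rw [this, classInner_irr_self θ.2]
  exact one_ne_zero

/-- Restriction of the data to an intermediate subgroup. -/
noncomputable def resIrr {M : Subgroup H} (hNM : N ≤ M) (θ : IrrCharacter N) : IrrCharacter (N.subgroupOf M) :=
  ⟨(θ : N → ℂ) ∘ (Subgroup.subgroupOfEquivOfLe hNM), isIrr_comp_equiv (Subgroup.subgroupOfEquivOfLe hNM) θ.2⟩

theorem resIrr_apply {M : Subgroup H} (hNM : N ≤ M) (θ : IrrCharacter N) (n : N.subgroupOf M) :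
    (resIrr N hNM θ : N.subgroupOf M → ℂ) n = (θ : N → ℂ) ⟨((n : M) : H), n.2⟩ := rfl

end Abs

/-- The chain argument over a `p`-power index. -/
theorem exists_ext_chain {p : ℕ} [hp : Fact p.Prime] (hodd : Odd p) {k : ℕ} (a : ℕ) :
    ∀ (H : Type u) [Group H] [Fintype H] (N : Subgroup H) [hN : N.Normal] (hk : k.Coprime (Nat.card H))
      (hinv : ∀ h : H, h ^ k * h ∈ N) (hidx : N.index = p ^ a) (θ : IrrCharacter N)
      (hinvθ : ∀ (g : H) (n : N), (θ : N → ℂ) ⟨g * n * g⁻¹, hN.conj_mem (n : H) n.2 g⟩ = (θ : N → ℂ) n)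
      (hfix : ∀ n : N, (θ : N → ℂ) (n ^ k) = (θ : N → ℂ) n),
      ∃ χ : IrrCharacter H, (∀ n : N, (χ : H → ℂ) n = (θ : N → ℂ) n) ∧ ∀ g, (χ : H → ℂ) (g ^ k) = (χ : H → ℂ) g := by
  classical
  induction a with
  | zero =>
    intro H _ _ N hN hk hinv hidx θ hinvθ hfix
    have h1 : Subsingleton (H ⧸ N) := by
      have : Nat.card (H ⧸ N) = 1 := by
        rw [← Subgroup.index_eq_card, hidx, pow_zero]
      exact (Nat.card_eq_one_iff_unique.mp this).1
    have hcyc : IsCyclic (H ⧸ N) := isCyclic_of_subsingleton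
    obtain ⟨χ₁, hχ₁, hext⟩ := Cfsg.Agent.S0886.result N hcyc θ θ.2 hinvθ
    refine exists_fixed_ext N hk hinv ?_ θ hfix ⟨χ₁, hχ₁⟩ hext
    rw [hidx, pow_zero]
    exact odd_one
  | succ a ih =>
    intro H _ _ N hN hk hinv hidx θ hinvθ hfix
    have hoddN : Odd N.index := by
      rw [hidx]
      exact hodd.pow
    -- choose an intermediate subgroup of index `p`
    have hcardQ : Nat.card (H ⧸ N) = p ^ (a + 1) := by
      rw [← Subgroup.index_eq_card, hidx]
    have hQp : IsPGroup p (H ⧸ N) := IsPGroup.of_card hcardQ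
    obtain ⟨K, hK⟩ := Sylow.exists_subgroup_card_pow_prime (G := H ⧸ N) p (n := a) (by rw [hcardQ]; exact pow_dvd_pow p (Nat.le_succ a))
    have hKi : K.index = p := by
      have h1 := K.card_mul_index
      rw [hK, hcardQ, pow_succ] at h1
      exact Nat.eq_of_mul_eq_mul_left (pow_pos hp.out.pos a) h1
    have hKn : K.Normal := Cfsg.Agent.Lib.PGroup.normal_of_index_eq_prime hQp hKi
    let M : Subgroup H := K.comap (QuotientGroup.mk' N)
    have hM : M.Normal := Subgroup.Normal.comap hKn _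
    have hMi : M.index = p := by
      rw [Subgroup.index_comap_of_surjective K (QuotientGroup.mk'_surjective N), hKi]
    have hNM : N ≤ M := by
      intro n hn
      show (QuotientGroup.mk' N) n ∈ K
      have : (QuotientGroup.mk' N) n = 1 := (QuotientGroup.eq_one_iff n).mpr hn
      rw [this]
      exact K.one_mem
    have hidx' : (N.subgroupOf M).index = p ^ a := by
      have h1 := Subgroup.relIndex_mul_index hNM
      rw [hMi, hidx, pow_succ, Subgroup.relIndex] at h1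
      exact Nat.eq_of_mul_eq_mul_right hp.out.pos h1
    have hkM : k.Coprime (Nat.card M) := Nat.Coprime.coprime_dvd_right (Subgroup.card_subgroup_dvd_card M) hk
    have hinvM : ∀ h : M, h ^ k * h ∈ N.subgroupOf M := by
      intro h
      exact hinv h
    have hoddN' : Odd (N.subgroupOf M).index := by
      rw [hidx']
      exact hodd.pow
    obtain ⟨χM, hχM, hfM⟩ := ih M (N.subgroupOf M) hkM hinvM hidx' (resIrr N hNM θ)
      (fun g n => by
        rw [resIrr_apply, resIrr_apply]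
        exact hinvθ g ⟨((n : M) : H), n.2⟩)
      (fun n => by
        rw [resIrr_apply, resIrr_apply]
        exact hfix ⟨((n : M) : H), n.2⟩)
    -- invariance
    have hinvM' : ∀ (g : H) (m : M), (χM : M → ℂ) ⟨g * m * g⁻¹, hM.conj_mem (m : H) m.2 g⟩ = (χM : M → ℂ) m := by
      intro g
      let ζ : IrrCharacter M := ⟨conjFn hM g (χM : M → ℂ), conjFn_isIrr hM g χM.2⟩
      have h1 : ζ = χM := by
        refine fixed_unique_ext (N.subgroupOf M) hkM hinvM hoddN' (resIrr N hNM θ) χM hχM hfM ζ ?_ ?_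
        · intro n
          show (χM : M → ℂ) _ = _
          have hmem : ((⟨g * ((n : M) : H) * g⁻¹, hM.conj_mem _ (n : M).2 g⟩ : M) : H) ∈ N :=
            hN.conj_mem _ n.2 g
          have h2 := hχM ⟨⟨g * ((n : M) : H) * g⁻¹, hM.conj_mem _ (n : M).2 g⟩, hmem⟩
          refine h2.trans ?_
          rw [resIrr_apply, resIrr_apply]
          exact hinvθ g ⟨((n : M) : H), n.2⟩
        · exact BPair.conj_fixed M hfM g
      intro m
      exact congrFun (congrArg Subtype.val h1) m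
    have hcyc : IsCyclic (H ⧸ M) := by
      haveI : Fact (Nat.card (H ⧸ M)).Prime := ⟨by
        rw [← Subgroup.index_eq_card, hMi]
        exact hp.out⟩
      exact isCyclic_of_prime_card rfl
    obtain ⟨χ₁, hχ₁, hext⟩ := Cfsg.Agent.S0886.result M hcyc χM χM.2 hinvM'
    refine exists_fixed_ext N hk hinv hoddN θ hfix ⟨χ₁, hχ₁⟩ fun n => ?_
    have h1 := hext ⟨n, hNM n.2⟩
    have h2 := hχM ⟨⟨n, hNM n.2⟩, n.2⟩
    exact h1.trans h2

section Inv

variable {H : Type u} [Group H] [Fintype H]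

/-- The invariant case: existence of a fixed extension. -/
theorem exists_fixed_ext_of_invariant (N : Subgroup H) [hN : N.Normal] {k : ℕ} (hk : k.Coprime (Nat.card H))
    (hinv : ∀ h : H, h ^ k * h ∈ N) (hidx : Odd N.index) (θ : IrrCharacter N)
    (hinvθ : ∀ (g : H) (n : N), (θ : N → ℂ) ⟨g * n * g⁻¹, hN.conj_mem (n : H) n.2 g⟩ = (θ : N → ℂ) n)
    (hfix : ∀ n : N, (θ : N → ℂ) (n ^ k) = (θ : N → ℂ) n) :
    ∃ χ : IrrCharacter H, (∀ n : N, (χ : H → ℂ) n = (θ : N → ℂ) n) ∧ ∀ g, (χ : H → ℂ) (g ^ k) = (χ : H → ℂ) g := by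
  classical
  suffices hex : ∃ χ : H → ℂ, IsIrrCharacter H χ ∧ ∀ n : N, χ n = (θ : N → ℂ) n by
    obtain ⟨χ, hχ, hext⟩ := hex
    exact exists_fixed_ext N hk hinv hidx θ hfix ⟨χ, hχ⟩ hext
  obtain ⟨θ, d, X, hX, rfl⟩ := θ
  have hinv' : ∀ (g : H) (n : N), X.character (nconj N g n) = X.character n := hinvθ
  obtain ⟨E⟩ := exists_projExt N X hX hinv'
  have hU := nontrivial_of_irr hX
  have h1 : E.IsCobExp 1 := by
    refine ProjExt.isCobExp_one_of_primes (m := N.index)
      (Nat.pos_of_ne_zero Subgroup.index_ne_zero_of_finite) E.isCobExp_index fun p hp => ?_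
    by_cases hpi : p ∣ N.index
    · haveI : Fact p.Prime := ⟨hp⟩
      have hoddp : Odd p := Odd.of_dvd_nat hidx hpi
      let S : Sylow p (H ⧸ N) := default
      let P : Subgroup H := (S : Subgroup (H ⧸ N)).comap (QuotientGroup.mk' N)
      have hPi : P.index = (S : Subgroup (H ⧸ N)).index :=
        Subgroup.index_comap_of_surjective _ (QuotientGroup.mk'_surjective N)
      have hNP : N ≤ P := by
        intro n hn
        show (QuotientGroup.mk' N) n ∈ (S : Subgroup (H ⧸ N))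
        have : (QuotientGroup.mk' N) n = 1 := (QuotientGroup.eq_one_iff n).mpr hn
        rw [this]
        exact Subgroup.one_mem _
      obtain ⟨a, ha⟩ := IsPGroup.iff_card.mp S.isPGroup'
      have hidx' : (N.subgroupOf P).index = p ^ a := by
        have h1 := Subgroup.relIndex_mul_index hNP
        have h2 := (S : Subgroup (H ⧸ N)).card_mul_index
        rw [← Subgroup.index_eq_card, ← hPi, ha] at h2
        rw [← h2, hPi, Subgroup.relIndex] at h1
        have h3 : 0 < (S : Subgroup (H ⧸ N)).index := Nat.pos_of_ne_zero Subgroup.index_ne_zero_of_finite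
        exact Nat.eq_of_mul_eq_mul_right h3 h1
      have hkP : k.Coprime (Nat.card P) := Nat.Coprime.coprime_dvd_right (Subgroup.card_subgroup_dvd_card P) hk
      obtain ⟨χP, hχP, -⟩ := exists_ext_chain hoddp a P (N.subgroupOf P) hkP (fun h => hinv h) hidx'
        (resIrr N hNP ⟨X.character, d, X, hX, rfl⟩)
        (fun g n => by
          rw [resIrr_apply, resIrr_apply]
          exact hinvθ g ⟨((n : P) : H), n.2⟩)
        (fun n => by
          rw [resIrr_apply, resIrr_apply]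
          exact hfix ⟨((n : P) : H), n.2⟩)
      refine ⟨P.index, E.isCobExp_index_of_extends hX hinv' P hNP χP (IsIrrCharacter.isCharacter χP.2) ?_, ?_⟩
      · intro n
        exact hχP ⟨⟨n, hNP n.2⟩, n.2⟩
      · intro h
        rw [hPi] at h
        have h2 : p ∣ (S : Subgroup (H ⧸ N)).index := by exact_mod_cast h
        exact S.not_dvd_index h2
    · refine ⟨N.index, E.isCobExp_index, fun h => hpi ?_⟩
      exact_mod_cast h
  obtain ⟨σ, hσ⟩ := ProjExt.IsCobExp.exists_rep h1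
  exact irr_extends_of_rep N X hX σ hσ

/-- Power maps and induction. -/
theorem indFun_pow (E : Subgroup H) (ψ : E → ℂ) {k : ℕ} (hk : k.Coprime (Nat.card H)) (g : H) :
    indFun E ψ (g ^ k) = indFun E (fun e => ψ (e ^ k)) g := by
  classical
  unfold indFun
  congr 1
  refine Finset.sum_congr rfl fun x _ => ?_
  have hc : x⁻¹ * g ^ k * x = (x⁻¹ * g * x) ^ k := by
    have := conj_pow (a := x⁻¹) (b := g) (i := k)
    simpa using this.symm
  rw [hc]
  by_cases hm : x⁻¹ * g * x ∈ E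
  · rw [Degree.extendByZero_eq_of_mem E _ (E.pow_mem hm k), Degree.extendByZero_eq_of_mem E _ hm]
    rfl
  · rw [Degree.extendByZero_eq_of_notMem E _ hm, Degree.extendByZero_eq_of_notMem E _
      (fun h => hm (Degree.mem_of_pow_mem_of_coprime E hk h))]

/-- The main theorem, with the condition in the form of a congruence modulo `N`. -/
theorem odd_index_fixed_main (N : Subgroup H) [hN : N.Normal] {k : ℕ} (hk : k.Coprime (Nat.card H))
    (hinv : ∀ h : H, h ^ k * h ∈ N) (hidx : Odd N.index) (θ : IrrCharacter N)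
    (hfix : ∀ n : N, (θ : N → ℂ) (n ^ k) = (θ : N → ℂ) n) :
    ∃ χ : IrrCharacter H, (classInner (fun n : N => (χ : H → ℂ) n) (θ : N → ℂ) ≠ 0 ∧
      (∀ g : H, (χ : H → ℂ) (g ^ k) = (χ : H → ℂ) g) ∧
      ((∀ (g : H) (n : N), (θ : N → ℂ) ⟨g * n * g⁻¹, hN.conj_mem (n : H) n.2 g⟩ = (θ : N → ℂ) n) →
        ∀ n : N, (χ : H → ℂ) n = (θ : N → ℂ) n)) ∧
      ∀ χ' : IrrCharacter H, classInner (fun n : N => (χ' : H → ℂ) n) (θ : N → ℂ) ≠ 0 →
        (∀ g : H, (χ' : H → ℂ) (g ^ k) = (χ' : H → ℂ) g) → χ' = χ := by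
  classical
  let T : Subgroup H := inertia hN (θ : N → ℂ)
  have hNT : N ≤ T := le_inertia hN (IsCharacter.isClassFunction (IsIrrCharacter.isCharacter θ.2))
  have hkT : k.Coprime (Nat.card T) := Nat.Coprime.coprime_dvd_right (Subgroup.card_subgroup_dvd_card T) hk
  have hinvT : ∀ h : T, h ^ k * h ∈ N.subgroupOf T := fun h => hinv h
  have hidxT : Odd (N.subgroupOf T).index := by
    have h1 := Subgroup.relIndex_mul_index hNT
    rw [Subgroup.relIndex] at h1
    rw [← h1] at hidx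
    exact (Nat.odd_mul.mp hidx).1
  obtain ⟨ψ₀, hψ₀, hψ₀f⟩ := exists_fixed_ext_of_invariant (N.subgroupOf T) hkT hinvT hidxT (resIrr N hNT θ)
    (fun g n => by
      rw [resIrr_apply, resIrr_apply]
      exact (mem_inertia_iff hN (θ : N → ℂ) (g : H)).mp g.2 ⟨((n : T) : H), n.2⟩)
    (fun n => by
      rw [resIrr_apply, resIrr_apply]
      exact hfix ⟨((n : T) : H), n.2⟩)
  have hψ₀' : ∀ n : N, (ψ₀ : T → ℂ) ⟨n, hNT n.2⟩ = (θ : N → ℂ) n := fun n => hψ₀ ⟨⟨n, hNT n.2⟩, n.2⟩
  have hover₀ : classInner (fun n : N => (ψ₀ : T → ℂ) ⟨n, hNT n.2⟩) (θ : N → ℂ) = 1 := by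
    have : (fun n : N => (ψ₀ : T → ℂ) ⟨n, hNT n.2⟩) = θ := funext hψ₀'
    rw [this, classInner_irr_self θ.2]
  have hχ₀ : IsIrrCharacter H (indFun T (ψ₀ : T → ℂ)) :=
    indFun_isIrr_of_over hN θ.2 rfl hNT ψ₀.2 (by rw [hover₀]; exact one_ne_zero)
  -- uniqueness of the fixed constituents
  have huniq : ∀ χ' : IrrCharacter H, classInner (fun n : N => (χ' : H → ℂ) n) (θ : N → ℂ) ≠ 0 →
      (∀ g : H, (χ' : H → ℂ) (g ^ k) = (χ' : H → ℂ) g) → (χ' : H → ℂ) = indFun T (ψ₀ : T → ℂ) := by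
    intro χ' hover hf
    obtain ⟨ψ, hψ, hψind, hψmult⟩ := clifford_correspondence hN θ.2 rfl hNT χ'.2 hover
    let ψI : IrrCharacter T := ⟨ψ, hψ⟩
    let ψS : IrrCharacter T := BPair.galI hkT ψI
    have hψS : indFun T (ψS : T → ℂ) = χ' := by
      funext g
      show indFun T (fun e => ψ (e ^ k)) g = _
      rw [← indFun_pow T ψ hk g, hψind, hf]
    have hmultS : classInner (fun n : N => (ψS : T → ℂ) ⟨n, hNT n.2⟩) (θ : N → ℂ) =
        classInner (fun n : N => ψ ⟨n, hNT n.2⟩) (θ : N → ℂ) := by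
      have hkN : k.Coprime (Nat.card N) := Nat.Coprime.coprime_dvd_right (Subgroup.card_subgroup_dvd_card N) hk
      have h1 := Degree.classInner_galois (fun n : N => ψ ⟨n, hNT n.2⟩) (θ : N → ℂ) hkN
      rw [← h1]
      congr 1
      funext n
      exact (hfix n).symm
    -- both are constituents of the restriction
    have hcl := IsCharacter.isClassFunction (IsIrrCharacter.isCharacter χ'.2)
    have hcon : ∀ ξ : IrrCharacter T, indFun T (ξ : T → ℂ) = χ' → classInner (fun t : T => (χ' : H → ℂ) t) (ξ : T → ℂ) ≠ 0 := by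
      intro ξ hξ
      have h1 := frobenius_reciprocity T (ξ : T → ℂ) (χ' : H → ℂ) hcl
      rw [hξ, classInner_irr_self χ'.2] at h1
      intro h0
      rw [← conj_classInner, h0, map_zero] at h1
      exact one_ne_zero h1
    have hSψ : ψS = ψI := by
      by_contra hne
      have hκ := isCharacter_sub_of_constituent (IsCharacter.restrict T (IsIrrCharacter.isCharacter χ'.2)) ψI.2 (hcon ψI hψind)
      have h2 : classInner ((fun t : T => (χ' : H → ℂ) t) - (ψI : T → ℂ)) (ψS : T → ℂ) ≠ 0 := by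
        rw [classInner_sub_left, classInner_irr_of_ne ψI.2 ψS.2 (fun h => hne (Subtype.ext h.symm)), sub_zero]
        exact hcon ψS hψS
      have hκ2 := isCharacter_sub_of_constituent hκ ψS.2 h2
      have hresκ : IsCharacter N (fun n : N => ((fun t : T => (χ' : H → ℂ) t) - (ψI : T → ℂ) - (ψS : T → ℂ)) ⟨n, hNT n.2⟩) :=
        IsCharacter.comp (Subgroup.inclusion hNT) hκ2
      obtain ⟨b, hb⟩ := classInner_isCharacter_nat hresκ (IsIrrCharacter.isCharacter θ.2)
      obtain ⟨c, hc⟩ := classInner_isCharacter_nat (IsCharacter.comp (Subgroup.inclusion hNT) (IsIrrCharacter.isCharacter ψI.2)) (IsIrrCharacter.isCharacter θ.2)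
      have hsplit : (fun n : N => (χ' : H → ℂ) n) = (fun n : N => (ψI : T → ℂ) ⟨n, hNT n.2⟩) + (fun n : N => (ψS : T → ℂ) ⟨n, hNT n.2⟩) +
          (fun n : N => ((fun t : T => (χ' : H → ℂ) t) - (ψI : T → ℂ) - (ψS : T → ℂ)) ⟨n, hNT n.2⟩) := by
        funext n
        simp
      have h3 := hψmult
      rw [hsplit, classInner_add_left, classInner_add_left, hb, hmultS] at h3
      have h4 : classInner (fun n : N => ψ ⟨n, hNT n.2⟩) (θ : N → ℂ) = (c : ℂ) := hc
      rw [h4] at h3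
      rw [← hψmult, h4] at hover
      have h5 : c = c + c + b := by exact_mod_cast h3
      have h6 : c = 0 := by omega
      apply hover
      rw [h6]
      simp
    have hψfix : ∀ g : T, ψ (g ^ k) = ψ g := fun g => congrFun (congrArg Subtype.val hSψ) g
    have hover' : classInner (fun n : N.subgroupOf T => ψ n) (resIrr N hNT θ : N.subgroupOf T → ℂ) ≠ 0 := by
      have h1 := classInner_comp_equiv (Subgroup.subgroupOfEquivOfLe hNT) (fun n : N => ψ ⟨n, hNT n.2⟩) (θ : N → ℂ)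
      have h2 : classInner (fun n : N.subgroupOf T => ψ n) (resIrr N hNT θ : N.subgroupOf T → ℂ) =
          classInner ((fun n : N => ψ ⟨n, hNT n.2⟩) ∘ (Subgroup.subgroupOfEquivOfLe hNT)) ((θ : N → ℂ) ∘ (Subgroup.subgroupOfEquivOfLe hNT)) := rfl
      rw [h2, h1, hψmult]
      exact hover
    have h1 : ψI = ψ₀ := fixed_unique (N.subgroupOf T) hkT hinvT hidxT (resIrr N hNT θ) ψ₀ hψ₀ hψ₀f ψI hover' hψfix
    rw [← hψind]
    exact congrArg (fun ξ : IrrCharacter T => indFun T (ξ : T → ℂ)) h1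
  refine ⟨⟨_, hχ₀⟩, ⟨?_, ?_, ?_⟩, fun χ' h1 h2 => Subtype.ext (huniq χ' h1 h2)⟩
  · have hcl := IsCharacter.isClassFunction (IsIrrCharacter.isCharacter hχ₀)
    have hχψ : classInner (fun t : T => indFun T (ψ₀ : T → ℂ) t) (ψ₀ : T → ℂ) ≠ 0 := by
      have h1 := frobenius_reciprocity T (ψ₀ : T → ℂ) (indFun T (ψ₀ : T → ℂ)) hcl
      rw [classInner_irr_self hχ₀] at h1
      intro h0
      rw [← conj_classInner, h0, map_zero] at h1
      exact one_ne_zero h1
    have h2 := (clifford_corresp_core hN θ.2 rfl hNT ψ₀.2 (by rw [hover₀]; exact one_ne_zero) hχ₀ hχψ).2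
    show classInner (fun n : N => indFun T (ψ₀ : T → ℂ) n) (θ : N → ℂ) ≠ 0
    rw [← h2, hover₀]
    exact one_ne_zero
  · intro g
    show indFun T (ψ₀ : T → ℂ) (g ^ k) = indFun T (ψ₀ : T → ℂ) g
    rw [indFun_pow T _ hk g]
    congr 1
    funext t
    exact hψ₀f t
  · intro hinvθ n
    obtain ⟨χ₁, hχ₁, hχ₁f⟩ := exists_fixed_ext_of_invariant N hk hinv hidx θ hinvθ hfix
    have h1 : classInner (fun n : N => (χ₁ : H → ℂ) n) (θ : N → ℂ) ≠ 0 := by
      have : (fun n : N => (χ₁ : H → ℂ) n) = θ := funext hχ₁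
      rw [this, classInner_irr_self θ.2]
      exact one_ne_zero
    have h2 := huniq χ₁ h1 hχ₁f
    show indFun T (ψ₀ : T → ℂ) n = _
    rw [← h2]
    exact hχ₁ n

/-- From elements of odd order to all elements, modulo a normal subgroup of odd index. -/
theorem pow_mul_mem_of_odd_index (N : Subgroup H) [hN : N.Normal] (hidx : Odd N.index) (k : ℕ)
    (hk₂ : ∀ g : H, Odd (orderOf g) → g ^ k = g⁻¹) (g : H) : g ^ k * g ∈ N := by
  classical
  have ho : orderOf g ≠ 0 := (orderOf_pos g).ne'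
  obtain ⟨a, m, hm, hgm⟩ := Nat.exists_eq_two_pow_mul_odd ho
  have hcop : Nat.Coprime (2 ^ a) N.index := Nat.Coprime.pow_left a (Nat.coprime_two_left.mpr hidx)
  obtain ⟨u, hu⟩ : ∃ u, 2 ^ a * u ≡ 1 [MOD N.index] := by
    by_cases h1 : N.index = 1
    · exact ⟨0, by rw [h1]; exact Nat.modEq_one⟩
    · have h2 : 1 < N.index := by
        have := Nat.pos_of_ne_zero (Subgroup.index_ne_zero_of_finite (H := N))
        omega
      obtain ⟨u, hu⟩ := Nat.exists_mul_mod_eq_one_of_coprime hcop h2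
      refine ⟨u, ?_⟩
      unfold Nat.ModEq
      rw [hu.2, Nat.mod_eq_of_lt h2]
  set g₁ := g ^ (2 ^ a * u) with hg₁
  have h1 : Odd (orderOf g₁) := by
    refine Odd.of_dvd_nat hm (orderOf_dvd_of_pow_eq_one ?_)
    rw [hg₁, ← pow_mul]
    have : 2 ^ a * u * m = orderOf g * u := by
      rw [hgm]
      ring
    rw [this, pow_mul, pow_orderOf_eq_one, one_pow]
  have h2 := hk₂ g₁ h1
  have h3 : (g₁ : H ⧸ N) = (g : H ⧸ N) := by
    have h4 : ((g : H ⧸ N)) ^ N.index = 1 := by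
      rw [← QuotientGroup.mk_pow]
      exact (QuotientGroup.eq_one_iff _).mpr (Subgroup.pow_index_mem N g)
    have h5 : (g₁ : H ⧸ N) = (g : H ⧸ N) ^ (2 ^ a * u) := by
      rw [hg₁, QuotientGroup.mk_pow]
    rw [h5]
    have h6 : (g : H ⧸ N) ^ (2 ^ a * u) = (g : H ⧸ N) ^ 1 := (pow_eq_pow_iff_modEq).mpr
      (hu.of_dvd (orderOf_dvd_of_pow_eq_one h4))
    rw [h6, pow_one]
  rw [← QuotientGroup.eq_one_iff, QuotientGroup.mk_mul, QuotientGroup.mk_pow, ← h3, ← QuotientGroup.mk_pow, ← QuotientGroup.mk_mul, h2]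
  simp

end Inv

end Cfsg.Agent.Lib.CharExtra
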