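import Cfsg.Agent.Lib.CharExtra.PReg
import Cfsg.Agent.Lib.Block.Section

/-!
# The `p`-regular rank of a block
-/

set_option autoImplicit false
set_option linter.unusedSectionVars false
set_option linter.style.haveILetI false
set_option linter.unusedSimpArgs false
set_option linter.unnecessarySimpa false

open scoped ComplexConjugate TensorProduct

namespace Cfsg.Agent.Lib.CharExtra

open Cfsg Cfsg.Agent.Lib.Char Cfsg.Agent.Lib.Block Cfsg.Agent.Lib.Core

section Rank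

variable {G : Type*} [Group G] [Fintype G] {p : ℕ} [hp : Fact p.Prime] {M : Ideal AlgInt}

/-- The inner product with a fixed function, as a linear form. -/
noncomputable def innerL (χ : G → ℂ) : (G → ℂ) →ₗ[ℂ] ℂ where
  toFun f := classInner f χ
  map_add' f g := by
    unfold classInner
    rw [← mul_add, ← Finset.sum_add_distrib]
    congr 1
    refine Finset.sum_congr rfl fun x _ => ?_
    simp only [Pi.add_apply]
    ring
  map_smul' c f := by
    unfold classInner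
    simp only [RingHom.id_apply, smul_eq_mul, Pi.smul_apply]
    rw [mul_left_comm c]
    congr 1
    rw [Finset.mul_sum]
    refine Finset.sum_congr rfl fun x _ => ?_
    ring

theorem trace_smulRight_eq (φ : (G → ℂ) →ₗ[ℂ] ℂ) (v : G → ℂ) :
    LinearMap.trace ℂ (G → ℂ) (φ.smulRight v) = φ v := by
  have h1 : φ.smulRight v = dualTensorHom ℂ (G → ℂ) (G → ℂ) (φ ⊗ₜ v) := by
    ext i j
    simp [dualTensorHom_apply]
  rw [h1, LinearMap.trace_eq_contract_apply, contractLeft_apply]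

theorem pRegularPart_eq_ite (χ : G → ℂ) (x : G) :
    pRegularPart p χ x = if p ∣ orderOf x then 0 else χ x := by
  by_cases h : p ∣ orderOf x
  · rw [if_pos h]
    exact if_neg (fun h' => h' h)
  · rw [if_neg h]
    exact if_pos h

theorem pRegularPart_eq_of_regular (χ : G → ℂ) {x : G} (h : ¬ p ∣ orderOf x) :
    pRegularPart p χ x = χ x := by
  rw [pRegularPart_eq_ite, if_neg h]

theorem pRegularPart_eq_zero_of_dvd (χ : G → ℂ) {x : G} (h : p ∣ orderOf x) :
    pRegularPart p χ x = 0 := by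
  rw [pRegularPart_eq_ite, if_pos h]

theorem regPart_eq_smul_pRegularPart (χ : G → ℂ) (x : G) :
    regPart p χ x = ((p ^ (Nat.card G).factorization p : ℕ) : ℂ) * pRegularPart p χ x := by
  rw [pRegularPart_eq_ite]
  simp only [regPart]
  split_ifs <;> simp

theorem classInner_pRegularPart (χ : IrrCharacter G) (ξ : G → ℂ) :
    classInner (pRegularPart p (χ : G → ℂ)) ξ =
      (Nat.card G : ℂ)⁻¹ * ∑ x : G, (if p ∣ orderOf x then (0 : ℂ) else (χ : G → ℂ) x * conj (ξ x)) := by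
  unfold classInner
  congr 1
  refine Finset.sum_congr rfl fun x _ => ?_
  rw [pRegularPart_eq_ite]
  split_ifs <;> simp

/-- Coefficient of `χ⁰` along an irreducible character is `regCoeff/p^a`. -/
theorem classInner_pRegularPart_irr (χ ξ : IrrCharacter G) :
    classInner (pRegularPart p (χ : G → ℂ)) (ξ : G → ℂ) =
      (regCoeff p χ ξ : ℂ) / ((p ^ (Nat.card G).factorization p : ℕ) : ℂ) := by
  have hne : ((p ^ (Nat.card G).factorization p : ℕ) : ℂ) ≠ 0 := by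
    exact_mod_cast (pow_ne_zero _ hp.out.ne_zero)
  rw [eq_div_iff hne, ← regCoeff_spec, classInner_pRegularPart, classInner_regPart]
  ring

open Classical in
/-- The operator `f ↦ Σ_{χ∈B} [f,χ] χ⁰`. -/
noncomputable def blockProj (p : ℕ) (B : Set (IrrCharacter G)) : (G → ℂ) →ₗ[ℂ] (G → ℂ) :=
  ∑ χ : IrrCharacter G, if χ ∈ B then (innerL (χ : G → ℂ)).smulRight (pRegularPart p (χ : G → ℂ)) else 0

open Classical in
theorem blockProj_apply (B : Set (IrrCharacter G)) (f : G → ℂ) :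
    blockProj p B f = ∑ χ : IrrCharacter G, if χ ∈ B then classInner f (χ : G → ℂ) • pRegularPart p (χ : G → ℂ) else 0 := by
  unfold blockProj
  rw [LinearMap.sum_apply]
  refine Finset.sum_congr rfl fun χ _ => ?_
  split_ifs
  · rfl
  · rfl

open Classical in
theorem trace_blockProj (B : Set (IrrCharacter G)) :
    LinearMap.trace ℂ (G → ℂ) (blockProj p B) =
      ∑ χ : IrrCharacter G, if χ ∈ B then classInner (pRegularPart p (χ : G → ℂ)) (χ : G → ℂ) else 0 := by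
  unfold blockProj
  rw [map_sum]
  refine Finset.sum_congr rfl fun χ _ => ?_
  split_ifs
  · rw [trace_smulRight_eq]
    rfl
  · simp

theorem isProj_blockProj (hM : IsPModular p M) {B : Set (IrrCharacter G)} (hB : IsPBlock M B) :
    LinearMap.IsProj (Submodule.span ℂ ((fun χ : IrrCharacter G => pRegularPart p (χ : G → ℂ)) '' B))
      (blockProj p B) := by
  classical
  have hne : ((p ^ (Nat.card G).factorization p : ℕ) : ℂ) ≠ 0 := by
    exact_mod_cast (pow_ne_zero _ hp.out.ne_zero)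
  constructor
  · intro f
    rw [blockProj_apply]
    refine Submodule.sum_mem _ fun χ _ => ?_
    split_ifs with h
    · refine Submodule.smul_mem _ _ (Submodule.subset_span ?_)
      exact ⟨χ, h, rfl⟩
    · exact Submodule.zero_mem _
  · intro x hx
    have h1 : Set.EqOn (blockProj p B) (LinearMap.id : (G → ℂ) →ₗ[ℂ] (G → ℂ))
        ((fun χ : IrrCharacter G => pRegularPart p (χ : G → ℂ)) '' B) := by
      rintro _ ⟨ψ, hψ, rfl⟩
      show blockProj p B (pRegularPart p (ψ : G → ℂ)) = pRegularPart p (ψ : G → ℂ)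
      rw [blockProj_apply]
      funext x
      simp only [Finset.sum_apply]
      by_cases hx : p ∣ orderOf x
      · rw [pRegularPart_eq_zero_of_dvd _ hx]
        refine Finset.sum_eq_zero fun χ _ => ?_
        split_ifs
        · simp [pRegularPart_eq_zero_of_dvd _ hx]
        · rfl
      · rw [pRegularPart_eq_of_regular _ hx]
        have h2 := regPart_eq_sum_block hM hB hψ x
        have h3 := regPart_eq_smul_pRegularPart (p := p) (ψ : G → ℂ) x
        rw [pRegularPart_eq_of_regular _ hx] at h3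
        rw [h3] at h2
        apply mul_left_cancel₀ hne
        rw [h2, Finset.mul_sum]
        refine Finset.sum_congr rfl fun χ _ => ?_
        split_ifs
        · simp only [Pi.smul_apply, smul_eq_mul]
          rw [pRegularPart_eq_of_regular _ hx, classInner_pRegularPart_irr]
          field_simp
        · simp
    have h2 := LinearMap.eqOn_span h1 hx
    simpa using h2

/-- **S4667 core**. -/
theorem card_mul_blockRank (hM : IsPModular p M) {B : Set (IrrCharacter G)} (hB : IsPBlock M B) :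
    (Nat.card G : ℂ) * (blockRank p B : ℂ) =
      ∑ x : G, ∑ᶠ χ ∈ B, pRegularPart p (χ : G → ℂ) x * (χ : G → ℂ) x⁻¹ := by
  classical
  have h1 := (isProj_blockProj hM hB).trace
  rw [trace_blockProj] at h1
  have h2 : (blockRank p B : ℂ) = ∑ χ : IrrCharacter G, if χ ∈ B then classInner (pRegularPart p (χ : G → ℂ)) (χ : G → ℂ) else 0 :=
    h1.symm
  have hG : (Nat.card G : ℂ) ≠ 0 := by exact_mod_cast Nat.card_pos.ne'
  rw [h2]
  simp only [finsum_mem_irr]
  rw [Finset.sum_comm, Finset.mul_sum]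
  refine Finset.sum_congr rfl fun χ _ => ?_
  split_ifs with hχ
  · unfold classInner
    rw [← mul_assoc, mul_inv_cancel₀ hG, one_mul]
    refine Finset.sum_congr rfl fun x _ => ?_
    rw [IsCharacter.map_inv' (IsIrrCharacter.isCharacter χ.2)]
  · simp

open Classical in
/-- The exact power of `p` in the sum of the squares of the degrees of a block. -/
theorem factorization_sum_degree_sq (hM : IsPModular p M) {B : Set (IrrCharacter G)} (hB : IsPBlock M B) :
    (∑ ξ : IrrCharacter G, (if ξ ∈ B then charDegree (ξ : G → ℂ) ^ 2 else 0)).factorization p =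
      2 * (Nat.card G).factorization p - blockDefect p B := by
  obtain ⟨χ₀, h₀, h₁, hmin⟩ := exists_min_height hB hM
  obtain ⟨A₀, n', -, -, hs, hn'⟩ := rank_one_core hM hB h₀ hmin
  rw [factorization_eq_of_int_eq hs hn']
  unfold blockDefect
  rw [← h₁]
  have := factorization_le_card (p := p) χ₀
  omega

theorem exists_bezout {ι : Type*} [DecidableEq ι] (S : Finset ι) (f : ι → ℕ) :
    ∃ n : ι → ℤ, ((S.gcd f : ℕ) : ℤ) = ∑ i ∈ S, n i * (f i : ℤ) := by
  induction S using Finset.induction_on with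
  | empty => exact ⟨0, by simp⟩
  | insert a s ha ih =>
    obtain ⟨n, hn⟩ := ih
    rw [Finset.gcd_insert]
    have h1 := Nat.gcd_eq_gcd_ab (f a) (s.gcd f)
    refine ⟨fun i => if i = a then Nat.gcdA (f a) (s.gcd f) else Nat.gcdB (f a) (s.gcd f) * n i, ?_⟩
    rw [Finset.sum_insert ha]
    beta_reduce
    rw [if_pos rfl]
    have h2 : ∑ i ∈ s, (if i = a then Nat.gcdA (f a) (s.gcd f) else Nat.gcdB (f a) (s.gcd f) * n i) * (f i : ℤ) =
        Nat.gcdB (f a) (s.gcd f) * ∑ i ∈ s, n i * (f i : ℤ) := by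
      rw [Finset.mul_sum]
      refine Finset.sum_congr rfl fun i hi => ?_
      rw [if_neg (fun h : i = a => ha (h ▸ hi))]
      ring
    rw [h2, ← hn]
    show ((gcd (f a) (s.gcd f) : ℕ) : ℤ) = _
    rw [show gcd (f a) (s.gcd f) = Nat.gcd (f a) (s.gcd f) from rfl, h1]
    ring

/-- Members of a block of rank one are proportional on the `p`-regular elements. -/
theorem proportional_of_rank_one {B : Set (IrrCharacter G)} (hl : blockRank p B = 1) {χ₀ χ : IrrCharacter G}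
    (h₀ : χ₀ ∈ B) (hχ : χ ∈ B) {x : G} (hx : ¬ p ∣ orderOf x) :
    ((charDegree (χ₀ : G → ℂ) : ℕ) : ℂ) * (χ : G → ℂ) x = (charDegree (χ : G → ℂ) : ℕ) * (χ₀ : G → ℂ) x := by
  classical
  obtain ⟨V, hV⟩ : ∃ V, V = Submodule.span ℂ ((fun χ : IrrCharacter G => pRegularPart p (χ : G → ℂ)) '' B) := ⟨_, rfl⟩
  have hl' : Module.finrank ℂ V = 1 := by rw [hV]; exact hl
  have hmem : ∀ ψ ∈ B, pRegularPart p (ψ : G → ℂ) ∈ V := fun ψ hψ => by
    rw [hV]; exact Submodule.subset_span ⟨ψ, hψ, rfl⟩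
  have h1 : ¬ p ∣ orderOf (1 : G) := by simpa using hp.out.one_lt.ne'
  have hv : (⟨pRegularPart p (χ₀ : G → ℂ), hmem χ₀ h₀⟩ : V) ≠ 0 := by
    intro h
    have h2 := congrArg (fun v : V => (v : G → ℂ) 1) h
    simp only [ZeroMemClass.coe_zero, Pi.zero_apply] at h2
    rw [pRegularPart_eq_of_regular _ h1] at h2
    exact map_one_ne_zero_of_irr χ₀.2 h2
  obtain ⟨c, hc⟩ := (finrank_eq_one_iff_of_nonzero' _ hv).mp hl' ⟨pRegularPart p (χ : G → ℂ), hmem χ hχ⟩
  have hc' : c • pRegularPart p (χ₀ : G → ℂ) = pRegularPart p (χ : G → ℂ) := congrArg Subtype.val hc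
  have hat : ∀ y : G, ¬ p ∣ orderOf y → c * (χ₀ : G → ℂ) y = (χ : G → ℂ) y := by
    intro y hy
    have h2 := congrFun hc' y
    simp only [Pi.smul_apply, smul_eq_mul] at h2
    rwa [pRegularPart_eq_of_regular _ hy, pRegularPart_eq_of_regular _ hy] at h2
  have h2 := hat 1 h1
  rw [map_one_eq_charDegree (IsIrrCharacter.isCharacter χ₀.2), map_one_eq_charDegree (IsIrrCharacter.isCharacter χ.2)] at h2
  rw [← hat x hx, ← h2]
  ring

/-- **S4675 core**. -/
theorem exists_of_rank_one (hM : IsPModular p M) {B : Set (IrrCharacter G)} (hB : IsPBlock M B)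
    (hl : blockRank p B = 1) :
    ∃ (φ : G → ℂ) (d : IrrCharacter G → ℕ),
      (∃ n : IrrCharacter G → ℤ, ∀ x : G, IsPRegular p x → φ x = ∑ᶠ ψ ∈ B, (n ψ : ℂ) * (ψ : G → ℂ) x) ∧
      (∀ χ ∈ B, ∀ x : G, IsPRegular p x → (χ : G → ℂ) x = (d χ : ℂ) * φ x) ∧
      ∑ᶠ χ ∈ B, d χ ^ 2 = p ^ blockDefect p B := by
  classical
  have := isPModular_isPrime hM
  obtain ⟨χ₁, h₁, h₁', hmin⟩ := exists_min_height hB hM
  obtain ⟨S, hS⟩ : ∃ S : Finset (IrrCharacter G), S = Finset.univ.filter (· ∈ B) := ⟨_, rfl⟩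
  have hSmem : ∀ ξ, ξ ∈ S ↔ ξ ∈ B := fun ξ => by simp [hS]
  obtain ⟨deg, hdeg⟩ : ∃ deg : IrrCharacter G → ℕ, deg = fun ξ : IrrCharacter G => charDegree (ξ : G → ℂ) := ⟨_, rfl⟩
  have hdeg1 : ∀ ξ : IrrCharacter G, (ξ : G → ℂ) 1 = (deg ξ : ℂ) := fun ξ => by
    rw [hdeg]; exact map_one_eq_charDegree (IsIrrCharacter.isCharacter ξ.2)
  have hdegpos : ∀ ξ : IrrCharacter G, 0 < deg ξ := fun ξ => by
    rw [hdeg]; exact charDegree_pos_of_irr ξ.2
  have hone : ¬ p ∣ orderOf (1 : G) := by simpa using hp.out.one_lt.ne'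
  obtain ⟨g, hg⟩ : ∃ g, g = S.gcd deg := ⟨_, rfl⟩
  have hgdvd : ∀ ξ ∈ B, g ∣ deg ξ := fun ξ hξ => hg ▸ Finset.gcd_dvd ((hSmem ξ).mpr hξ)
  have hg0 : g ≠ 0 := by
    rintro h0
    have := hgdvd χ₁ h₁
    rw [h0, zero_dvd_iff] at this
    exact (hdegpos χ₁).ne' this
  have hg0c : (g : ℂ) ≠ 0 := by exact_mod_cast hg0
  obtain ⟨n, hn⟩ := exists_bezout S deg
  rw [← hg] at hn
  obtain ⟨d, hd⟩ : ∃ d : IrrCharacter G → ℕ, d = fun ξ => deg ξ / g := ⟨_, rfl⟩
  have hdd : ∀ ξ ∈ B, deg ξ = g * d ξ := fun ξ hξ => by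
    rw [hd]; exact (Nat.mul_div_cancel' (hgdvd ξ hξ)).symm
  have hd0 : ∀ ξ ∈ B, d ξ ≠ 0 := fun ξ hξ h0 => by
    have h1 := hdd ξ hξ
    rw [h0, mul_zero] at h1
    exact (hdegpos ξ).ne' h1
  -- φ
  obtain ⟨φ, hφdef⟩ : ∃ φ : G → ℂ, φ = fun x => ∑ ψ ∈ S, (n ψ : ℂ) * pRegularPart p (ψ : G → ℂ) x := ⟨_, rfl⟩
  have hφreg : ∀ x : G, ¬ p ∣ orderOf x → φ x = ∑ ψ ∈ S, (n ψ : ℂ) * (ψ : G → ℂ) x := by
    intro x hx
    rw [hφdef]
    exact Finset.sum_congr rfl fun ψ _ => by rw [pRegularPart_eq_of_regular _ hx]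
  have hφsing : ∀ x : G, p ∣ orderOf x → φ x = 0 := by
    intro x hx
    rw [hφdef]
    exact Finset.sum_eq_zero fun ψ _ => by rw [pRegularPart_eq_zero_of_dvd _ hx, mul_zero]
  have hdegφ : ∀ χ ∈ B, ∀ x : G, ¬ p ∣ orderOf x → (deg χ : ℂ) * φ x = (g : ℂ) * (χ : G → ℂ) x := by
    intro χ hχ x hx
    rw [hφreg x hx, Finset.mul_sum]
    have hn' : (g : ℂ) = ∑ ψ ∈ S, (n ψ : ℂ) * (deg ψ : ℂ) := by
      have := congrArg (fun z : ℤ => (z : ℂ)) hn
      simpa using this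
    rw [hn', Finset.sum_mul]
    refine Finset.sum_congr rfl fun ψ hψ => ?_
    have h1 := proportional_of_rank_one hl hχ ((hSmem ψ).mp hψ) hx
    have h2 : deg χ = charDegree (χ : G → ℂ) := by rw [hdeg]
    have h3 : deg ψ = charDegree (ψ : G → ℂ) := by rw [hdeg]
    rw [← h2, ← h3] at h1
    rw [mul_left_comm, h1]
    ring
  have hχφ : ∀ χ ∈ B, ∀ x : G, ¬ p ∣ orderOf x → (χ : G → ℂ) x = (d χ : ℂ) * φ x := by
    intro χ hχ x hx
    have h1 := hdegφ χ hχ x hx
    rw [hdd χ hχ] at h1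
    push_cast at h1
    apply mul_left_cancel₀ hg0c
    rw [← h1]
    ring
  have hχφ' : ∀ χ ∈ B, ∀ x : G, pRegularPart p (χ : G → ℂ) x = (d χ : ℂ) * φ x := by
    intro χ hχ x
    by_cases hx : p ∣ orderOf x
    · rw [pRegularPart_eq_zero_of_dvd _ hx, hφsing x hx, mul_zero]
    · rw [pRegularPart_eq_of_regular _ hx, hχφ χ hχ x hx]
  -- the coefficients of φ
  obtain ⟨f, hf⟩ : ∃ f : IrrCharacter G → ℂ, f = fun ψ : IrrCharacter G => classInner φ (ψ : G → ℂ) := ⟨_, rfl⟩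
  have hcoef : ∀ χ ∈ B, ∀ ψ : IrrCharacter G, (regCoeff p χ ψ : ℂ) =
      ((p ^ (Nat.card G).factorization p : ℕ) : ℂ) * ((d χ : ℂ) * f ψ) := by
    intro χ hχ ψ
    have hne : ((p ^ (Nat.card G).factorization p : ℕ) : ℂ) ≠ 0 := by
      exact_mod_cast (pow_ne_zero _ hp.out.ne_zero)
    have h1 := classInner_pRegularPart_irr (p := p) χ ψ
    rw [eq_div_iff hne] at h1
    rw [← h1, hf]
    have h2 : pRegularPart p (χ : G → ℂ) = (d χ : ℂ) • φ := by
      funext x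
      rw [hχφ' χ hχ x]
      rfl
    rw [h2]
    have h3 := (innerL (ψ : G → ℂ)).map_smul (d χ : ℂ) φ
    have h4 : classInner ((d χ : ℂ) • φ) (ψ : G → ℂ) = (d χ : ℂ) * classInner φ (ψ : G → ℂ) := h3
    rw [h4]
    ring
  have hne : ((p ^ (Nat.card G).factorization p : ℕ) : ℂ) ≠ 0 := by
    exact_mod_cast (pow_ne_zero _ hp.out.ne_zero)
  have hsymm : ∀ χ ∈ B, ∀ ψ ∈ B, (d χ : ℂ) * f ψ = (d ψ : ℂ) * f χ := by
    intro χ hχ ψ hψ
    apply mul_left_cancel₀ hne
    rw [← hcoef χ hχ ψ, ← hcoef ψ hψ χ, regCoeff_comm]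
  have hf0 : ∀ ψ, ψ ∉ B → f ψ = 0 := by
    intro ψ hψ
    have h1 := hcoef χ₁ h₁ ψ
    rw [regCoeff_eq_zero_of_notMem hM hB h₁ hψ] at h1
    have h2 : (d χ₁ : ℂ) ≠ 0 := by exact_mod_cast hd0 χ₁ h₁
    rw [Int.cast_zero] at h1
    exact (mul_eq_zero.mp ((mul_eq_zero.mp h1.symm).resolve_left hne)).resolve_left h2
  have hφcf : IsClassFunction G φ := by
    intro y x
    have h1 : orderOf (x * y * x⁻¹) = orderOf y := by
      simpa using orderOf_eq_of_isConj (isConj_iff.mpr ⟨x, rfl⟩ : IsConj y (x * y * x⁻¹)).symm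
    by_cases hy : p ∣ orderOf y
    · rw [hφsing y hy, hφsing _ (h1 ▸ hy)]
    · rw [hφreg y hy, hφreg _ (by rwa [h1])]
      refine Finset.sum_congr rfl fun ψ _ => ?_
      rw [IsCharacter.isClassFunction (IsIrrCharacter.isCharacter ψ.2) y x]
  have hexp : ∀ x, φ x = ∑ ψ ∈ S, f ψ * (ψ : G → ℂ) x := by
    intro x
    have h1 := congrFun (classFunction_eq_sum φ hφcf) x
    rw [h1, Finset.sum_apply, hS, Finset.sum_filter]
    refine Finset.sum_congr rfl fun ψ _ => ?_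
    split_ifs with h
    · simp [hf]
    · have := hf0 ψ h
      rw [hf] at this
      simp [this]
  have hφ1 : φ 1 = (g : ℂ) := by
    have h1 := hdegφ χ₁ h₁ 1 hone
    rw [hdeg1] at h1
    have h2 : (deg χ₁ : ℂ) ≠ 0 := by exact_mod_cast (hdegpos χ₁).ne'
    apply mul_left_cancel₀ h2
    rw [h1]
    ring
  have hsum1 : ∑ ψ ∈ S, f ψ * (d ψ : ℂ) = 1 := by
    have h1 := hexp 1
    rw [hφ1] at h1
    apply mul_left_cancel₀ hg0c
    rw [mul_one]
    conv_rhs => rw [h1]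
    rw [Finset.mul_sum]
    refine Finset.sum_congr rfl fun ψ hψ => ?_
    rw [hdeg1, hdd ψ ((hSmem ψ).mp hψ)]
    push_cast
    ring
  obtain ⟨N, hN⟩ : ∃ N : ℕ, N = ∑ ψ ∈ S, d ψ ^ 2 := ⟨_, rfl⟩
  have hfN : ∀ χ ∈ B, f χ * (N : ℂ) = (d χ : ℂ) := by
    intro χ hχ
    conv_rhs => rw [← mul_one (d χ : ℂ), ← hsum1]
    rw [hN]
    push_cast
    rw [Finset.mul_sum, Finset.mul_sum]
    refine Finset.sum_congr rfl fun ψ hψ => ?_
    rw [← mul_assoc, hsymm χ hχ ψ ((hSmem ψ).mp hψ)]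
    ring
  have hN0 : (N : ℂ) ≠ 0 := by
    intro h0
    have h1 := hfN χ₁ h₁
    rw [h0, mul_zero] at h1
    have h2 : (d χ₁ : ℂ) ≠ 0 := by exact_mod_cast hd0 χ₁ h₁
    exact h2 h1.symm
  have hN0' : N ≠ 0 := by
    rintro rfl
    simp at hN0
  have hNreg : ∀ χ ∈ B, ∀ ψ ∈ B, (N : ℤ) * regCoeff p χ ψ =
      (p : ℤ) ^ (Nat.card G).factorization p * (d χ : ℤ) * (d ψ : ℤ) := by
    intro χ hχ ψ hψ
    have h1 := hcoef χ hχ ψ
    have h2 : (N : ℂ) * (regCoeff p χ ψ : ℂ) = (p : ℂ) ^ (Nat.card G).factorization p * (d χ : ℂ) * (d ψ : ℂ) := by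
      rw [h1, ← hfN ψ hψ]
      push_cast
      ring
    exact_mod_cast h2
  -- Bezout for d
  have hnd : ∑ ψ ∈ S, n ψ * (d ψ : ℤ) = 1 := by
    have h0 : (g : ℤ) ≠ 0 := by exact_mod_cast hg0
    apply mul_left_cancel₀ h0
    rw [mul_one]
    conv_rhs => rw [hn]
    rw [Finset.mul_sum]
    refine Finset.sum_congr rfl fun ψ hψ => ?_
    rw [hdd ψ ((hSmem ψ).mp hψ)]
    push_cast
    ring
  -- divisibility
  obtain ⟨b₀, hb₀⟩ : ∃ b₀, b₀ = (charDegree (χ₁ : G → ℂ)).factorization p := ⟨_, rfl⟩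
  rw [← hb₀] at h₁' hmin
  have hab : b₀ ≤ (Nat.card G).factorization p := hb₀ ▸ factorization_le_card χ₁
  have hdef : blockDefect p B = (Nat.card G).factorization p - b₀ := by
    unfold blockDefect; rw [← h₁']
  have hdvd : ∀ χ ∈ B, ∀ ψ, (p : ℤ) ^ b₀ ∣ regCoeff p χ ψ := fun χ hχ ψ =>
    dvd_trans (pow_dvd_pow _ (hmin χ hχ)) (pow_dvd_regCoeff χ ψ)
  have hpb : (p : ℤ) ^ b₀ ≠ 0 := pow_ne_zero _ (by exact_mod_cast hp.out.ne_zero)
  have hNdvd : (N : ℤ) ∣ (p : ℤ) ^ blockDefect p B := by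
    refine ⟨∑ χ ∈ S, ∑ ψ ∈ S, n χ * n ψ * (regCoeff p χ ψ / (p : ℤ) ^ b₀), ?_⟩
    apply mul_left_cancel₀ hpb
    rw [← pow_add, hdef, add_tsub_cancel_of_le hab]
    rw [← mul_assoc, mul_comm _ (N : ℤ), mul_assoc, Finset.mul_sum, Finset.mul_sum]
    have h1 : ∀ χ ∈ S, (N : ℤ) * ((p : ℤ) ^ b₀ * ∑ ψ ∈ S, n χ * n ψ * (regCoeff p χ ψ / (p : ℤ) ^ b₀)) =
        (p : ℤ) ^ (Nat.card G).factorization p * (n χ * (d χ : ℤ)) := by
      intro χ hχ
      rw [Finset.mul_sum, Finset.mul_sum]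
      have h2 : ∀ ψ ∈ S, (N : ℤ) * ((p : ℤ) ^ b₀ * (n χ * n ψ * (regCoeff p χ ψ / (p : ℤ) ^ b₀))) =
          (p : ℤ) ^ (Nat.card G).factorization p * (n χ * (d χ : ℤ)) * (n ψ * (d ψ : ℤ)) := by
        intro ψ hψ
        have h3 := hNreg χ ((hSmem χ).mp hχ) ψ ((hSmem ψ).mp hψ)
        have h4 := Int.mul_ediv_cancel' (hdvd χ ((hSmem χ).mp hχ) ψ)
        have h5 : (N : ℤ) * ((p : ℤ) ^ b₀ * (n χ * n ψ * (regCoeff p χ ψ / (p : ℤ) ^ b₀))) =
            n χ * n ψ * ((N : ℤ) * ((p : ℤ) ^ b₀ * (regCoeff p χ ψ / (p : ℤ) ^ b₀))) := by ring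
        rw [h5, h4, h3]
        ring
      rw [Finset.sum_congr rfl h2, ← Finset.mul_sum, hnd, mul_one]
    rw [Finset.sum_congr rfl h1, ← Finset.mul_sum, hnd, mul_one]
  have hNdvd' : N ∣ p ^ blockDefect p B := by exact_mod_cast hNdvd
  obtain ⟨e, he, hNe⟩ := (Nat.dvd_prime_pow hp.out).mp hNdvd'
  -- the valuation
  have hsq : ∑ ξ : IrrCharacter G, (if ξ ∈ B then charDegree (ξ : G → ℂ) ^ 2 else 0) = g ^ 2 * N := by
    rw [hN, Finset.mul_sum, hS, Finset.sum_filter]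
    refine Finset.sum_congr rfl fun ξ _ => ?_
    split_ifs with h
    · have h1 := hdd ξ h
      rw [hdeg] at h1
      simp only at h1
      rw [h1]
      ring
    · rfl
  have hfac := factorization_sum_degree_sq hM hB
  rw [hsq, Nat.factorization_mul (pow_ne_zero _ hg0) hN0', Nat.factorization_pow, hNe,
    Nat.factorization_pow, hp.out.factorization, hdef] at hfac
  simp only [Finsupp.coe_add, Finsupp.coe_smul, Pi.add_apply, Pi.smul_apply, smul_eq_mul,
    Finsupp.single_eq_same, mul_one] at hfac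
  have hgb : g.factorization p ≤ b₀ := by
    have h1 := hgdvd χ₁ h₁
    have h2 : deg χ₁ = charDegree (χ₁ : G → ℂ) := by rw [hdeg]
    rw [hb₀, ← h2]
    exact (Nat.factorization_le_iff_dvd hg0 (hdegpos χ₁).ne').mpr h1 p
  have heq : e = blockDefect p B := by
    rw [hdef] at he ⊢
    omega
  refine ⟨φ, d, ⟨n, fun x hx => ?_⟩, fun χ hχ x hx => hχφ χ hχ x hx, ?_⟩
  · rw [hφreg x hx, finsum_mem_irr, hS, Finset.sum_filter]
  · rw [finsum_mem_irr, ← heq, ← hNe, hN, hS, Finset.sum_filter]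

end Rank

end Cfsg.Agent.Lib.CharExtra
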