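import Cfsg.Agent.Lib.BPair.Third
import Cfsg.Agent.Lib.Block.Klein
import Cfsg.Agent.Lib.Block.Kernel
import Cfsg.Agent.Lib.Block.Quot
import Cfsg.Agent.Lib.Char.Clifford2
import Cfsg.Agent.Lib.Degree.GaloisChar

/-!
# Coefficients of the principal idempotent on a normal subgroup

The projection of the principal block idempotent to a normal subgroup `N` has coefficient sum outside
the local ideal; consequently a `p'`-degree character of the principal block of `N` that extends to
`N P` lies under a `p'`-degree character of the principal block of `G`.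
-/

set_option autoImplicit false
set_option linter.unusedSectionVars false
set_option linter.unusedSimpArgs false
set_option linter.unusedVariables false

open scoped ComplexConjugate
open Cfsg MonoidAlgebra
open Cfsg.Agent.Lib.Block Cfsg.Agent.Lib.Char Cfsg.Agent.Lib.BPair

namespace Cfsg.Agent.Lib.CharExtra

attribute [local instance] Cfsg.Agent.Lib.BPair.subFintype

section Coeff

variable {G : Type*} [Group G] [Fintype G] {M : Ideal AlgInt} {p : ℕ} [hp : Fact p.Prime]

/-- The Brauer image of the principal idempotent is the principal idempotent of the centralizer,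
modulo the local ideal. -/
theorem localIdealCoeff_resAlg_principal (hM : IsPModular p M) {Q : Subgroup G} (hQ : IsPGroup p Q) :
    LocalIdealCoeff M (resAlg (Cen Q) (blockElt (principalBlock M G)) - blockElt (principalBlock M (Cen Q))) := by
  classical
  have hprime := isPModular_isPrime hM
  set e := blockElt (principalBlock M G) with he
  set f := blockElt (principalBlock M (Cen Q)) with hf
  set x := resAlg (Cen Q) e with hx
  have hb : IsPBlock M (principalBlock M G) := isPBlock_principalBlock
  have hel : LocalCoeff M e := localCoeff_blockElt (isBlockUnion_of_isPBlock hb)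
  have hec : IsCentralElt e := isCentralElt_blockElt (principalBlock M G)
  have hxc : IsCentralElt x := isCentralElt_resAlg _ hec
  have hxl : LocalCoeff M x := localCoeff_resAlg _ hel
  have hfb : IsPBlock M (principalBlock M (Cen Q)) := isPBlock_principalBlock
  have hfl : LocalCoeff M f := localCoeff_blockElt (isBlockUnion_of_isPBlock hfb)
  have hfc : IsCentralElt f := isCentralElt_blockElt (principalBlock M (Cen Q))
  have hff : f * f = f := blockElt_mul_self _
  have hee : e * e = e := blockElt_mul_self _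
  have hxx : LocalIdealCoeff M (x * x - x) := by
    have h := localIdealCoeff_resAlg_mul_sub hM hQ (hec.isInvBy Q) (hec.isInvBy Q) hel hel
    rw [hee] at h
    have e2 : x * x - x = -(x - x * x) := by abel
    rw [e2]
    exact localIdealCoeff_neg h
  have hpair : IsBrauerPairOf p M (principalBlock M G) Q (principalBlock M (Cen Q)) :=
    (isBrauerPairOf_principal_iff hM hQ hfb).2 rfl
  have hone : ∀ η ∈ principalBlock M (Cen Q), MemLocalIdeal M (om (η : Cen Q → ℂ) x - 1) :=
    (isBrauerPairOf_iff.1 hpair).2.2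
  have hxf : LocalIdealCoeff M (x * f - f) := localIdealCoeff_mul_blockElt_sub hxc hxl hxx hfb hone
  have hcomm : f * x = x * f := (isCentralElt_commute hxc f).symm
  refine localIdealCoeff_of_idem_of_om (isCentralElt_sub hxc hfc) (localCoeff_sub hxl hfl) ?_ ?_
  · have e1 : (x - f) * (x - f) - (x - f) = (x * x - x) - ((x * f - f) + (x * f - f)) := by
      have h4 : (x - f) * (x - f) = x * x - x * f - f * x + f * f := by noncomm_ring
      rw [h4, hcomm, hff]
      abel
    rw [e1]
    exact localIdealCoeff_sub hxx (localIdealCoeff_add hxf hxf)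
  · intro ξ
    rw [om_sub]
    by_cases hξ : ξ ∈ principalBlock M (Cen Q)
    · rw [hf, om_blockElt_of_mem hξ]
      exact hone ξ hξ
    · rw [hf, om_blockElt_of_notMem hξ, sub_zero]
      rcases om_idem_cases hM hQ ξ (hec.isInvBy Q) (hec.isInvBy _) hel hee with h | h
      · exact h
      · exfalso
        have hbo : IsPBlock M (blockOf M (ξ : Cen Q → ℂ)) := isPBlock_blockOf ξ
        have hp2 : IsBrauerPairOf p M (principalBlock M G) Q (blockOf M (ξ : Cen Q → ℂ)) :=
          isBrauerPairOf_iff.2 ⟨⟨hQ, hbo⟩, hb, fun ξ' hξ' =>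
            om_block_congr hbo hξ' (mem_blockOf_self ξ) (hec.isInvBy _) hel h⟩
        have h3 := (isBrauerPairOf_principal_iff hM hQ hbo).1 hp2
        apply hξ
        rw [← h3]
        exact mem_blockOf_self ξ

theorem blockCoeff_principal_of_mem (hM : IsPModular p M) (K : Subgroup G) [hKn : K.Normal] (hK : ¬ p ∣ Nat.card K)
    (hidx : ∃ k : ℕ, K.index = p ^ k) {g : G} (hg : g ∈ K) :
    blockCoeff (principalBlock M G) g = (Nat.card K : ℂ)⁻¹ := by
  classical
  have hprime := isPModular_isPrime hM
  rw [blockCoeff_eq_sum, principal_of_pNilpotent K hM hK hidx]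
  have h1 := Cfsg.Agent.Lib.Degree.sum_kerContains_degree_sq (G := G) K
  rw [Finset.sum_filter] at h1
  have h6 : ∑ χ : IrrCharacter G, (if χ ∈ {χ : IrrCharacter G | ∀ n ∈ K, (χ : G → ℂ) n = (χ : G → ℂ) 1} then (χ : G → ℂ) 1 * conj ((χ : G → ℂ) g) else 0) = (K.index : ℂ) := by
    rw [← h1]
    refine Finset.sum_congr rfl fun χ _ => ?_
    by_cases h : Cfsg.Agent.Lib.Degree.KerContains K (χ : G → ℂ)
    · rw [if_pos (show χ ∈ {χ : IrrCharacter G | ∀ n ∈ K, (χ : G → ℂ) n = (χ : G → ℂ) 1} from h), if_pos h, h g hg]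
      obtain ⟨k, hk⟩ := IsCharacter.map_one_eq (IsIrrCharacter.isCharacter χ.2)
      rw [hk]
      simp
      ring
    · rw [if_neg (show χ ∉ {χ : IrrCharacter G | ∀ n ∈ K, (χ : G → ℂ) n = (χ : G → ℂ) 1} from h), if_neg h]
  have h3 : Nat.card K * K.index = Nat.card G := Subgroup.card_mul_index K
  have h4 : (Nat.card K : ℂ) ≠ 0 := by exact_mod_cast Nat.card_pos.ne'
  have h5 : (K.index : ℂ) ≠ 0 := by exact_mod_cast Subgroup.index_ne_zero_of_finite
  have h8 : (Nat.card K : ℂ)⁻¹ = (Nat.card G : ℂ)⁻¹ * (K.index : ℂ) := by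
    rw [← h3]
    push_cast
    field_simp
  rw [h8]
  congr 1
  convert h6

theorem blockCoeff_principal_of_notMem (hM : IsPModular p M) (K : Subgroup G) [hKn : K.Normal]
    (hidx : ∃ k : ℕ, K.index = p ^ k) {g : G} (hg : g ∉ K) :
    blockCoeff (principalBlock M G) g = 0 := by
  have hprime := isPModular_isPrime hM
  have h1 : p ∣ orderOf g := by
    by_contra h
    exact hg (mem_of_regular_of_index K hidx h)
  rw [← coeff_blockElt]
  exact coeff_blockElt_of_singular hM (isBlockUnion_of_isPBlock isPBlock_principalBlock) g h1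

/-- The centralizer of a Sylow subgroup has a normal `p`-complement. -/
theorem exists_complement_cen (P : Sylow p G) :
    ∃ K : Subgroup (Cen (P : Subgroup G)), K.Normal ∧ ¬ p ∣ Nat.card K ∧ ∃ k, K.index = p ^ k := by
  classical
  let S : Sylow p (Cen (P : Subgroup G)) := default
  refine exists_complement_of_burnside S ?_
  intro c _
  rw [Subgroup.mem_centralizer_iff]
  intro s hs
  have hs2 : ((s : Cen (P : Subgroup G)) : G) ∈ (P : Subgroup G) := by
    refine mem_sylow_of_normalizes P ?_ ?_
    · obtain ⟨k, hk⟩ := (IsPGroup.iff_orderOf.1 S.isPGroup') ⟨s, hs⟩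
      refine ⟨k, ?_⟩
      rw [Subgroup.orderOf_coe, ← hk]
      exact (Subgroup.orderOf_mk _ _).symm
    · exact Subgroup.centralizer_le_normalizer _ s.2
  apply Subtype.ext
  exact ((Subgroup.mem_centralizer_iff.mp c.2) _ hs2)

/-- The coefficient sum over a normal subgroup of the principal idempotent is a unit at the local ideal. -/
theorem sum_normal_principal_not_mem (hM : IsPModular p M) (N : Subgroup G) [hN : N.Normal] (P : Sylow p G) :
    ¬ MemLocalIdeal M (∑ n : N, blockCoeff (principalBlock M G) (n : G)) := by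
  classical
  have hprime := isPModular_isPrime hM
  set a := blockCoeff (principalBlock M G) with ha
  set C := Cen (P : Subgroup G) with hC
  obtain ⟨K, hKn, hK, hidx⟩ := exists_complement_cen (G := G) P
  set K' : Subgroup G := K.map C.subtype with hK'
  set D : Subgroup G := N ⊓ K' with hD
  have hb : IsPBlock M (principalBlock M G) := isPBlock_principalBlock
  have hel : LocalCoeff M (blockElt (principalBlock M G)) := localCoeff_blockElt (isBlockUnion_of_isPBlock hb)
  have hcard : Nat.card K' = Nat.card K := by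
    rw [hK']
    exact Subgroup.card_map_of_injective (Subgroup.subtype_injective _)
  have hDdvd : Nat.card D ∣ Nat.card K := by
    rw [← hcard]
    exact Subgroup.card_dvd_of_le inf_le_right
  have hKne : (Nat.card K : ℂ) ≠ 0 := by exact_mod_cast Nat.card_pos.ne'
  -- the three sums
  have e1 : ∑ n : N, a (n : G) = ∑ g : G, if g ∈ N then a g else 0 := by
    rw [sum_eq_sum_subgroup N (fun g => if g ∈ N then a g else 0) (fun k hk => by simp [hk])]
    refine Finset.sum_congr rfl fun n _ => ?_
    simp
  have e2 : MemLocalIdeal M ((∑ g : G, if g ∈ N then a g else 0) - ∑ g : G, if g ∈ N ∧ g ∈ C then a g else 0) := by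
    letI := conjActSub (P : Subgroup G)
    rw [← Finset.sum_sub_distrib]
    refine memLocalIdeal_sum_of_fixed hM (Γ := (P : Subgroup G)) P.isPGroup' _ ?_ ?_ ?_
    · intro u g
      have h1 : u • g = (u : G) * g * (u : G)⁻¹ := rfl
      have h2 : (u : G) * g * (u : G)⁻¹ ∈ C ↔ g ∈ C := by
        have := Subgroup.mem_normalizer_iff.1 (normalizer_le_normalizer_cen (Subgroup.le_normalizer u.2)) g
        exact this.symm
      have h3 : (u : G) * g * (u : G)⁻¹ ∈ N ↔ g ∈ N := by
        constructor
        · intro h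
          have h5 := hN.conj_mem _ h (u : G)⁻¹
          simpa [mul_assoc] using h5
        · exact fun h => hN.conj_mem _ h _
      have h4 : a ((u : G) * g * (u : G)⁻¹) = a g := by
        rw [ha, ← coeff_blockElt, ← coeff_blockElt]
        exact isCentralElt_blockElt _ _ _
      rw [h1, h4]
      simp only [h2, h3]
    · intro g
      have hag : MemLocalRing M (a g) := by
        rw [ha, ← coeff_blockElt]
        exact hel g
      refine memLocalRing_sub ?_ ?_
      · split_ifs
        · exact hag
        · exact memLocalRing_zero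
      · split_ifs
        · exact hag
        · exact memLocalRing_zero
    · intro g hg
      have h1 : g ∈ C := by
        rw [Subgroup.mem_centralizer_iff]
        intro u hu
        have h2 : (u : G) * g * (u : G)⁻¹ = g := hg ⟨u, hu⟩
        exact mul_inv_eq_iff_eq_mul.1 h2
      by_cases h2 : g ∈ N
      · simp [h1, h2, memLocalIdeal_zero]
      · simp [h2, memLocalIdeal_zero]
  have e3 : MemLocalIdeal M ((∑ g : G, if g ∈ N ∧ g ∈ C then a g else 0) - ∑ g : G, if g ∈ D then (Nat.card K : ℂ)⁻¹ else 0) := by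
    rw [← Finset.sum_sub_distrib]
    refine memLocalIdeal_sum _ _ fun g _ => ?_
    by_cases h1 : g ∈ N ∧ g ∈ C
    · rw [if_pos h1]
      have h2 := localIdealCoeff_resAlg_principal hM (Q := (P : Subgroup G)) P.isPGroup' ⟨g, h1.2⟩
      rw [coeff_sub, Finsupp.sub_apply, coeff_resAlg, coeff_blockElt, coeff_blockElt] at h2
      by_cases h3 : (⟨g, h1.2⟩ : C) ∈ K
      · have h4 : g ∈ D := ⟨h1.1, ⟨⟨g, h1.2⟩, h3, rfl⟩⟩
        rw [if_pos h4]
        rwa [blockCoeff_principal_of_mem hM K hK hidx h3] at h2
      · have h4 : g ∉ D := by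
          rintro ⟨_, ⟨y, hy, rfl⟩⟩
          exact h3 hy
        rw [if_neg h4]
        rwa [blockCoeff_principal_of_notMem hM K hidx h3] at h2
    · have h4 : g ∉ D := by
        intro h5
        apply h1
        obtain ⟨h6, ⟨y, hy, rfl⟩⟩ := h5
        exact ⟨h6, y.2⟩
      rw [if_neg h1, if_neg h4, sub_zero]
      exact memLocalIdeal_zero
  have e4 : (∑ g : G, if g ∈ D then (Nat.card K : ℂ)⁻¹ else 0) = (Nat.card D : ℂ) * (Nat.card K : ℂ)⁻¹ := by
    rw [sum_eq_sum_subgroup D _ (fun k hk => by simp [hk])]
    simp only [SetLike.coe_mem, if_true, Finset.sum_const, Finset.card_univ, nsmul_eq_mul, Nat.card_eq_fintype_card]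
  rw [e1]
  intro h0
  have h1 : MemLocalIdeal M (∑ g : G, if g ∈ N ∧ g ∈ C then a g else 0) := by
    have := memLocalIdeal_sub h0 e2
    simpa using this
  have h2 : MemLocalIdeal M (∑ g : G, if g ∈ D then (Nat.card K : ℂ)⁻¹ else 0) := by
    have := memLocalIdeal_sub h1 e3
    simpa using this
  rw [e4] at h2
  have h3 := memLocalIdeal_mul_right h2 (memLocalRing_natCast (M := M) (Nat.card K))
  rw [mul_assoc, inv_mul_cancel₀ hKne, mul_one, memLocalIdeal_natCast_iff hM] at h3
  exact hK (h3.trans hDdvd)

/-- The trace of an induced function on a central element. -/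
theorem tr_indFun_central (T : Subgroup G) (ξ : T → ℂ) {z : MonoidAlgebra ℂ G} (hz : IsCentralElt z) :
    tr (indFun T ξ) z = (T.index : ℂ) * tr ξ (resAlg T z) := by
  classical
  have h1 : ∀ x : G, ∑ g : G, z.coeff g * extendByZero T ξ (x⁻¹ * g * x) = ∑ g : G, z.coeff g * extendByZero T ξ g := by
    intro x
    have h2 := (MulAut.conj x).toEquiv.sum_comp (fun g : G => z.coeff g * extendByZero T ξ (x⁻¹ * g * x))
    rw [← h2]
    refine Finset.sum_congr rfl fun g _ => ?_
    have h3 : (MulAut.conj x).toEquiv g = x * g * x⁻¹ := rfl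
    rw [h3, hz x g]
    congr 2
    group
  have h4 : ∑ g : G, z.coeff g * extendByZero T ξ g = tr ξ (resAlg T z) := by
    rw [sum_eq_sum_subgroup T _ (fun k hk => by rw [Cfsg.Agent.Lib.Degree.extendByZero_eq_of_notMem T ξ hk, mul_zero])]
    unfold tr
    refine Finset.sum_congr rfl fun t _ => ?_
    rw [coeff_resAlg, extendByZero_of_mem T ξ t.2]
  unfold tr at h4 ⊢
  simp only [indFun_apply, Finset.mul_sum]
  rw [Finset.sum_comm]
  have h5 : ∀ x : G, ∑ g : G, z.coeff g * ((Nat.card T : ℂ)⁻¹ * extendByZero T ξ (x⁻¹ * g * x)) =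
      (Nat.card T : ℂ)⁻¹ * ∑ t : T, (resAlg T z).coeff t * ξ t := by
    intro x
    rw [← h4, ← h1 x, Finset.mul_sum]
    refine Finset.sum_congr rfl fun g _ => ?_
    ring
  simp only [h5, Finset.sum_const, Finset.card_univ, nsmul_eq_mul]
  rw [← Nat.card_eq_fintype_card, ← Subgroup.card_mul_index T]
  have hc : (Nat.card T : ℂ) ≠ 0 := by exact_mod_cast Nat.card_pos.ne'
  push_cast
  field_simp
  rw [Finset.mul_sum]
  exact Finset.sum_congr rfl fun _ _ => by ring

/-- The main theorem. -/
theorem exists_principal_over (hM : IsPModular p M) (N : Subgroup G) [hN : N.Normal] (P : Sylow p G)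
    (θ : IrrCharacter N) (hθ : θ ∈ principalBlock M N) (hdeg : ¬ p ∣ charDegree (θ : N → ℂ))
    (T : Subgroup G) (hT : T = N ⊔ (P : Subgroup G)) (hNT : N ≤ T) (η : IrrCharacter T)
    (hext : ∀ n : N, (η : T → ℂ) (Subgroup.inclusion hNT n) = (θ : N → ℂ) n) :
    ∃ χ : IrrCharacter G, χ ∈ principalBlock M G ∧ ¬ p ∣ charDegree (χ : G → ℂ) ∧
      classInner (fun n : N => (χ : G → ℂ) n) (θ : N → ℂ) ≠ 0 := by
  classical
  have hprime := isPModular_isPrime hM
  have hPT : (P : Subgroup G) ≤ T := hT ▸ le_sup_right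
  set z := blockElt (principalBlock M G) with hz
  have hb : IsPBlock M (principalBlock M G) := isPBlock_principalBlock
  have hzl : LocalCoeff M z := localCoeff_blockElt (isBlockUnion_of_isPBlock hb)
  have hzc : IsCentralElt z := isCentralElt_blockElt (principalBlock M G)
  set Ψ := indFun T (η : T → ℂ) with hΨ
  have hΨc : IsCharacter G Ψ := indFun_isCharacter T (IsIrrCharacter.isCharacter η.2)
  have hcl := IsCharacter.isClassFunction hΨc
  have hsub : ∃ k : ℕ, (N.subgroupOf T).index = p ^ k := by
    have h1 : (N.subgroupOf T).index = (N.subgroupOf (P : Subgroup G)).index := by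
      rw [← Subgroup.relIndex, ← Subgroup.relIndex, hT, Subgroup.relIndex_sup_left]
    rw [h1]
    exact P.isPGroup'.index _
  have hreg : ∀ g : G, g ∈ T → g ∉ N → z.coeff g = 0 := by
    intro g hgT hgN
    refine coeff_blockElt_of_singular hM (isBlockUnion_of_isPBlock hb) g ?_
    by_contra hpg
    have h1 : ¬ p ∣ orderOf (⟨g, hgT⟩ : T) := by
      rwa [Subgroup.orderOf_mk]
    exact hgN (mem_of_regular_of_index (N.subgroupOf T) hsub h1)
  have htr : tr (η : T → ℂ) (resAlg T z) = tr (θ : N → ℂ) (resAlg N z) := by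
    unfold tr
    let F : G → ℂ := fun g => if h : g ∈ T then z.coeff g * (η : T → ℂ) ⟨g, h⟩ else 0
    have h1 : ∑ t : T, (resAlg T z).coeff t * (η : T → ℂ) t = ∑ g : G, F g := by
      rw [sum_eq_sum_subgroup T F (fun k hk => by simp [F, hk])]
      refine Finset.sum_congr rfl fun t _ => ?_
      simp [F, coeff_resAlg]
    have h2 : ∑ n : N, (resAlg N z).coeff n * (θ : N → ℂ) n = ∑ g : G, F g := by
      rw [sum_eq_sum_subgroup N F (fun k hk => by
        by_cases h3 : k ∈ T
        · simp [F, h3, hreg k h3 hk]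
        · simp [F, h3])]
      refine Finset.sum_congr rfl fun n _ => ?_
      have h3 : (n : G) ∈ T := hNT n.2
      simp only [F, dif_pos h3, coeff_resAlg]
      rw [← hext n]
      rfl
    rw [h1, h2]
  have hNc : IsCentralElt (resAlg N z) := isCentralElt_resAlg _ hzc
  have hNl : LocalCoeff M (resAlg N z) := localCoeff_resAlg _ hzl
  have hθ1 : (θ : N → ℂ) 1 = (charDegree (θ : N → ℂ) : ℕ) := map_one_eq_charDegree (IsIrrCharacter.isCharacter θ.2)
  -- the central character is congruent to the coefficient sum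
  have hom1 : MemLocalIdeal M (om (θ : N → ℂ) (resAlg N z) - ∑ n : N, blockCoeff (principalBlock M G) (n : G)) := by
    have h1 := memLocalIdeal_om_sub θ.2 (oneIrr N).2 (sameBlock_symm hθ) hNc hNl
    have h2 : om ((oneIrr N : IrrCharacter N) : N → ℂ) (resAlg N z) = ∑ n : N, blockCoeff (principalBlock M G) (n : G) := by
      unfold om tr
      simp only [oneIrr_coe, coeff_resAlg, mul_one, div_one, hz, coeff_blockElt]
    rwa [h2] at h1
  have hnot := sum_normal_principal_not_mem hM N P
  have hom2 : ¬ MemLocalIdeal M (om (θ : N → ℂ) (resAlg N z)) := by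
    intro h0
    apply hnot
    have := memLocalIdeal_sub h0 hom1
    simpa using this
  have hpT : ¬ p ∣ T.index := by
    intro h
    apply P.not_dvd_index
    exact h.trans (Subgroup.index_dvd_of_le hPT)
  have hθ1ne : (θ : N → ℂ) 1 ≠ 0 := isIrr_one_ne_zero θ.2
  have htr2 : tr Ψ z = (T.index : ℂ) * ((θ : N → ℂ) 1 * om (θ : N → ℂ) (resAlg N z)) := by
    rw [hΨ, tr_indFun_central T _ hzc, htr]
    unfold om
    field_simp
  have hnotin : ¬ MemLocalIdeal M (tr Ψ z) := by
    rw [htr2]
    refine not_memLocalIdeal_mul (memLocalRing_natCast _) (memLocalRing_mul (by rw [hθ1]; exact memLocalRing_natCast _) (memLocalRing_om θ.2 hNc hNl)) ?_ ?_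
    · rwa [memLocalIdeal_natCast_iff hM]
    · refine not_memLocalIdeal_mul (by rw [hθ1]; exact memLocalRing_natCast _) (memLocalRing_om θ.2 hNc hNl) ?_ hom2
      rw [hθ1, memLocalIdeal_natCast_iff hM]
      exact hdeg
  -- expand `Ψ`
  have hexp : tr Ψ z = ∑ χ : IrrCharacter G, classInner Ψ (χ : G → ℂ) * (if χ ∈ principalBlock M G then (χ : G → ℂ) 1 else 0) := by
    have h1 := classFunction_eq_sum Ψ hcl
    have h2 : ∀ χ : IrrCharacter G, (if χ ∈ principalBlock M G then (χ : G → ℂ) 1 else 0) = tr (χ : G → ℂ) z := by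
      intro χ
      rw [hz, tr_blockElt]
    simp only [h2]
    unfold tr
    simp only [Finset.mul_sum]
    rw [Finset.sum_comm]
    refine Finset.sum_congr rfl fun g _ => ?_
    conv_lhs => rw [h1]
    simp only [Finset.sum_apply, Pi.smul_apply, smul_eq_mul, Finset.mul_sum]
    refine Finset.sum_congr rfl fun χ _ => ?_
    ring
  -- choose the constituent
  have hex : ∃ χ : IrrCharacter G, χ ∈ principalBlock M G ∧ classInner Ψ (χ : G → ℂ) ≠ 0 ∧ ¬ p ∣ charDegree (χ : G → ℂ) := by
    by_contra hcon
    push Not at hcon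
    apply hnotin
    rw [hexp]
    refine memLocalIdeal_sum _ _ fun χ _ => ?_
    by_cases h1 : χ ∈ principalBlock M G
    · rw [if_pos h1]
      by_cases h2 : classInner Ψ (χ : G → ℂ) = 0
      · rw [h2, zero_mul]
        exact memLocalIdeal_zero
      · have h3 := hcon χ h1 h2
        obtain ⟨c, hc⟩ := classInner_isCharacter_nat hΨc (IsIrrCharacter.isCharacter χ.2)
        rw [hc, map_one_eq_charDegree (IsIrrCharacter.isCharacter χ.2)]
        exact memLocalIdeal_mul_left (memLocalRing_natCast _) ((memLocalIdeal_natCast_iff hM _).2 h3)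
    · rw [if_neg h1, mul_zero]
      exact memLocalIdeal_zero
  obtain ⟨χ, hχ, hχΨ, hχd⟩ := hex
  refine ⟨χ, hχ, hχd, ?_⟩
  -- the constituent lies over `θ`
  have hχc := IsIrrCharacter.isCharacter χ.2
  have hfr : classInner (fun t : T => (χ : G → ℂ) t) (η : T → ℂ) ≠ 0 := by
    rw [hΨ, frobenius_reciprocity T _ _ (IsCharacter.isClassFunction hχc)] at hχΨ
    intro h0
    apply hχΨ
    rw [← conj_classInner, h0, map_zero]
  have hκ := isCharacter_sub_of_constituent (IsCharacter.restrict T hχc) η.2 hfr
  have hresκ : IsCharacter N (fun n : N => ((fun t : T => (χ : G → ℂ) t) - (η : T → ℂ)) (Subgroup.inclusion hNT n)) :=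
    IsCharacter.comp (Subgroup.inclusion hNT) hκ
  obtain ⟨b, hb⟩ := classInner_isCharacter_nat hresκ (IsIrrCharacter.isCharacter θ.2)
  have hsplit : (fun n : N => (χ : G → ℂ) n) = (θ : N → ℂ) +
      fun n : N => ((fun t : T => (χ : G → ℂ) t) - (η : T → ℂ)) (Subgroup.inclusion hNT n) := by
    funext n
    have h1 := hext n
    simp only [Pi.add_apply, Pi.sub_apply]
    rw [← h1]
    simp
  rw [hsplit, classInner_add_left, hb, classInner_irr_self θ.2]
  have : ((1 : ℂ) + (b : ℂ)) = ((1 + b : ℕ) : ℂ) := by push_cast; ring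
  rw [this]
  exact Nat.cast_ne_zero.mpr (by omega)

end Coeff

end Cfsg.Agent.Lib.CharExtra
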